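import Cfsg.Agent.Lib.ZStar.Q8Block
import Cfsg.Agent.Lib.Char.Exceptional.TISet
import Cfsg.Agent.Lib.CharAction.PGroup
import Cfsg.Agent.Lib.TwoGroups.FusionTools
import Mathlib.GroupTheory.SpecificGroups.Quaternion

/-!
# Brauer–Suzuki for a quaternion Sylow 2-subgroup of order 8
-/

namespace CfsgLib.ZStar

open Cfsg CfsgLib.Char CfsgLib.Char.Exceptional
open scoped ComplexConjugate Classical

/-- Representatives of the three cyclic subgroups of order four of `Q₈`. -/
def q8Rep : Fin 3 → QuaternionGroup 2 := ![.a 1, .xa 0, .xa 1]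

/-- The three linear characters of `Q₈` of order two. -/
def q8Lin (i : Fin 3) : QuaternionGroup 2 →* Multiplicative (ZMod 2) where
  toFun z := Multiplicative.ofAdd (match z, i with
    | .a _, 0 => 0
    | .xa _, 0 => 1
    | .a k, 1 => (k.val : ZMod 2)
    | .xa k, 1 => (k.val : ZMod 2)
    | .a k, 2 => (k.val : ZMod 2)
    | .xa k, 2 => (k.val : ZMod 2) + 1)
  map_one' := by revert i; decide
  map_mul' := by revert i; decide

theorem q8_cases : ∀ z : QuaternionGroup 2, z = 1 ∨ z = .a 2 ∨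
    ∃ j, ∃ w : QuaternionGroup 2, w * q8Rep j * w⁻¹ = z := by decide

theorem q8Lin_rep : ∀ i j : Fin 3, ∀ w : QuaternionGroup 2,
    q8Lin i (w * q8Rep j * w⁻¹) = if i = j then 1 else Multiplicative.ofAdd 1 := by decide

theorem q8_sq_eq_one : ∀ z : QuaternionGroup 2, z ^ 2 = 1 → z = 1 ∨ z = .a 2 := by decide

theorem q8_two_central : ∀ z : QuaternionGroup 2, .a 2 * z = z * .a 2 := by decide

theorem q8Rep_sq : ∀ j : Fin 3, q8Rep j ^ 2 = .a 2 := by decide

theorem q8_two_ne : (.a 2 : QuaternionGroup 2) ≠ 1 := by decide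

theorem q8_inverts : q8Rep 1 * q8Rep 0 * (q8Rep 1)⁻¹ = (q8Rep 0)⁻¹ := by decide

variable {G : Type*} [Group G] [Fintype G] (S : Sylow 2 G)
  (e : (S : Subgroup G) ≃* QuaternionGroup 2)

include e in
theorem all_four_conj (hperf : commutator G = ⊤) (j : Fin 3) :
    IsConj ((e.symm (q8Rep 0) : (S : Subgroup G)) : G) (e.symm (q8Rep j) : (S : Subgroup G)) := by
  let r : Fin 3 → G := fun j => ((e.symm (q8Rep j) : (S : Subgroup G)) : G)
  by_contra hj
  obtain ⟨i, hi⟩ : ∃ i, ∀ j, j ≠ i → ¬ IsConj (r i) (r j) := by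
    by_contra hno
    push Not at hno
    obtain ⟨a, ha0, ha⟩ := hno 0
    obtain ⟨b, hb1, hb⟩ := hno 1
    obtain ⟨c, hc2, hc⟩ := hno 2
    refine hj ?_
    have hall : IsConj (r 0) (r 1) ∧ IsConj (r 0) (r 2) := by
      rcases (show a = 1 ∨ a = 2 by revert ha0; fin_cases a <;> simp) with rfl | rfl
      · rcases (show c = 0 ∨ c = 1 by revert hc2; fin_cases c <;> simp) with rfl | rfl
        · exact ⟨ha, hc.symm⟩
        · exact ⟨ha, ha.trans hc.symm⟩
      · rcases (show b = 0 ∨ b = 2 by revert hb1; fin_cases b <;> simp) with rfl | rfl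
        · exact ⟨hb.symm, ha⟩
        · exact ⟨ha.trans hb.symm, ha⟩
    fin_cases j
    exacts [IsConj.refl _, hall.1, hall.2]
  let χ : (S : Subgroup G) →* Multiplicative (ZMod 2) := (q8Lin i).comp e.toMonoidHom
  have hsurj : Function.Surjective χ := by
    obtain ⟨k, hk⟩ : ∃ k : Fin 3, i ≠ k := ⟨i + 1, by fin_cases i <;> decide⟩
    intro v
    have h1 := q8Lin_rep i k 1
    rw [one_mul, inv_one, mul_one, if_neg hk] at h1
    rcases (show ∀ v : Multiplicative (ZMod 2), v = 1 ∨ v = Multiplicative.ofAdd 1 by decide) v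
      with rfl | rfl
    · exact ⟨1, map_one χ⟩
    · exact ⟨e.symm (q8Rep k), by simp [χ, h1]⟩
  have hinv : ∀ a b : (S : Subgroup G), (∃ g : G, g * a * g⁻¹ = b) → χ a = χ b := by
    intro a b hab
    have hconj : IsConj (a : G) b := isConj_iff.2 hab
    have hrep : ∀ c : (S : Subgroup G), (c : G) ^ 2 ≠ 1 →
        ∃ j, IsConj (c : G) (r j) ∧ χ c = if i = j then 1 else Multiplicative.ofAdd 1 := by
      intro c hc
      rcases q8_cases (e c) with h | h | ⟨j, w, h⟩
      · refine absurd ?_ hc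
        rw [← Subgroup.coe_pow, ← e.symm_apply_apply c, h]; simp
      · refine absurd ?_ hc
        rw [← Subgroup.coe_pow, ← e.symm_apply_apply c, h, ← map_pow,
          show (QuaternionGroup.a 2 : QuaternionGroup 2) ^ 2 = 1 by decide]
        simp
      · refine ⟨j, ?_, ?_⟩
        · refine (isConj_iff.2 ⟨((e.symm w : (S : Subgroup G)) : G), ?_⟩).symm
          rw [← Subgroup.coe_inv, ← Subgroup.coe_mul, ← Subgroup.coe_mul, ← map_inv, ← map_mul,
            ← map_mul, h, e.symm_apply_apply]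
        · show q8Lin i (e c) = _
          rw [← h, q8Lin_rep]
    by_cases ha : (a : G) ^ 2 = 1
    · obtain ⟨g, hg⟩ := hab
      have hb : (b : G) ^ 2 = 1 := by rw [← hg, conj_pow, ha]; group
      have hval : ∀ c : (S : Subgroup G), (c : G) ^ 2 = 1 → χ c = 1 := fun c hc => by
        rcases q8_sq_eq_one (e c) (by
          rw [← map_pow, show c ^ 2 = 1 from Subtype.ext (by simpa using hc), map_one]) with h | h <;>
          show q8Lin i (e c) = 1 <;> rw [h]
        · exact map_one _
        · exact (show ∀ i, q8Lin i (QuaternionGroup.a 2) = 1 by decide) i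
      rw [hval a ha, hval b hb]
    · have hb : (b : G) ^ 2 ≠ 1 := by
        obtain ⟨g, hg⟩ := hab
        rw [← hg, conj_pow]
        exact fun h => ha (conj_eq_one_iff.1 h)
      obtain ⟨j₁, h1, h1'⟩ := hrep a ha
      obtain ⟨j₂, h2, h2'⟩ := hrep b hb
      rw [h1', h2']
      have h12 : IsConj (r j₁) (r j₂) := h1.symm.trans (hconj.trans h2)
      refine if_congr ?_ rfl rfl
      constructor
      · rintro rfl
        by_contra h
        exact hi j₂ (Ne.symm h) h12
      · rintro rfl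
        by_contra h
        exact hi j₁ (Ne.symm h) h12.symm
  obtain ⟨K, hK, hKi, -⟩ := CfsgLib.TwoGroups.exists_normal_of_fusion_invariant S
    (IsPGroup.of_card (n := 1) (by simp)) χ hsurj hinv
  have hi2 : K.index = 2 := by rw [hKi]; simp
  have : IsCyclic (G ⧸ K) := isCyclic_of_prime_card (p := 2) hi2
  have hle : commutator G ≤ K := by
    rw [commutator_def, Subgroup.commutator_le]
    intro a _ b _
    rw [← QuotientGroup.eq_one_iff, ← QuotientGroup.mk'_apply, map_commutatorElement,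
      commutatorElement_eq_one_iff_mul_comm]
    exact IsCyclic.isMulCommutative.is_comm.comm _ _
  rw [hperf, top_le_iff] at hle
  rw [hle, Subgroup.index_top] at hi2
  norm_num at hi2

include e in
/-- A perfect group with a quaternion Sylow 2-subgroup of order 8: the involution lies in the
kernel of a nonprincipal irreducible character. -/
theorem q8_exists_ker (hperf : commutator G = ⊤) :
    ∃ χ : IrrCharacter G, χ ≠ trivChar G ∧
      (χ : G → ℂ) ((e.symm (.a 2) : (S : Subgroup G)) : G) = (χ : G → ℂ) 1 := by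
  set u : G := ((e.symm (.a 2) : (S : Subgroup G)) : G) with hu
  set H := Subgroup.centralizer ({u} : Set G) with hH
  have hSH : (S : Subgroup G) ≤ H := fun s hs => by
    rw [Subgroup.mem_centralizer_singleton_iff]
    have h := congrArg Subtype.val (congrArg e.symm (q8_two_central (e ⟨s, hs⟩)))
    simpa [hu] using h.symm
  have hu2 : orderOf u = 2 := by
    rw [hu, Subgroup.orderOf_coe, MulEquiv.orderOf_eq]
    exact orderOf_eq_prime (by decide) q8_two_ne
  have huH : u ∈ H := Subgroup.mem_centralizer_singleton_iff.2 rfl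
  set SH : Sylow 2 H := S.subtype hSH with hSHdef
  have hucent : ∀ h : H, Commute (⟨u, huH⟩ : H) h := fun h =>
    Subtype.ext (Subgroup.mem_centralizer_singleton_iff.1 h.2).symm
  have hinv : ∀ h : H, orderOf h = 2 → h = ⟨u, huH⟩ := by
    intro h hh
    obtain ⟨Q, hQ⟩ := (IsPGroup.of_card (p := 2) (n := 1)
      (show Nat.card (Subgroup.zpowers h) = 2 ^ 1 by rw [Nat.card_zpowers, hh, pow_one])).exists_le_sylow
    obtain ⟨g, hg⟩ := MulAction.exists_smul_eq H Q SH
    have hm : g * h * g⁻¹ ∈ (SH : Subgroup H) := by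
      rw [← hg, Sylow.coe_subgroup_smul]
      exact ⟨h, hQ (Subgroup.mem_zpowers h), rfl⟩
    have hm' : ((g * h * g⁻¹ : H) : G) ∈ (S : Subgroup G) := hm
    have ho : orderOf (e ⟨_, hm'⟩) = 2 := by
      rw [MulEquiv.orderOf_eq, ← Subgroup.orderOf_coe]
      show orderOf ((g * h * g⁻¹ : H) : G) = 2
      rw [Subgroup.orderOf_coe, orderOf_conj', hh]
    have heq : g * h * g⁻¹ = ⟨u, huH⟩ := by
      rcases q8_sq_eq_one _ (orderOf_dvd_iff_pow_eq_one.1 (dvd_of_eq ho)) with h' | h'
      · rw [h', orderOf_one] at ho; norm_num at ho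
      · refine Subtype.ext ?_
        show ((⟨_, hm'⟩ : (S : Subgroup G)) : G) = u
        rw [hu, ← h', e.symm_apply_apply]
    calc h = g⁻¹ * (g * h * g⁻¹) * g := by group
      _ = g⁻¹ * (⟨u, huH⟩ * g) := by rw [heq, mul_assoc]
      _ = ⟨u, huH⟩ := by rw [(hucent g).eq]; group
  let r : Fin 3 → H := fun j => ⟨((e.symm (q8Rep j) : (S : Subgroup G)) : G), hSH (Subtype.coe_prop _)⟩
  have hr4 : ∀ j, orderOf (r j) = 4 := fun j => by
    rw [← Subgroup.orderOf_coe]
    show orderOf ((e.symm (q8Rep j) : (S : Subgroup G)) : G) = 4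
    rw [Subgroup.orderOf_coe, MulEquiv.orderOf_eq]
    exact orderOf_eq_prime_pow (p := 2) (n := 1) (by revert j; decide) (by revert j; decide)
  have hr2 : ∀ j, r j * r j = (⟨u, huH⟩ : H) := fun j => Subtype.ext (by
    show ((e.symm (q8Rep j) : (S : Subgroup G)) : G) * ((e.symm (q8Rep j) : (S : Subgroup G)) : G) = u
    rw [← Subgroup.coe_mul, ← map_mul, ← pow_two, q8Rep_sq, hu])
  have hconj4 : ∀ h : H, orderOf h = 4 → IsConj (r 0) h := by
    intro h hh
    obtain ⟨Q, hQ⟩ := (IsPGroup.of_card (p := 2) (n := 2)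
      (show Nat.card (Subgroup.zpowers (h : G)) = 2 ^ 2 by
        rw [Nat.card_zpowers, Subgroup.orderOf_coe, hh]; norm_num)).exists_le_sylow
    obtain ⟨g, hg⟩ := MulAction.exists_smul_eq G Q S
    have hm : g * h * g⁻¹ ∈ (S : Subgroup G) := by
      rw [← hg, Sylow.coe_subgroup_smul]
      exact ⟨(h : G), hQ (Subgroup.mem_zpowers _), rfl⟩
    have ho : orderOf (e ⟨_, hm⟩) = 4 := by
      rw [MulEquiv.orderOf_eq, ← Subgroup.orderOf_coe]
      show orderOf (g * (h : G) * g⁻¹) = 4
      rw [orderOf_conj', Subgroup.orderOf_coe, hh]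
    rcases q8_cases (e ⟨_, hm⟩) with h' | h' | ⟨j, w, hw⟩
    · rw [h', orderOf_one] at ho; norm_num at ho
    · rw [h', orderOf_eq_prime (p := 2) (by decide) q8_two_ne] at ho; norm_num at ho
    · obtain ⟨c, hc⟩ := isConj_iff.1 (all_four_conj S e hperf j)
      set w' : G := ((e.symm w : (S : Subgroup G)) : G)
      have hconj : (g⁻¹ * w' * c) * (r 0 : G) * (g⁻¹ * w' * c)⁻¹ = (h : G) := by
        have h1 : w' * ((e.symm (q8Rep j) : (S : Subgroup G)) : G) * w'⁻¹ = g * h * g⁻¹ := by
          rw [← Subgroup.coe_inv, ← Subgroup.coe_mul, ← Subgroup.coe_mul, ← map_inv, ← map_mul,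
            ← map_mul, hw, e.symm_apply_apply]
        calc (g⁻¹ * w' * c) * (r 0 : G) * (g⁻¹ * w' * c)⁻¹
            = g⁻¹ * (w' * (c * (r 0 : G) * c⁻¹) * w'⁻¹) * g := by group
          _ = _ := by rw [show c * (r 0 : G) * c⁻¹ = _ from hc, h1]; group
      set k := g⁻¹ * w' * c
      have hku : k * u * k⁻¹ = u := by
        have h2 : h * h = ⟨u, huH⟩ := hinv _ (by
          rw [← pow_two, orderOf_pow' _ two_ne_zero, hh]; norm_num)
        have e1 : (r 0 : G) * (r 0 : G) = u := congrArg Subtype.val (hr2 0)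
        have e2 : (h : G) * (h : G) = u := congrArg Subtype.val h2
        calc k * u * k⁻¹ = k * ((r 0 : G) * (r 0 : G)) * k⁻¹ := by rw [e1]
          _ = (k * (r 0 : G) * k⁻¹) * (k * (r 0 : G) * k⁻¹) := by group
          _ = u := by rw [hconj, e2]
      exact isConj_iff.2 ⟨⟨k, Subgroup.mem_centralizer_singleton_iff.2
        (by rw [mul_inv_eq_iff_eq_mul] at hku; exact hku)⟩, Subtype.ext hconj⟩
  let d : Q8Data H :=
    { u := ⟨u, huH⟩, x := r 0, y := r 1, S := SH
      u_two := by rw [← Subgroup.orderOf_coe]; exact hu2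
      u_central := hucent
      inv_eq := hinv
      x_four := hr4 0
      y_four := hr4 1
      x_mem := (e.symm (q8Rep 0)).2
      y_mem := (e.symm (q8Rep 1)).2
      y_conj := Subtype.ext (by
        have h := congrArg Subtype.val (congrArg e.symm q8_inverts)
        simpa [r] using h)
      conj4 := hconj4
      card_S := by
        show Nat.card ((S : Subgroup G).subgroupOf H) = 8
        rw [Nat.card_congr (Subgroup.subgroupOfEquivOfLe hSH).toEquiv, Nat.card_congr e.toEquiv,
          Nat.card_eq_fintype_card, QuaternionGroup.card] }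
  obtain ⟨M, hM⟩ := exists_isPModular Nat.prime_two
  have := hM.2.1.isPrime
  have : Fact (Nat.Prime 2) := ⟨Nat.prime_two⟩
  obtain ⟨q, φ, hgen, hodd, hφφ, hφ1, hφxi, -, -, hkey⟩ := d.exists_functions hM
  -- the trivial intersection set
  set A : Set G := {g | g ∈ H ∧ Even (orderOf g)} with hA
  have hTI : ∀ g : G, g ∉ H → ∀ s ∈ A, g * s * g⁻¹ ∉ A := by
    rintro g hg s ⟨hsH, hse⟩ ⟨hcH, -⟩
    obtain ⟨m, hm⟩ := hse
    have hm0 : m ≠ 0 := fun h => (orderOf_pos s).ne' (by rw [hm, h])
    have hpow : ∀ z : G, z ∈ H → orderOf z = m + m → z ^ m = u := fun z hz hzo => by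
      have := hinv (⟨z, hz⟩ ^ m) (by
        rw [← Subgroup.orderOf_coe, Subgroup.coe_pow, orderOf_pow' _ hm0, hzo,
          Nat.gcd_eq_right ⟨2, by ring⟩, ← two_mul, Nat.mul_div_cancel _ (Nat.pos_of_ne_zero hm0)])
      exact congrArg Subtype.val this
    have h1 := hpow s hsH hm
    have h2 := hpow _ hcH (by rw [orderOf_conj', hm])
    rw [conj_pow, h1, mul_inv_eq_iff_eq_mul] at h2
    exact hg (Subgroup.mem_centralizer_singleton_iff.2 h2)
  have hsupp : ∀ (f : H → ℂ), (∀ h, Odd (orderOf h) → f h = 0) →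
      ∀ x : H, (x : G) ∉ A → f x = 0 := fun f hf x hx => hf x (by
    rw [← Subgroup.orderOf_coe]
    exact Nat.not_even_iff_odd.1 fun h => hx ⟨x.2, h⟩)
  have hxiodd : ∀ h : H, Odd (orderOf h) → d.xi h = 0 := fun h hh => d.xi_odd hh
  set Θ : Fin 3 → G → ℂ := fun k => Cfsg.indFun H (φ k) with hΘ
  set Ξ : G → ℂ := Cfsg.indFun H d.xi with hΞ
  have hclass : ∀ k, IsClassFunction H (φ k) := fun k =>
    CfsgLib.Char.IsGen.isClassFunction (hgen k)
  have hΘgen : ∀ k, IsGeneralizedCharacter G (Θ k) := fun k =>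
    CfsgLib.Char.IsGen.indFun (hgen k)
  have hΘΘ : ∀ k l, classInner (Θ k) (Θ l) = if k = l then 3 else 1 := fun k l => by
    rw [hΘ]
    dsimp only
    rw [ti_indFun_inner hTI (hsupp _ (hodd k)) (hclass l) (hsupp _ (hodd l)), hφφ]
  have hΘ1 : ∀ k, classInner (Θ k) (fun _ => 1) = 1 := fun k => by
    rw [hΘ]
    dsimp only
    rw [frobenius_reciprocity H (φ k) (IsIrr.isClassFunction isIrrCharacter_one)]
    exact hφ1 k
  have hdeg0 : ∀ k, Θ k 1 = 0 := fun k => by
    rw [hΘ]
    dsimp only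
    rw [indFun_apply_one, hodd k 1 (by simp), mul_zero]
  choose a b ha hb ha1 hb1 hab hΘab using fun k =>
    CfsgLib.Char.Exceptional.IsGen.norm_three (hΘgen k) (by rw [hΘΘ, if_pos rfl]) (hΘ1 k) (hdeg0 k)
  have hvi : ∀ k (χ : IrrCharacter G), classInner (fun h : H => (χ : G → ℂ) h) (φ k) =
      conj (classInner (Θ k) (χ : G → ℂ)) := fun k χ => by
    rw [hΘ]
    dsimp only
    rw [frobenius_reciprocity H (φ k) (IsIrr.isClassFunction χ.2), classInner_conj_symm]
  let A₀ : IrrCharacter G := ⟨b 0, hb 0⟩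
  let B₀ : IrrCharacter G := ⟨a 0, ha 0⟩
  have hΘc : ∀ k (χ : IrrCharacter G), classInner (Θ k) (χ : G → ℂ) =
      (if trivChar G = χ then 1 else 0) + (if ⟨b k, hb k⟩ = χ then 1 else 0) -
        (if ⟨a k, ha k⟩ = χ then 1 else 0) := fun k χ => by
    rw [hΘab k, classInner_sub_left, classInner_add_left, ← classInner_irr, ← classInner_irr,
      ← classInner_irr]
    rfl
  have hAB : A₀ ≠ B₀ := fun h => by
    have h' := congrFun (congrArg Subtype.val h) 1
    have := hab 0
    simp only [A₀, B₀] at h'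
    rw [h'] at this
    simp at this
  have htA : trivChar G ≠ A₀ := fun h => hb1 0 (congrArg Subtype.val h).symm
  have htB : trivChar G ≠ B₀ := fun h => ha1 0 (congrArg Subtype.val h).symm
  have hvA : ∀ k, classInner (Θ k) (A₀ : G → ℂ) = if k = 0 then 1 else 0 := by
    intro k
    split_ifs with hk
    · subst hk
      rw [hΘc, if_neg htA, if_pos rfl, if_neg (Ne.symm hAB)]; ring
    · have h := hΘΘ k 0
      rw [if_neg hk, hΘab 0, classInner_sub_right, classInner_add_right, hΘ1] at h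
      have h1 := hΘc k A₀
      have h2 := hΘc k B₀
      change 1 + classInner (Θ k) (A₀ : G → ℂ) - classInner (Θ k) (B₀ : G → ℂ) = 1 at h
      rw [h1, h2, if_neg htA, if_neg htB] at h
      rw [h1, if_neg htA]
      have hd : (⟨b k, hb k⟩ : IrrCharacter G) ≠ ⟨a k, ha k⟩ := fun h' => by
        have h'' := congrFun (congrArg Subtype.val h') 1
        have := hab k
        simp only at h''
        rw [h''] at this
        simp at this
      by_cases e1 : (⟨b k, hb k⟩ : IrrCharacter G) = A₀ <;>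
        by_cases e2 : (⟨a k, ha k⟩ : IrrCharacter G) = A₀
      · exact absurd (e1.trans e2.symm) hd
      · exfalso
        rw [if_pos e1, if_neg e2, if_neg (e1 ▸ hAB)] at h
        split_ifs at h <;> norm_num at h
      · exfalso
        rw [if_neg e1, if_pos e2, if_neg (show ¬(⟨a k, ha k⟩ : IrrCharacter G) = B₀ from
          e2 ▸ hAB)] at h
        split_ifs at h <;> norm_num at h
      · rw [if_neg e1, if_neg e2]; norm_num
  have hvB : ∀ k, classInner (Θ k) (B₀ : G → ℂ) = if k = 0 then -1 else 0 := by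
    intro k
    split_ifs with hk
    · subst hk
      rw [hΘc, if_neg htB, if_pos rfl, if_neg hAB]; ring
    · have h := hΘΘ k 0
      rw [if_neg hk, hΘab 0, classInner_sub_right, classInner_add_right, hΘ1] at h
      change 1 + classInner (Θ k) (A₀ : G → ℂ) - classInner (Θ k) (B₀ : G → ℂ) = 1 at h
      rw [hvA, if_neg hk] at h
      linear_combination -h
  -- the multiplicities of `Ξ`
  have hΞgen : IsGeneralizedCharacter G Ξ := CfsgLib.Char.IsGen.indFun d.xi_gen
  have hΞΞ : classInner Ξ Ξ = 4 := by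
    rw [hΞ, ti_indFun_inner hTI (hsupp _ hxiodd) d.isClassFunction_xi (hsupp _ hxiodd), d.xi_norm]
  have hΞ1 : classInner Ξ (trivChar G : G → ℂ) = 1 := by
    rw [hΞ, frobenius_reciprocity H _ (IsIrr.isClassFunction (trivChar G).2)]
    exact (d.inner_xi _ (c := 1) fun g _ => rfl).trans (map_one _)
  have hΘΞ : classInner (Θ 0) Ξ = 2 := by
    rw [hΞ, hΘ]
    dsimp only
    rw [ti_indFun_inner hTI (hsupp _ (hodd 0)) d.isClassFunction_xi (hsupp _ hxiodd), hφxi]
  have := Fintype.ofFinite (IrrCharacter G)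
  obtain ⟨m, hm⟩ := CfsgLib.Char.IsGen.exists_sum hΞgen
  have hmc : ∀ χ : IrrCharacter G, classInner Ξ (χ : G → ℂ) = (m χ : ℂ) := fun χ => by
    rw [hm, classInner_sum_irr]
  have hm1 : m (trivChar G) = 1 := by exact_mod_cast (hmc _).symm.trans hΞ1
  have hdiff : m A₀ - m B₀ = 1 := by
    have h := hΘΞ
    rw [hΘab 0, classInner_sub_left, classInner_add_left] at h
    have hflip : ∀ χ : IrrCharacter G, classInner (χ : G → ℂ) Ξ = (m χ : ℂ) := fun χ => by
      rw [← classInner_conj_symm, hmc, map_intCast]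
    change classInner (trivChar G : G → ℂ) Ξ + classInner (A₀ : G → ℂ) Ξ -
      classInner (B₀ : G → ℂ) Ξ = 2 at h
    rw [hflip, hflip, hflip, hm1] at h
    have : ((m A₀ - m B₀ : ℤ) : ℂ) = ((1 : ℤ) : ℂ) := by push_cast at h ⊢; linear_combination h
    exact_mod_cast this
  have hbound : m A₀ * m A₀ + m B₀ * m B₀ ≤ 3 := by
    have h := hΞΞ
    rw [hm, CfsgLib.Char.IsGen.classInner_self] at h
    have h4 : ∑ χ, m χ * m χ = 4 := by exact_mod_cast h
    have hsub := Finset.sum_le_sum_of_subset_of_nonneg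
      (f := fun χ => m χ * m χ) (Finset.subset_univ ({trivChar G, A₀, B₀} : Finset _))
      (fun χ _ _ => mul_self_nonneg (m χ))
    rw [Finset.sum_insert (by simp [htA, htB]), Finset.sum_pair hAB, hm1, h4] at hsub
    linarith
  -- both characters lie in the principal block
  have hB0 : A₀ ∈ principalBlock M G ∧ B₀ ∈ principalBlock M G := by
    have h0 := Blocks.blockPart_eq_zero_of_section (x := 1) (z := 1) (ϑ := Θ 0) hM
      (isPBlock_principalBlock (G := G) (M := M)) (fun w z hw hc => ?_)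
      (Blocks.isPPart_one_of_isPRegular (g := (1 : G)) (by simp)) (IsConj.refl 1)
    · rw [Blocks.blockPart_eq, finsum_mem_eq_finite_toFinset_sum _ (Set.toFinite _)] at h0
      simp only [hΘc, add_mul, sub_mul, ite_mul, one_mul, zero_mul, Finset.sum_add_distrib,
        Finset.sum_sub_distrib, Finset.sum_ite_eq, Set.Finite.mem_toFinset,
        if_pos trivChar_mem_principalBlock, trivChar_apply] at h0
      change 1 + (if A₀ ∈ principalBlock M G then (A₀ : G → ℂ) 1 else 0) -
        (if B₀ ∈ principalBlock M G then (B₀ : G → ℂ) 1 else 0) = 0 at h0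
      have hdeg : (B₀ : G → ℂ) 1 = (A₀ : G → ℂ) 1 + 1 := hab 0
      obtain ⟨na, hna0, hna⟩ := IsIrr.exists_degree A₀.2
      rw [hdeg, hna] at h0
      split_ifs at h0 with h1 h2 h2
      · exact ⟨h1, h2⟩
      · exfalso
        have : ((1 + na : ℕ) : ℂ) = ((0 : ℕ) : ℂ) := by push_cast; linear_combination h0
        have := Nat.cast_injective this
        omega
      · exfalso
        have : ((na : ℕ) : ℂ) = ((0 : ℕ) : ℂ) := by push_cast; linear_combination -h0
        have := Nat.cast_injective this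
        omega
      · norm_num at h0
    · rw [isConj_one_right.1 hc] at hw
      refine indFun_eq_zero_of_support (hsupp _ (hodd 0)) fun y hy => ?_
      obtain ⟨v, hv, -, -, hv2⟩ := hw
      rw [one_mul] at hv
      have := hy.2
      rw [show y⁻¹ * w * y = y⁻¹ * w * y⁻¹⁻¹ by rw [inv_inv], orderOf_conj'] at this
      exact hv2 (hv ▸ even_iff_two_dvd.1 this)
  -- values at the involution
  have hev : ∀ χ : IrrCharacter G, χ ∈ principalBlock M G → (χ : G → ℂ) u =
      -conj (classInner Ξ (χ : G → ℂ)) + ∑ k, conj (classInner (Θ k) (χ : G → ℂ)) * (1 + q k) := by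
    intro χ hχ
    have hreg : ¬ 2 ∣ orderOf (1 : Subgroup.centralizer ({u} : Set G)) := by simp
    have h := apply_mul_eq_blockPart hM (x := u) ⟨1, by rw [hu2]; norm_num⟩ hχ hreg
    rw [Subgroup.coe_one, mul_one] at h
    refine h.trans ((hkey (fun c : H => (χ : G → ℂ) c)
      (IsChar.restrict H (IsIrr.isCharacter χ.2))).trans ?_)
    simp only [hvi]
    rw [hΞ, frobenius_reciprocity H _ (IsIrr.isClassFunction χ.2), classInner_conj_symm]
  have hαA : (A₀ : G → ℂ) u = -(m A₀ : ℂ) + (1 + q 0) := by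
    rw [hev _ hB0.1, hmc, map_intCast, Finset.sum_congr rfl fun k _ => by rw [hvA k]]
    simp [apply_ite conj]
  have hαB : (B₀ : G → ℂ) u = -(m B₀ : ℂ) - (1 + q 0) := by
    rw [hev _ hB0.2, hmc, map_intCast, Finset.sum_congr rfl fun k _ => by rw [hvB k]]
    simp [apply_ite conj]
    ring
  -- products of two involutions
  have hprod : ∀ g : G, Θ 0 (u * (g * u * g⁻¹)) = 0 := by
    intro g
    refine indFun_eq_zero_of_support (hsupp _ (hodd 0)) fun y hy => ?_
    set t := y⁻¹ * u * y with ht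
    set s := y⁻¹ * (g * u * g⁻¹) * y with hs
    have hts : y⁻¹ * (u * (g * u * g⁻¹)) * y = t * s := by rw [ht, hs]; group
    rw [hts] at hy
    obtain ⟨hyH, hye⟩ := hy
    obtain ⟨n, hn⟩ := hye
    have huu : u * u = 1 := by rw [← pow_two, ← hu2, pow_orderOf_eq_one]
    have htt : t * t = 1 := by
      calc t * t = y⁻¹ * (u * u) * y := by rw [ht]; group
        _ = 1 := by rw [huu]; group
    have hss : s * s = 1 := by
      calc s * s = y⁻¹ * (g * (u * u) * g⁻¹) * y := by rw [hs]; group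
        _ = 1 := by rw [huu]; group
    have hti : t⁻¹ = t := inv_eq_of_mul_eq_one_right htt
    have hsi : s⁻¹ = s := inv_eq_of_mul_eq_one_right hss
    have hn0 : n ≠ 0 := fun h => (orderOf_pos (t * s)).ne' (by rw [hn, h])
    have hpu : (t * s) ^ n = u := congrArg Subtype.val (hinv (⟨t * s, hyH⟩ ^ n) (by
      rw [← Subgroup.orderOf_coe, Subgroup.coe_pow, orderOf_pow' _ hn0, hn,
        Nat.gcd_eq_right ⟨2, by ring⟩, ← two_mul, Nat.mul_div_cancel _ (Nat.pos_of_ne_zero hn0)]))
    have hinvts : t * (t * s) * t⁻¹ = (t * s)⁻¹ :=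
      calc t * (t * s) * t⁻¹ = (t * t) * s * t⁻¹ := by simp only [mul_assoc]
        _ = s⁻¹ * t⁻¹ := by rw [htt, one_mul, hsi]
        _ = (t * s)⁻¹ := (mul_inv_rev t s).symm
    have hcu : t * u * t⁻¹ = u := by
      rw [← hpu, ← conj_pow, hinvts, inv_pow, hpu]
      exact inv_eq_of_mul_eq_one_right huu
    have htH : t ∈ H := Subgroup.mem_centralizer_singleton_iff.2 (mul_inv_eq_iff_eq_mul.1 hcu)
    have hinvol : ∀ z ∈ H, z * z = 1 → z ≠ 1 → z = u := fun z hz hzz hz1 =>
      congrArg Subtype.val (hinv ⟨z, hz⟩ (by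
        rw [← Subgroup.orderOf_coe]
        exact orderOf_eq_prime (by rw [pow_two, hzz]) hz1))
    have hune : u ≠ 1 := fun h => by rw [h, orderOf_one] at hu2; norm_num at hu2
    have htu : t = u := hinvol t htH htt fun h => hune (by
      calc u = y * t * y⁻¹ := by rw [ht]; group
        _ = 1 := by rw [h]; group)
    have hsu : s = u := by
      refine hinvol s ?_ hss fun h => hune ((conj_eq_one_iff (a := g)).1 ?_)
      · have := H.mul_mem (H.inv_mem htH) hyH
        rwa [inv_mul_cancel_left] at this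
      · calc g * u * g⁻¹ = y * s * y⁻¹ := by rw [hs]; group
          _ = 1 := by rw [h]; group
    rw [htu, hsu, huu, orderOf_one] at hn
    omega
  have hsum : ∑ g : G, Θ 0 (u * (g * u * g⁻¹)) = 0 := Finset.sum_eq_zero fun g _ => hprod g
  simp only [hΘab 0, Pi.sub_apply, Pi.add_apply, Finset.sum_sub_distrib, Finset.sum_add_distrib,
    Finset.sum_const, Finset.card_univ, nsmul_eq_mul, mul_one] at hsum
  have sA := CharAction.apply_mul_apply A₀.2 u u
  have sB := CharAction.apply_mul_apply B₀.2 u u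
  change (Fintype.card G : ℂ) + ∑ g : G, (A₀ : G → ℂ) (u * (g * u * g⁻¹)) -
    ∑ g : G, (B₀ : G → ℂ) (u * (g * u * g⁻¹)) = 0 at hsum
  obtain ⟨na, hna0, hna⟩ := IsIrr.exists_degree A₀.2
  have hnb : (B₀ : G → ℂ) 1 = (na : ℂ) + 1 := by rw [← hna]; exact hab 0
  rw [hna] at sA
  rw [hnb] at sB
  rw [Nat.card_eq_fintype_card] at sA sB
  have hG : (Fintype.card G : ℂ) ≠ 0 := Nat.cast_ne_zero.2 Fintype.card_pos.ne'
  have heq : ((A₀ : G → ℂ) u) ^ 2 * ((na : ℂ) + 1) - ((B₀ : G → ℂ) u) ^ 2 * na +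
      (na : ℂ) * ((na : ℂ) + 1) = 0 := by
    refine mul_left_cancel₀ hG ?_
    linear_combination ((na : ℂ) + 1) * sA - (na : ℂ) * sB + (na : ℂ) * ((na : ℂ) + 1) * hsum
  rcases (show (m A₀ = 1 ∧ m B₀ = 0) ∨ (m A₀ = 0 ∧ m B₀ = -1) by
    have h1 : m B₀ = m A₀ - 1 := by omega
    have h2 : 0 ≤ m A₀ ∧ m A₀ ≤ 1 := by
      rw [h1] at hbound
      constructor <;> nlinarith
    omega) with ⟨hwA, hwB⟩ | ⟨hwA, hwB⟩
  · refine ⟨A₀, Ne.symm htA, ?_⟩
    rw [hαA, hαB, hwA, hwB] at heq
    have hq : ((q 0 : ℂ) - na) ^ 2 = 0 := by push_cast at heq; linear_combination heq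
    rw [hαA, hwA, hna]
    push_cast
    linear_combination pow_eq_zero_iff two_ne_zero |>.1 hq
  · refine ⟨B₀, Ne.symm htB, ?_⟩
    rw [hαA, hαB, hwA, hwB] at heq
    have hq : ((q 0 : ℂ) + 1 + na) ^ 2 = 0 := by push_cast at heq; linear_combination heq
    rw [hαB, hwB, hnb]
    push_cast
    linear_combination -(pow_eq_zero_iff two_ne_zero |>.1 hq)

end CfsgLib.ZStar
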