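import Cfsg.Agent.Lib.ZStar.PrincipalBlock
import Cfsg.Agent.Lib.ZStar.Q8
import Cfsg.Agent.Lib.Char.Exceptional.QuaternionChar
import Cfsg.Agent.Lib.Core.Cores
import Cfsg.Agent.Lib.Core.UniqueOrderP
import Cfsg.Agent.Lib.Signalizer.Involutions
import Cfsg.Prelude.Def_CaseTheorems
import Cfsg.Prelude.Def_TwoFusion

/-!
# Glauberman's Z*-theorem

* `mem_oddCore_of_odd_commutator`: all `⁅u, g⁆` of odd order ⇒ all `⁅u, g⁆ ∈ oddCore G`.
* `mem_oddCore_of_isolated`: the same for an isolated involution (`IsIsolatedInvolution`).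
* `mem_oddCore_of_sylow`: the same for `u` alone of its class in a Sylow 2-subgroup.
-/

namespace CfsgLib.ZStar

open Cfsg CfsgLib.Signalizer
open scoped Classical commutatorElement

universe v

/-- An involution whose commutators all have odd order. -/
structure OddComm {G : Type*} [Group G] (u : G) : Prop where
  two : orderOf u = 2
  odd : ∀ g : G, Odd (orderOf (u * g * u⁻¹ * g⁻¹))

/-- The inductive statement. -/
def Good (G : Type*) [Group G] : Prop :=
  ∀ u : G, OddComm u → ∀ g : G, u * g * u⁻¹ * g⁻¹ ∈ oddCore G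

variable {G : Type*} [Group G] [Finite G] {u : G}

theorem oddComm_subgroup (hu : OddComm u) (H : Subgroup G) (h : u ∈ H) :
    OddComm (⟨u, h⟩ : H) := by
  refine ⟨by rw [← Subgroup.orderOf_coe]; exact hu.two, fun g => ?_⟩
  rw [← Subgroup.orderOf_coe]
  exact hu.odd g

omit [Finite G] in
theorem odd_of_dvd {m n : ℕ} (h : m ∣ n) (hn : Odd n) : Odd m := by
  obtain ⟨c, rfl⟩ := h; exact (Nat.odd_mul.1 hn).1

omit [Finite G] in
theorem eq_one_of_odd_of_sq {x : G} (h : Odd (orderOf x)) (h2 : x ^ 2 = 1) : x = 1 := by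
  rcases (Nat.dvd_prime Nat.prime_two).1 (orderOf_dvd_of_pow_eq_one h2) with h' | h'
  · exact orderOf_eq_one_iff.1 h'
  · rw [h'] at h; exact absurd h (by decide)

theorem OddComm.eq_of_commute (hu : OddComm u) {g : G} (h : Commute u (g * u * g⁻¹)) :
    g * u * g⁻¹ = u := by
  have e : u * g * u⁻¹ * g⁻¹ = u * (g * u * g⁻¹) := by rw [involution_inv hu.two]; group
  have h1 := eq_one_of_odd_of_sq (e ▸ hu.odd g) (by
    rw [h.mul_pow, conj_pow, pow_two, involution_sq hu.two]; group)
  exact (eq_inv_of_mul_eq_one_right h1).trans (involution_inv hu.two)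

theorem odd_card_oddCore (G : Type*) [Group G] [Finite G] : Odd (Nat.card (oddCore G)) :=
  Nat.coprime_two_right.1 (Core.coprime_card_pPrimeCore 2 G)

theorem le_oddCore {N : Subgroup G} (hN : N.Normal) (h : Odd (Nat.card N)) : N ≤ oddCore G :=
  Core.le_pPrimeCore (Nat.coprime_two_right.2 h)

/-- Elements of odd order above a central subgroup of order two with odd index. -/
theorem mem_oddCore_of_central {K : Subgroup G} (hK : K ≤ Subgroup.center G)
    (hK2 : Nat.card K = 2) {N : Subgroup G} (hN : N.Normal) (hKN : K ≤ N) {m : ℕ}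
    (hm : Odd m) (hNc : Nat.card N = 2 * m) {c : G} (hc : c ∈ N) (hco : Odd (orderOf c)) :
    c ∈ oddCore G := by
  set K' := K.subgroupOf N with hK'
  have hK'2 : Nat.card K' = 2 := by
    rw [Nat.card_congr (Subgroup.subgroupOfEquivOfLe hKN).toEquiv, hK2]
  have hcentral : ∀ k ∈ K', ∀ x : N, x * k = k * x := fun k hk x =>
    Subtype.ext (Subgroup.mem_center_iff.1 (hK hk) x)
  have : K'.Normal := ⟨fun k hk x => by rw [hcentral k hk x, mul_inv_cancel_right]; exact hk⟩
  have hidx : K'.index = m := by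
    have := K'.card_mul_index
    rw [hK'2, hNc] at this
    omega
  obtain ⟨M, hM⟩ := Subgroup.exists_right_complement'_of_coprime (N := K')
    (by rw [hK'2, hidx]; exact Nat.coprime_two_left.2 hm)
  have hMc : Nat.card M = m := by
    have := hM.card_mul
    rw [hK'2, hNc] at this
    omega
  have hMiff : ∀ x : N, x ∈ M ↔ Odd (orderOf x) := by
    intro x
    refine ⟨fun h => odd_of_dvd (Subgroup.orderOf_dvd_natCard _ h) (hMc ▸ hm), fun h => ?_⟩
    obtain ⟨⟨⟨k, hk⟩, ⟨y, hy⟩⟩, rfl⟩ := hM.2 x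
    have hpow : k ^ orderOf (k * y) = 1 := by
      have h1 := (show Commute k y from (hcentral k hk y).symm).mul_pow (orderOf (k * y))
      rw [pow_orderOf_eq_one] at h1
      have hkM : k ^ orderOf (k * y) ∈ M := by
        rw [eq_inv_of_mul_eq_one_left h1.symm]
        exact M.inv_mem (M.pow_mem hy _)
      exact Subgroup.mem_bot.1 (hM.disjoint.le_bot ⟨K'.pow_mem hk _, hkM⟩)
    have h2 : k ^ 2 = 1 := by
      have := Subgroup.orderOf_dvd_natCard _ hk
      rw [hK'2] at this
      exact orderOf_dvd_iff_pow_eq_one.1 this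
    show k * y ∈ M
    rw [eq_one_of_odd_of_sq (odd_of_dvd (orderOf_dvd_of_pow_eq_one hpow) h) h2, one_mul]
    exact hy
  have hMG : (M.map N.subtype).Normal := ⟨fun z hz g => by
    obtain ⟨x, hx, rfl⟩ := hz
    refine ⟨⟨g * x * g⁻¹, hN.conj_mem _ x.2 g⟩, (hMiff _).2 ?_, rfl⟩
    rw [← Subgroup.orderOf_coe]
    show Odd (orderOf (g * (x : G) * g⁻¹))
    rw [Signalizer.orderOf_conj, Subgroup.orderOf_coe]
    exact (hMiff x).1 hx⟩
  refine le_oddCore hMG ?_ ⟨⟨c, hc⟩, (hMiff _).2 (by rwa [← Subgroup.orderOf_coe]), rfl⟩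
  rw [Subgroup.card_map_of_injective N.subtype_injective, hMc]
  exact hm

section Minimal

variable (hsub : ∀ H : Subgroup G, H ≠ ⊤ → Good H)
  (hquot : ∀ K : Subgroup G, ∀ [K.Normal], K ≠ ⊥ → Good (G ⧸ K))
  (hu : OddComm u) (hO : oddCore G = ⊥)

include hquot hu hO in
omit hsub in
theorem no_central_involution (hnc : u ∉ Subgroup.center G) {t : G} (ht : t ∈ Subgroup.center G) :
    orderOf t ≠ 2 := by
  intro ht2
  set K := Subgroup.zpowers t with hK
  have hKc : K ≤ Subgroup.center G := Subgroup.zpowers_le.2 ht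
  have hK2 : Nat.card K = 2 := by rw [hK, Nat.card_zpowers, ht2]
  have : K.Normal := ⟨fun k hk g => by
    rw [Subgroup.mem_center_iff.1 (hKc hk) g, mul_inv_cancel_right]; exact hk⟩
  have hKne : K ≠ ⊥ := fun h => by rw [h, Subgroup.card_bot] at hK2; norm_num at hK2
  have huK : (QuotientGroup.mk u : G ⧸ K) ≠ 1 := fun h => hnc (hKc ((QuotientGroup.eq_one_iff u).1 h))
  have hu' : OddComm (QuotientGroup.mk' K u) := by
    refine ⟨orderOf_eq_prime (by rw [← map_pow, pow_two, involution_sq hu.two, map_one]) huK, ?_⟩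
    intro q
    obtain ⟨g, rfl⟩ := QuotientGroup.mk'_surjective K q
    simp only [← map_mul, ← map_inv]
    exact odd_of_dvd (orderOf_map_dvd _ _) (hu.odd g)
  refine hnc (Subgroup.mem_center_iff.2 fun g => ?_)
  have hmem := hquot K hKne _ hu' (QuotientGroup.mk' K g)
  simp only [← map_mul, ← map_inv] at hmem
  have hcard : Nat.card ((oddCore (G ⧸ K)).comap (QuotientGroup.mk' K)) =
      2 * Nat.card (oddCore (G ⧸ K)) := by rw [Core.card_comap_mk', hK2]
  have h1 := mem_oddCore_of_central hKc hK2 inferInstance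
    (N := (oddCore (G ⧸ K)).comap (QuotientGroup.mk' K))
    (fun k hk => by
      rw [Subgroup.mem_comap, QuotientGroup.mk'_apply, (QuotientGroup.eq_one_iff k).2 hk]
      exact one_mem _)
    (odd_card_oddCore _) hcard (c := u * g * u⁻¹ * g⁻¹) hmem (hu.odd g)
  rw [hO, Subgroup.mem_bot] at h1
  rw [mul_inv_eq_one, mul_inv_eq_iff_eq_mul] at h1
  exact h1.symm

include hsub hu hO in
omit hquot in
theorem mem_center_of_normal {N : Subgroup G} (hN : N.Normal) (hN1 : N ≠ ⊤) (huN : u ∈ N) :
    u ∈ Subgroup.center G := by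
  have hO' : oddCore N = ⊥ := by
    have h := Core.map_subtype_pPrimeCore_le (p := 2) N
    rw [show pPrimeCore 2 G = ⊥ from hO, le_bot_iff,
      Subgroup.map_eq_bot_iff_of_injective _ N.subtype_injective] at h
    exact h
  have hcomm : ∀ n ∈ N, Commute u n := fun n hn => by
    have h := hsub N hN1 _ (oddComm_subgroup hu N huN) ⟨n, hn⟩
    rw [hO', Subgroup.mem_bot] at h
    have h' : u * n * u⁻¹ * n⁻¹ = 1 := congrArg Subtype.val h
    rw [mul_inv_eq_one, mul_inv_eq_iff_eq_mul] at h'
    exact h'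
  refine Subgroup.mem_center_iff.2 fun g => ?_
  exact mul_inv_eq_iff_eq_mul.1 (hu.eq_of_commute (hcomm _ (hN.conj_mem u huN g)))

include hsub hu hO in
omit hquot in
theorem mem_center_of_char [Fintype G] {χ : IrrCharacter G} (hχ : χ ≠ Char.trivChar G)
    (huχ : (χ : G → ℂ) u = (χ : G → ℂ) 1) : u ∈ Subgroup.center G := by
  refine mem_center_of_normal hsub hu hO (CharDegree.kerSubgroup_normal χ) (fun h => hχ ?_)
    (CharDegree.mem_kerSubgroup.2 huχ)
  by_contra hne
  have h0 : Cfsg.classInner (χ : G → ℂ) (Char.trivChar G : G → ℂ) = 0 :=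
    Char.classInner_irr_of_ne hne
  have hconst : (χ : G → ℂ) = (χ : G → ℂ) 1 • (Char.trivChar G : G → ℂ) := funext fun g => by
    rw [Pi.smul_apply, Char.trivChar_apply, smul_eq_mul, mul_one]
    exact CharDegree.mem_kerSubgroup.1 (h ▸ Subgroup.mem_top g)
  rw [hconst, Char.classInner_smul_left, Char.classInner_irr_self, mul_one] at h0
  obtain ⟨d, hd, hd'⟩ := Char.IsIrr.exists_degree χ.2
  rw [hd', Nat.cast_eq_zero] at h0
  omega

include hsub hquot hu hO in
theorem unique_involution_case (P : Sylow 2 G) (huP : u ∈ P)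
    (huniq : ∀ x ∈ P, orderOf x = 2 → x = u) : u ∈ Subgroup.center G := by
  by_contra hnc
  have huniq' : ∀ H K : Subgroup (P : Subgroup G), Nat.card H = 2 → Nat.card K = 2 → H = K := by
    have key : ∀ H : Subgroup (P : Subgroup G), Nat.card H = 2 →
        H = Subgroup.zpowers (⟨u, huP⟩ : (P : Subgroup G)) := by
      intro H hH
      have : Nontrivial H := (Finite.one_lt_card_iff_nontrivial).1 (by omega)
      obtain ⟨x, hx⟩ := exists_ne (1 : H)
      have hx2 : orderOf ((x : (P : Subgroup G)) : G) = 2 := by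
        rw [Subgroup.orderOf_coe, Subgroup.orderOf_coe]
        refine orderOf_eq_prime ?_ hx
        have := pow_card_eq_one' (x := x)
        rwa [hH] at this
      refine (Subgroup.eq_of_le_of_card_ge (Subgroup.zpowers_le.2 ?_) ?_).symm
      · have : (x : (P : Subgroup G)) = ⟨u, huP⟩ :=
          Subtype.ext (huniq _ (Subtype.coe_prop _) hx2)
        exact this ▸ x.2
      · rw [Nat.card_zpowers, ← Subgroup.orderOf_coe, hH, hu.two]
    exact fun H K hH hK => (key H hH).trans (key K hK).symm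
  have hncyc : ¬ IsCyclic (P : Subgroup G) := fun hc => by
    have hmin : (Nat.card G).minFac = 2 := by
      rw [Nat.minFac_eq_two_iff, ← hu.two]; exact orderOf_dvd_natCard u
    have hcompl := IsCyclic.isComplement' hmin hc
    set N := (MonoidHom.transferSylow P (hc.normalizer_le_centralizer hmin)).ker
    have hNodd : Odd (Nat.card N) := by
      rw [← Nat.not_even_iff_odd, even_iff_two_dvd]
      have := hcompl.index_eq_card
      rw [← this]
      exact P.not_dvd_index
    have hN : N = ⊥ := le_bot_iff.1 (hO ▸ le_oddCore inferInstance hNodd)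
    rw [hN, Subgroup.isComplement'_bot_left] at hcompl
    refine hnc (Subgroup.mem_center_iff.2 fun g => ?_)
    have : IsCyclic (⊤ : Subgroup G) := hcompl ▸ hc
    exact congrArg Subtype.val (IsCyclic.isMulCommutative.is_comm.comm
      (⟨g, Subgroup.mem_top g⟩ : (⊤ : Subgroup G)) ⟨u, Subgroup.mem_top u⟩)
  rcases Core.UniqueOrderP.isCyclic_or_quaternion_of_unique P.isPGroup' huniq' with
    hc | ⟨-, n, ⟨e⟩⟩
  · exact hncyc hc
  · match n with
    | 0 =>
      have : IsCyclic (QuaternionGroup (2 ^ 0)) := by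
        rw [pow_zero]; exact QuaternionGroup.quaternionGroup_one_isCyclic
      exact hncyc (e.symm.isCyclic.1 this)
    | 1 =>
      have hu1 : e.symm (.a 2) = (⟨u, huP⟩ : (P : Subgroup G)) := Subtype.ext (huniq _
        (Subtype.coe_prop _) (by
          rw [Subgroup.orderOf_coe, MulEquiv.orderOf_eq]
          exact orderOf_eq_prime (by decide) (by decide)))
      by_cases hperf : commutator G = ⊤
      · cases nonempty_fintype G
        obtain ⟨χ, hχ1, hχ⟩ := q8_exists_ker P e hperf
        rw [hu1] at hχ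
        exact hnc (mem_center_of_char hsub hu hO hχ1 hχ)
      · refine hnc (mem_center_of_normal hsub hu hO inferInstance hperf ?_)
        have h1 : ⁅e.symm (.xa 0), e.symm (.a 1)⁆ = (⟨u, huP⟩ : (P : Subgroup G)) := by
          rw [← hu1, ← map_commutatorElement]
          congr 1
        rw [commutator_def]
        have h2 := congrArg Subtype.val h1
        rw [← Subgroup.coe_subtype, map_commutatorElement] at h2
        have h3 := Subgroup.commutator_mem_commutator
          (Subgroup.mem_top ((P : Subgroup G).subtype (e.symm (.xa 0))))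
          (Subgroup.mem_top ((P : Subgroup G).subtype (e.symm (.a 1))))
        rw [h2] at h3
        exact h3
    | m + 2 =>
      cases nonempty_fintype G
      have h2 := Char.Exceptional.quat_center_two P e fun N hN hodd =>
        le_bot_iff.1 (hO ▸ le_oddCore hN hodd)
      have : Nontrivial (Subgroup.center G) := (Finite.one_lt_card_iff_nontrivial).1 (by omega)
      obtain ⟨z, hz⟩ := exists_ne (1 : Subgroup.center G)
      refine no_central_involution hquot hu hO hnc z.2 ?_
      rw [Subgroup.orderOf_coe]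
      exact orderOf_eq_prime (by rw [← h2]; exact pow_card_eq_one') hz

include hu in
omit hsub hquot hO in
theorem conj_in_centralizer {a b d : G} (hb : Commute u b) (ha : Commute u a)
    (h : d * a * d⁻¹ = b) : ∃ c : G, Commute u c ∧ c * a * c⁻¹ = b := by
  have he : u * (d * u * d⁻¹) = u * d * u⁻¹ * d⁻¹ := by rw [involution_inv hu.two]; group
  obtain ⟨e, hmem, he'⟩ := exists_conj_of_odd hu.two
    (y := d * u * d⁻¹) (by rw [Signalizer.orderOf_conj, hu.two]) (he ▸ hu.odd d)
  have hC : Subgroup.closure ({u, d * u * d⁻¹} : Set G) ≤ Subgroup.centralizer {b} := by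
    rw [Subgroup.closure_le]
    rintro z (rfl | rfl) <;> rw [SetLike.mem_coe, Subgroup.mem_centralizer_singleton_iff]
    · exact hb.eq
    · rw [← h]
      exact (ha.map (MulAut.conj d)).eq
  have heb : e * b = b * e := Subgroup.mem_centralizer_singleton_iff.1 (hC hmem)
  refine ⟨e⁻¹ * d, ?_, ?_⟩
  · have h1 : (e⁻¹ * d) * u * (e⁻¹ * d)⁻¹ = u :=
      calc (e⁻¹ * d) * u * (e⁻¹ * d)⁻¹ = e⁻¹ * (d * u * d⁻¹) * e := by group
        _ = e⁻¹ * (e * u * e⁻¹) * e := by rw [he']
        _ = u := by group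
    exact (mul_inv_eq_iff_eq_mul.1 h1).symm
  · calc (e⁻¹ * d) * a * (e⁻¹ * d)⁻¹ = e⁻¹ * (d * a * d⁻¹) * e := by group
      _ = e⁻¹ * (b * e) := by rw [h, mul_assoc]
      _ = b := by rw [← heb, inv_mul_cancel_left]

include hsub hquot hu hO in
theorem apply_mul_conj [Fintype G] (hnc : u ∉ Subgroup.center G) {M : Ideal AlgInt} [M.IsPrime]
    (hM : IsPModular 2 M) {χ : IrrCharacter G} (hχ : χ ∈ principalBlock M G) {v : G}
    (hv : orderOf v = 2) (hvne : v ≠ u) (hcomm : Commute u v) (g : G) :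
    (χ : G → ℂ) (u * (g * v * g⁻¹)) = (χ : G → ℂ) (u * v) := by
  have : Fact (Nat.Prime 2) := ⟨Nat.prime_two⟩
  have hnconj : ∀ c : G, c * u * c⁻¹ ≠ v := fun c hc =>
    hvne (hc.symm.trans (hu.eq_of_commute (hc.symm ▸ hcomm)))
  set w := g * v * g⁻¹ with hwdef
  have hw : orderOf w = 2 := by rw [hwdef, Signalizer.orderOf_conj, hv]
  set x := u * w with hxdef
  have heven : Even (orderOf x) := by
    rw [← Nat.not_odd_iff_even]
    intro hodd
    obtain ⟨d, -, hd⟩ := exists_conj_of_odd hu.two hw hodd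
    refine hnconj (g⁻¹ * d) ?_
    calc (g⁻¹ * d) * u * (g⁻¹ * d)⁻¹ = g⁻¹ * (d * u * d⁻¹) * g := by group
      _ = v := by rw [hd, hwdef]; group
  obtain ⟨ht2, htu, htw⟩ := central_involution hu.two hw heven
  rw [← hxdef] at ht2 htu htw
  obtain ⟨m, hm⟩ := heven
  rw [show orderOf x / 2 = m by omega] at ht2 htu htw
  set t := x ^ m with htdef
  set C := Subgroup.centralizer ({t} : Set G) with hC
  have hCne : C ≠ ⊤ := fun h => no_central_involution hquot hu hO hnc
    (Subgroup.mem_center_iff.2 fun z => Subgroup.mem_centralizer_singleton_iff.1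
      (show z ∈ C from h ▸ Subgroup.mem_top z)) ht2
  have huC : u ∈ C := Subgroup.mem_centralizer_singleton_iff.2 htu.eq.symm
  have hxC : x ∈ C := Subgroup.mem_centralizer_singleton_iff.2
    (by rw [htdef, ← pow_succ', ← pow_succ])
  have hL : (⟨x, hxC⟩ : C) ^ 2 ∈ oddCore C := by
    have h := hsub C hCne _ (oddComm_subgroup hu C huC) ⟨x, hxC⟩
    have e : (⟨u, huC⟩ : C) * ⟨x, hxC⟩ * (⟨u, huC⟩ : C)⁻¹ * (⟨x, hxC⟩ : C)⁻¹ =
        ((⟨x, hxC⟩ : C) ^ 2)⁻¹ := Subtype.ext (by
      show u * x * u⁻¹ * x⁻¹ = (x ^ 2)⁻¹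
      rw [conj_mul_eq_inv hu.two hw, ← mul_inv_rev, pow_two])
    rw [e] at h
    exact inv_mem_iff.1 h
  have hmodd : Odd m := by
    refine odd_of_dvd ?_ (odd_of_dvd (Subgroup.orderOf_dvd_natCard _ hL) (odd_card_oddCore C))
    rw [← Subgroup.orderOf_coe, Subgroup.coe_pow, orderOf_pow, hm]
    rw [Nat.gcd_eq_right ⟨m, by ring⟩]
    exact dvd_of_eq (by omega)
  have htx : (⟨x, hxC⟩ : C) ^ (m + 1) ∈ oddCore C := by
    obtain ⟨j, hj⟩ := hmodd.add_odd odd_one
    rw [hj, ← two_mul, pow_mul]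
    exact pow_mem hL _
  have hval : (χ : G → ℂ) x = (χ : G → ℂ) t := by
    have h := apply_mul_eq_of_mem (p := 2) hM (x := t) ⟨1, by rw [ht2, pow_one]⟩
      (N := oddCore C) inferInstance (fun h2 => by
        rw [← even_iff_two_dvd] at h2
        exact Nat.not_even_iff_odd.2 (odd_card_oddCore C) h2) hχ htx
    rwa [Subgroup.coe_pow, pow_succ, ← htdef, ← mul_assoc, ← pow_two,
      show t ^ 2 = 1 by rw [← ht2, pow_orderOf_eq_one], one_mul] at h
  rw [hval]
  have htne : t ≠ u := by
    intro h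
    have h' : Commute u w := h ▸ htw
    have hx2 : x ^ 2 = 1 := by
      rw [hxdef, h'.mul_pow, pow_two, pow_two, involution_sq hu.two, involution_sq hw, one_mul]
    have := orderOf_dvd_of_pow_eq_one hx2
    have hm1 : m = 1 := by
      have := Nat.le_of_dvd two_pos this
      obtain ⟨k, hk⟩ := hmodd
      omega
    rw [htdef, hm1, pow_one, hxdef, mul_eq_left] at h
    exact involution_ne_one hw h
  have hut : orderOf (u * t) = 2 := orderOf_eq_two_of (fun h => htne (by
      rw [← involution_inv hu.two]; exact eq_inv_of_mul_eq_one_right h))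
    (by rw [htu.mul_mul_mul_comm, involution_sq hu.two, involution_sq ht2, one_mul])
  have hodd : Odd (orderOf (u * t * w)) := by
    have e : u * t * w = x ^ (m + 1) := by
      rw [pow_succ, ← htdef, hxdef, htu.symm.eq, mul_assoc]
    rw [e]
    have := odd_of_dvd (Subgroup.orderOf_dvd_natCard _ htx) (odd_card_oddCore C)
    rwa [← Subgroup.orderOf_coe] at this
  obtain ⟨d, -, hd⟩ := exists_conj_of_odd hut hw hodd
  have hd' : (g⁻¹ * d) * (u * t) * (g⁻¹ * d)⁻¹ = v :=
    calc (g⁻¹ * d) * (u * t) * (g⁻¹ * d)⁻¹ = g⁻¹ * (d * (u * t) * d⁻¹) * g := by group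
      _ = v := by rw [hd, hwdef]; group
  obtain ⟨c, hcu, hc⟩ := conj_in_centralizer hu hcomm
    ((Commute.refl u).mul_right htu.symm) hd'
  have hct : c * t * c⁻¹ = u * v :=
    calc c * t * c⁻¹ = c * (u * (u * t)) * c⁻¹ := by
          rw [← mul_assoc u u, involution_sq hu.two, one_mul]
      _ = (c * u * c⁻¹) * (c * (u * t) * c⁻¹) := by group
      _ = u * v := by rw [hcu.symm.eq, mul_inv_cancel_right, hc]
  rw [← hct]
  exact (Char.IsIrr.isClassFunction χ.2 t c).symm

include hsub hquot hu hO in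
theorem mem_center_of_minimal : u ∈ Subgroup.center G := by
  by_contra hnc
  cases nonempty_fintype G
  obtain ⟨P, hP⟩ := (IsPGroup.of_card (p := 2) (n := 1)
    (show Nat.card (Subgroup.zpowers u) = 2 ^ 1 by
      rw [Nat.card_zpowers, hu.two, pow_one])).exists_le_sylow
  have huP : u ∈ P := hP (Subgroup.mem_zpowers u)
  have hPc : ∀ p ∈ P, Commute u p := fun p hp => by
    have h := hu.odd p
    have hmem : u * p * u⁻¹ * p⁻¹ ∈ (P : Subgroup G) :=
      mul_mem (mul_mem (mul_mem huP hp) (inv_mem huP)) (inv_mem hp)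
    obtain ⟨k, hk⟩ := IsPGroup.iff_orderOf.1 P.isPGroup' ⟨_, hmem⟩
    rw [← Subgroup.orderOf_coe] at hk
    simp only at hk
    rcases Nat.eq_zero_or_pos k with rfl | hk0
    · rw [pow_zero, orderOf_eq_one_iff, mul_inv_eq_one, mul_inv_eq_iff_eq_mul] at hk
      exact hk
    · rw [hk] at h
      exact absurd h (Nat.not_odd_iff_even.2 (Nat.even_pow.2 ⟨even_two, hk0.ne'⟩))
  by_cases huniq : ∀ x ∈ P, orderOf x = 2 → x = u
  · exact hnc (unique_involution_case hsub hquot hu hO P huP huniq)
  push Not at huniq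
  obtain ⟨v, hvP, hv, hvne⟩ := huniq
  have hcomm := hPc v hvP
  have huv : orderOf (u * v) = 2 := orderOf_eq_two_of (fun h => hvne (by
      rw [← involution_inv hu.two]; exact eq_inv_of_mul_eq_one_right h))
    (by rw [hcomm.symm.mul_mul_mul_comm, involution_sq hu.two, involution_sq hv, one_mul])
  have huvne : u * v ≠ u := fun h => involution_ne_one hv (mul_eq_left.1 h)
  have huuv : u * (u * v) = v := by rw [← mul_assoc, involution_sq hu.two, one_mul]
  obtain ⟨M, hM⟩ := exists_isPModular Nat.prime_two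
  have := hM.2.1.isPrime
  have : Fact (Nat.Prime 2) := ⟨Nat.prime_two⟩
  have hG : (Nat.card G : ℂ) ≠ 0 := Nat.cast_ne_zero.2 Nat.card_pos.ne'
  have hkey : ∀ χ : IrrCharacter G, χ ∈ principalBlock M G → ∀ b : G, orderOf b = 2 → b ≠ u →
      Commute u b → (χ : G → ℂ) u * (χ : G → ℂ) b = (χ : G → ℂ) 1 * (χ : G → ℂ) (u * b) := by
    intro χ hχ b hb hbu hbc
    have h := CharAction.apply_mul_apply χ.2 u b
    rw [Finset.sum_congr rfl fun g _ => apply_mul_conj hsub hquot hu hO hnc hM hχ hb hbu hbc g,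
      Finset.sum_const, Finset.card_univ, nsmul_eq_mul, ← Nat.card_eq_fintype_card] at h
    refine mul_left_cancel₀ hG ?_
    linear_combination h
  obtain ⟨χ, -, hχ1, hχu⟩ : ∃ χ : IrrCharacter G, χ ∈ principalBlock M G ∧
      χ ≠ Char.trivChar G ∧ (χ : G → ℂ) u = (χ : G → ℂ) 1 := by
    by_contra hno
    push Not at hno
    have hterm : ∀ χ : IrrCharacter G, χ ∈ principalBlock M G → χ ≠ Char.trivChar G →
        ((χ : G → ℂ) 1 + (χ : G → ℂ) u) * (χ : G → ℂ) v = 0 := by
      intro χ hχ hne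
      have h1 := hkey χ hχ v hv hvne hcomm
      have h2 := hkey χ hχ (u * v) huv huvne ((Commute.refl u).mul_right hcomm)
      rw [huuv] at h2
      have h3 : ((χ : G → ℂ) u - (χ : G → ℂ) 1) *
          (((χ : G → ℂ) 1 + (χ : G → ℂ) u) * (χ : G → ℂ) v) = 0 := by
        linear_combination (χ : G → ℂ) u * h1 + (χ : G → ℂ) 1 * h2
      exact (mul_eq_zero.1 h3).resolve_left (sub_ne_zero.2 (hno χ hχ hne))
    have hnconj : ¬ IsConj u v := fun h => by
      obtain ⟨c, hc⟩ := isConj_iff.1 h
      exact hvne (hc.symm.trans (hu.eq_of_commute (hc.symm ▸ hcomm)))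
    have hpp : ∀ a : G, orderOf a = 2 → IsPPart 2 a a := fun a ha =>
      ⟨1, mul_one a, Commute.one_right a, ⟨1, by rw [ha, pow_one]⟩, by simp⟩
    have e1 := Blocks.sum_block_apply_mul_eq_zero hM (isPBlock_principalBlock (G := G) (M := M))
      (g := 1) (h := v) (Blocks.isPPart_one_of_isPRegular (by simp)) (hpp v hv)
      fun h => involution_ne_one hv (isConj_one_right.1 h)
    have e2 := Blocks.sum_block_apply_mul_eq_zero hM (isPBlock_principalBlock (G := G) (M := M))
      (hpp u hu.two) (hpp v hv) hnconj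
    rw [involution_inv hv] at e1 e2
    rw [finsum_mem_eq_finite_toFinset_sum _ (Set.toFinite _)] at e1 e2
    have e3 := congrArg₂ (· + ·) e1 e2
    simp only [← Finset.sum_add_distrib, ← add_mul, add_zero] at e3
    rw [Finset.sum_eq_single (Char.trivChar G)] at e3
    · simp only [Char.trivChar_apply] at e3
      norm_num at e3
    · exact fun χ hχ hne => hterm χ ((Set.toFinite _).mem_toFinset.1 hχ) hne
    · exact fun h => absurd ((Set.toFinite _).mem_toFinset.2 trivChar_mem_principalBlock) h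
  exact hnc (mem_center_of_char hsub hu hO hχ1 hχu)

end Minimal

theorem good_aux : ∀ n : ℕ, ∀ (G : Type v) [Group G] [Finite G], Nat.card G = n → Good G := by
  intro n
  induction n using Nat.strong_induction_on with
  | _ n ih =>
  intro G _ _ hn u hu g
  have hsub : ∀ H : Subgroup G, H ≠ ⊤ → Good H := fun H hH => ih _ (by
    rw [← hn]
    exact lt_of_le_of_ne (Subgroup.card_le_card_group H)
      fun h => hH (Subgroup.eq_top_of_card_eq H h)) H rfl
  have hquot : ∀ K : Subgroup G, ∀ [K.Normal], K ≠ ⊥ → Good (G ⧸ K) := fun K _ hK => ih _ (by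
    rw [← hn, Subgroup.card_eq_card_quotient_mul_card_subgroup K]
    exact lt_mul_of_one_lt_right Nat.card_pos (K.one_lt_card_iff_ne_bot.2 hK)) (G ⧸ K) rfl
  by_cases hO : oddCore G = ⊥
  · have hc := mem_center_of_minimal hsub hquot hu hO
    rw [← Subgroup.mem_center_iff.1 hc g, mul_inv_cancel_right, mul_inv_cancel]
    exact one_mem _
  · have huO : (QuotientGroup.mk u : G ⧸ oddCore G) ≠ 1 := fun h => by
      have h2 := Subgroup.orderOf_dvd_natCard _ ((QuotientGroup.eq_one_iff u).1 h)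
      rw [hu.two, ← even_iff_two_dvd] at h2
      exact Nat.not_even_iff_odd.2 (odd_card_oddCore G) h2
    have hu' : OddComm (QuotientGroup.mk' (oddCore G) u) := by
      refine ⟨orderOf_eq_prime (by rw [← map_pow, pow_two, involution_sq hu.two, map_one]) huO, ?_⟩
      intro q
      obtain ⟨g, rfl⟩ := QuotientGroup.mk'_surjective (oddCore G) q
      simp only [← map_mul, ← map_inv]
      exact odd_of_dvd (orderOf_map_dvd _ _) (hu.odd g)
    have h := hquot (oddCore G) hO _ hu' (QuotientGroup.mk' (oddCore G) g)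
    simp only [← map_mul, ← map_inv] at h
    rw [show oddCore (G ⧸ oddCore G) = ⊥ from Core.pPrimeCore_quotient_pPrimeCore 2 G,
      Subgroup.mem_bot] at h
    exact (QuotientGroup.eq_one_iff _).1 h

/-- **Glauberman's Z\*-theorem**, commutator form. -/
theorem mem_oddCore_of_odd_commutator (hu : orderOf u = 2)
    (h : ∀ g : G, Odd (orderOf (u * g * u⁻¹ * g⁻¹))) (g : G) :
    u * g * u⁻¹ * g⁻¹ ∈ oddCore G :=
  good_aux _ G rfl u ⟨hu, h⟩ g

/-- **Glauberman's Z\*-theorem**, Sylow form. -/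
theorem mem_oddCore_of_sylow (P : Sylow 2 G) (hu : orderOf u = 2) (huP : u ∈ P)
    (hiso : ∀ g : G, g * u * g⁻¹ ∈ P → g * u * g⁻¹ = u) (g : G) :
    u * g * u⁻¹ * g⁻¹ ∈ oddCore G := by
  refine mem_oddCore_of_odd_commutator hu (fun g => ?_) g
  have h := odd_orderOf_mul_of_isolated P hu huP hiso (v := g * u * g⁻¹) (isConj_iff.2 ⟨g, rfl⟩)
  have e : u * g * u⁻¹ * g⁻¹ = u * (g * u * g⁻¹) := by rw [involution_inv hu]; group
  rwa [e]

/-- **Glauberman's Z\*-theorem**, isolated involution form. -/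
theorem mem_oddCore_of_isolated (hu : IsIsolatedInvolution u) (g : G) :
    u * g * u⁻¹ * g⁻¹ ∈ oddCore G := by
  refine mem_oddCore_of_odd_commutator hu.1 (fun g => ?_) g
  have e : u * g * u⁻¹ * g⁻¹ = u * (g * u * g⁻¹) := by rw [involution_inv hu.1]; group
  rw [e, ← Nat.not_even_iff_odd]
  intro heven
  set w := g * u * g⁻¹ with hwdef
  have hw : orderOf w = 2 := by rw [hwdef, Signalizer.orderOf_conj, hu.1]
  obtain ⟨ht2, htu, -⟩ := central_involution hu.1 hw heven
  set t := (u * w) ^ (orderOf (u * w) / 2) with htdef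
  obtain ⟨k, hk⟩ : ∃ k : G, k * u * k⁻¹ = t * u := by
    rw [htdef, ← zpow_natCast]
    rcases Int.even_or_odd ((orderOf (u * w) / 2 : ℕ) : ℤ) with ⟨j, hj⟩ | ⟨j, hj⟩
    · obtain ⟨d, -, hd⟩ := exists_conj_pair_zpow hu.1 hw j
      exact ⟨d, by rw [hd, hj, two_mul]⟩
    · refine ⟨(u * w) ^ (j + 1) * g, ?_⟩
      calc (u * w) ^ (j + 1) * g * u * ((u * w) ^ (j + 1) * g)⁻¹
          = (u * w) ^ (j + 1) * (g * u * g⁻¹) * ((u * w) ^ (j + 1))⁻¹ := by group
        _ = (u * w) ^ (j + 1) * ((u * w) ^ (-1 : ℤ) * u) * (u * w) ^ (-(j + 1)) := by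
          rw [← hwdef, ← right_eq hu.1 hw, zpow_neg]
        _ = _ := by
          rw [mul_assoc, mul_assoc, mul_pair_zpow hu.1 hw, ← mul_assoc, ← mul_assoc, ← zpow_add,
            ← zpow_add, hj]
          congr 2
          ring
  have hc : Commute u (k * u * k⁻¹) := hk ▸ htu.symm.mul_right (Commute.refl u)
  have h1 := hu.2 k hc
  rw [hk, mul_eq_right] at h1
  exact involution_ne_one ht2 h1

/-- Elements fixed by `u` modulo the odd core: `uO(G)` is central in `G/O(G)`. -/
theorem mk_mem_center_of_odd_commutator (hu : orderOf u = 2)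
    (h : ∀ g : G, Odd (orderOf (u * g * u⁻¹ * g⁻¹))) :
    (QuotientGroup.mk u : G ⧸ oddCore G) ∈ Subgroup.center (G ⧸ oddCore G) := by
  refine Subgroup.mem_center_iff.2 fun q => ?_
  induction q using QuotientGroup.induction_on with
  | H g =>
    have h1 := (QuotientGroup.eq_one_iff _).2 (mem_oddCore_of_odd_commutator hu h g)
    simp only [QuotientGroup.mk_mul, QuotientGroup.mk_inv] at h1
    rw [mul_inv_eq_one, mul_inv_eq_iff_eq_mul] at h1
    exact h1.symm

end CfsgLib.ZStar
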