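import Cfsg.Agent.Lib.ZStar.Main
import Cfsg.Prelude.Def_FusionSystem

/-!
# The centre of the 2-fusion system (Z* for elements of any 2-power order)

* `commutator_mem_oddCore_of_fixed`: if no power of `x ∈ P` is conjugate to another element of `P`,
  then `x` is central modulo `O(G)`.
* `exists_centralizing_conj`: a conjugation between subgroups of `P` may be realised fixing `Q`
  whenever `Q ≤ P` is central modulo `O(G)`.
-/

namespace CfsgLib.ZStar

open Cfsg CfsgLib.Signalizer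

universe w

/-- No power of `x` is conjugate to another element of `P`. -/
structure Fixed {G : Type*} [Group G] (P : Subgroup G) (x : G) : Prop where
  mem : x ∈ P
  fixed : ∀ (g : G) (k : ℕ), g * x ^ k * g⁻¹ ∈ P → g * x ^ k * g⁻¹ = x ^ k

variable {G : Type w} [Group G] [Finite G]

theorem Fixed.map {P : Sylow 2 G} {x : G} (hx : Fixed (P : Subgroup G) x) (N : Subgroup G)
    [N.Normal] :
    Fixed ((P : Subgroup G).map (QuotientGroup.mk' N)) (QuotientGroup.mk' N x) := by
  have : Fact (Nat.Prime 2) := ⟨Nat.prime_two⟩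
  refine ⟨⟨x, hx.mem, rfl⟩, fun q k hq => ?_⟩
  obtain ⟨g, rfl⟩ := QuotientGroup.mk'_surjective N q
  rw [← map_pow, ← map_inv, ← map_mul, ← map_mul] at hq ⊢
  set a := g * x ^ k * g⁻¹ with hadef
  set K := (P : Subgroup G) ⊔ N with hK
  have haK : a ∈ K := by
    obtain ⟨p, hp, hpa⟩ := hq
    have hn : p⁻¹ * a ∈ N := (QuotientGroup.eq (s := N)).1 hpa
    rw [← mul_inv_cancel_left p a]
    exact K.mul_mem (Subgroup.mem_sup_left hp) (Subgroup.mem_sup_right hn)
  have hx2 : IsPGroup 2 (Subgroup.zpowers a) := by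
    obtain ⟨j, hj⟩ := IsPGroup.iff_orderOf.1 P.isPGroup' ⟨x ^ k, pow_mem hx.mem k⟩
    refine IsPGroup.of_card (n := j) ?_
    rw [Nat.card_zpowers, hadef, Signalizer.orderOf_conj, ← hj, ← Subgroup.orderOf_coe]
  obtain ⟨R, hR⟩ := (hx2.comap_of_injective K.subtype K.subtype_injective).exists_le_sylow
  obtain ⟨h, hh⟩ := MulAction.exists_smul_eq K R (P.subtype le_sup_left)
  have hha : (h : G) * a * (h : G)⁻¹ ∈ (P : Subgroup G) := by
    have : h * ⟨a, haK⟩ * h⁻¹ ∈ (P.subtype le_sup_left : Sylow 2 K) := by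
      rw [← hh]
      show _ ∈ ((h • R : Sylow 2 K) : Subgroup K)
      rw [Sylow.coe_subgroup_smul]
      exact ⟨⟨a, haK⟩, hR (Subgroup.mem_zpowers a), rfl⟩
    exact this
  have h1 : ((h : G) * g) * x ^ k * ((h : G) * g)⁻¹ = x ^ k := by
    refine hx.fixed _ k ?_
    rwa [mul_inv_rev, show (h : G) * g * x ^ k * (g⁻¹ * (h : G)⁻¹) =
      (h : G) * a * (h : G)⁻¹ by rw [hadef]; group]
  have ha : a = (h : G)⁻¹ * x ^ k * (h : G) := by
    have h2 : (h : G) * a * (h : G)⁻¹ = x ^ k := by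
      rw [← h1, hadef]; group
    rw [← h2]; group
  obtain ⟨p, hp, n, hn, hpn⟩ := Subgroup.mem_sup_of_normal_right.1 h.2
  have hpc : p⁻¹ * x ^ k * p = x ^ k := by
    have := hx.fixed p⁻¹ k (mul_mem (mul_mem (inv_mem hp) (pow_mem hx.mem k)) (inv_mem (inv_mem hp)))
    rwa [inv_inv] at this
  have hn' : QuotientGroup.mk' N n = 1 := (QuotientGroup.eq_one_iff n).2 hn
  calc QuotientGroup.mk' N a = QuotientGroup.mk' N (n⁻¹ * (p⁻¹ * x ^ k * p) * n) := by
        rw [ha, ← hpn]; group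
    _ = QuotientGroup.mk' N (x ^ k) := by simp [hpc, map_mul, map_inv, hn']

omit [Finite G] in
theorem Fixed.pow {P : Subgroup G} {x : G} (hx : Fixed P x) (m : ℕ) : Fixed P (x ^ m) :=
  ⟨pow_mem hx.mem m, fun g k h => by
    rw [← pow_mul] at h ⊢
    exact hx.fixed g (m * k) h⟩

theorem fixed_aux : ∀ n : ℕ, ∀ (G : Type w) [Group G] [Finite G] (P : Sylow 2 G) (x : G),
    orderOf x = n → Fixed (P : Subgroup G) x → ∀ g : G, x * g * x⁻¹ * g⁻¹ ∈ oddCore G := by
  intro n
  induction n using Nat.strong_induction_on with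
  | _ n ih =>
  have : Fact (Nat.Prime 2) := ⟨Nat.prime_two⟩
  have caseA : ∀ (G : Type w) [Group G] [Finite G] (P : Sylow 2 G) (x : G),
      orderOf x ≤ n → Fixed (P : Subgroup G) x → oddCore G = ⊥ →
        ∀ g : G, x * g * x⁻¹ * g⁻¹ = 1 := by
    intro G _ _ P x hxn hx hO g
    obtain ⟨j, hj⟩ := IsPGroup.iff_orderOf.1 P.isPGroup' ⟨x, hx.mem⟩
    rw [← Subgroup.orderOf_coe] at hj
    simp only at hj
    rcases j with _ | j
    · rw [pow_zero, orderOf_eq_one_iff] at hj
      simp [hj]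
    set t := x ^ 2 ^ j with htdef
    have ht : orderOf t = 2 := by
      rw [htdef, orderOf_pow_of_dvd (by positivity) (hj ▸ pow_dvd_pow 2 (by omega)), hj, pow_succ,
        Nat.mul_div_cancel_left _ (by positivity)]
    have htP : t ∈ P := pow_mem hx.mem _
    have htc : t ∈ Subgroup.center G := Subgroup.mem_center_iff.2 fun g => by
      have h := mem_oddCore_of_sylow P ht htP (fun h hh => hx.fixed h _ hh) g
      rw [hO, Subgroup.mem_bot, mul_inv_eq_one, mul_inv_eq_iff_eq_mul] at h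
      exact h.symm
    set K := Subgroup.zpowers t with hKdef
    have hKc : K ≤ Subgroup.center G := Subgroup.zpowers_le.2 htc
    have hK2 : Nat.card K = 2 := by rw [hKdef, Nat.card_zpowers, ht]
    have hKn : K.Normal := ⟨fun k hk g => by
      rw [Subgroup.mem_center_iff.1 (hKc hk) g, mul_inv_cancel_right]; exact hk⟩
    have hlt : orderOf (QuotientGroup.mk' K x) < n := by
      refine lt_of_le_of_lt (Nat.le_of_dvd (by positivity) (orderOf_dvd_of_pow_eq_one
        (n := 2 ^ j) ?_)) (lt_of_lt_of_le ?_ hxn)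
      · rw [← map_pow, QuotientGroup.mk'_apply, QuotientGroup.eq_one_iff]
        exact Subgroup.mem_zpowers t
      · rw [hj]
        exact Nat.pow_lt_pow_right one_lt_two (by omega)
    have h1 := ih _ hlt (G ⧸ K) (P.mapSurjective (QuotientGroup.mk'_surjective K))
      (QuotientGroup.mk' K x) rfl (by rw [Sylow.coe_mapSurjective]; exact hx.map K)
      (QuotientGroup.mk' K g)
    simp only [← map_mul, ← map_inv] at h1
    set N := (oddCore (G ⧸ K)).comap (QuotientGroup.mk' K) with hN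
    have hKN : K ≤ N := fun k hk => by
      rw [hN, Subgroup.mem_comap, QuotientGroup.mk'_apply, (QuotientGroup.eq_one_iff k).2 hk]
      exact one_mem _
    have hNc : Nat.card N = 2 * Nat.card (oddCore (G ⧸ K)) := by rw [hN, Core.card_comap_mk', hK2]
    have hbot : oddCore (G ⧸ K) = ⊥ := by
      refine Subgroup.eq_bot_of_card_eq _ ?_
      by_contra hne
      obtain ⟨p, hp, hpd⟩ := Nat.exists_prime_and_dvd hne
      have := Fact.mk hp
      obtain ⟨c, hc⟩ := exists_prime_orderOf_dvd_card' (G := N) p (hNc ▸ dvd_mul_of_dvd_right hpd 2)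
      have hco : Odd (orderOf (c : G)) := by
        rw [Subgroup.orderOf_coe, hc]
        exact odd_of_dvd hpd (odd_card_oddCore _)
      have := mem_oddCore_of_central hKc hK2 inferInstance hKN (odd_card_oddCore _) hNc c.2 hco
      rw [hO, Subgroup.mem_bot] at this
      rw [← Subgroup.orderOf_coe, this, orderOf_one] at hc
      exact hp.one_lt.ne hc
    rw [hbot, Subgroup.mem_bot, QuotientGroup.mk'_apply, QuotientGroup.eq_one_iff] at h1
    have hg : g * x * g⁻¹ = (x * g * x⁻¹ * g⁻¹)⁻¹ * x := by group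
    have hgP : g * x ^ 1 * g⁻¹ ∈ (P : Subgroup G) := by
      rw [pow_one, hg]
      exact mul_mem (inv_mem (Subgroup.zpowers_le.2 htP h1)) hx.mem
    have h2 := hx.fixed g 1 hgP
    rw [pow_one, hg, mul_eq_right, inv_eq_one] at h2
    exact h2
  intro G _ _ P x hn hx g
  rw [← QuotientGroup.eq_one_iff]
  have h := caseA (G ⧸ oddCore G) (P.mapSurjective (QuotientGroup.mk'_surjective (oddCore G)))
    (QuotientGroup.mk' (oddCore G) x)
    (hn ▸ Nat.le_of_dvd (orderOf_pos x) (orderOf_map_dvd _ _))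
    (by rw [Sylow.coe_mapSurjective]; exact hx.map (oddCore G))
    (Core.pPrimeCore_quotient_pPrimeCore 2 G) (QuotientGroup.mk' (oddCore G) g)
  simpa [← map_mul, ← map_inv] using h

/-- Z* for elements of any 2-power order. -/
theorem commutator_mem_oddCore_of_fixed (P : Sylow 2 G) {x : G} (hx : Fixed (P : Subgroup G) x)
    (g : G) : x * g * x⁻¹ * g⁻¹ ∈ oddCore G :=
  fixed_aux _ G P x rfl hx g

/-- The index of `Q` in `Q ⊔ O` divides the order of the normal subgroup `O`. -/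
theorem relIndex_sup_dvd_card {H : Type*} [Group H] [Finite H] (Q O : Subgroup H) [O.Normal] :
    Q.relIndex (Q ⊔ O) ∣ Nat.card O := by
  have h1 := (O.subgroupOf (Q ⊔ O)).card_mul_index
  have h2 := (Q.subgroupOf (Q ⊔ O)).card_mul_index
  rw [Nat.card_congr (Subgroup.subgroupOfEquivOfLe le_sup_right).toEquiv, ← Subgroup.relIndex,
    Subgroup.relIndex_sup_right] at h1
  rw [Nat.card_congr (Subgroup.subgroupOfEquivOfLe le_sup_left).toEquiv, ← Subgroup.relIndex,
    ← h1] at h2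
  refine Nat.dvd_of_mul_dvd_mul_left (Nat.card_pos (α := Q)) ?_
  rw [h2, mul_comm (Nat.card Q)]
  exact Nat.mul_dvd_mul_left _ (Subgroup.relIndex_dvd_card ..)

/-- Conjugations between subgroups of `P` can be chosen to centralise a subgroup of `P` which is
central modulo a normal subgroup of odd order. -/
theorem exists_centralizing_conj (P : Sylow 2 G) {O Q R : Subgroup G} (hOn : O.Normal)
    (hOodd : Odd (Nat.card O)) (hQP : Q ≤ P) (hQ : ∀ q ∈ Q, ∀ g : G, q * g * q⁻¹ * g⁻¹ ∈ O)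
    (hRP : R ≤ P) {g : G} (hg : ∀ x ∈ R, g * x * g⁻¹ ∈ (P : Subgroup G)) :
    ∃ g' : G, (∀ x ∈ R, g' * x * g'⁻¹ = g * x * g⁻¹) ∧ ∀ q ∈ Q, g' * q = q * g' := by
  have : Fact (Nat.Prime 2) := ⟨Nat.prime_two⟩
  have hdisj : ∀ z ∈ (P : Subgroup G), z ∈ O → z = 1 := fun z hz hzO => by
    obtain ⟨j, hj⟩ := IsPGroup.iff_orderOf.1 P.isPGroup' ⟨z, hz⟩
    rw [← Subgroup.orderOf_coe] at hj
    refine orderOf_eq_one_iff.1 (Nat.dvd_one.1 ?_)
    have h := Nat.dvd_gcd (Subgroup.orderOf_dvd_natCard _ hzO) (dvd_of_eq hj)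
    rwa [(Nat.coprime_two_right.2 hOodd).pow_right j] at h
  have hQc : ∀ q ∈ Q, ∀ z ∈ (P : Subgroup G), z * q = q * z := fun q hq z hz => by
    have h := hdisj _ (mul_mem (mul_mem (mul_mem (hQP hq) hz) (inv_mem (hQP hq))) (inv_mem hz))
      (hQ q hq z)
    rw [mul_inv_eq_one, mul_inv_eq_iff_eq_mul] at h
    exact h.symm
  -- Frattini: `g = o * c` with `o ∈ O` and `c` centralising `Q`
  set K := Q ⊔ O with hK
  have hKn : K.Normal := ⟨fun k hk h => by
    obtain ⟨q, hq, o, ho, rfl⟩ := Subgroup.mem_sup_of_normal_right.1 hk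
    have e : h * (q * o) * h⁻¹ = q * (q⁻¹ * (q * h * q⁻¹ * h⁻¹)⁻¹ * q) * (h * o * h⁻¹) := by group
    rw [e]
    refine K.mul_mem (K.mul_mem (Subgroup.mem_sup_left hq) (Subgroup.mem_sup_right ?_))
      (Subgroup.mem_sup_right (hOn.conj_mem o ho h))
    have := hOn.conj_mem _ (inv_mem (hQ q hq h)) q⁻¹
    rwa [inv_inv] at this⟩
  have hQK : Q ≤ K := le_sup_left
  have hidx : ¬ 2 ∣ (Q.subgroupOf K).index := by
    intro h
    have h1 : (Q.subgroupOf K).index ∣ Nat.card O := by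
      rw [← Subgroup.relIndex]
      exact relIndex_sup_dvd_card Q O
    exact Nat.not_even_iff_odd.2 hOodd (even_iff_two_dvd.2 (h.trans h1))
  set QS : Sylow 2 K := ((P.isPGroup'.to_le hQP).comap_of_injective K.subtype
    K.subtype_injective).toSylow hidx with hQS
  have hfr := Sylow.normalizer_sup_eq_top QS
  have hmapQ : ((QS : Subgroup K).map K.subtype) = Q := by
    show (Q.subgroupOf K).map K.subtype = Q
    rw [Subgroup.subgroupOf_map_subtype, inf_eq_left.2 hQK]
  rw [hmapQ] at hfr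
  have hgmem : g ∈ Subgroup.normalizer (Q : Set G) ⊔ K := hfr ▸ Subgroup.mem_top g
  obtain ⟨k, hk, m, hm, rfl⟩ := Subgroup.mem_sup_of_normal_right.1
    (show g ∈ Subgroup.normalizer (Q : Set G) ⊔ K from hgmem)
  obtain ⟨q₀, hq₀, o, ho, rfl⟩ := Subgroup.mem_sup_of_normal_right.1 hm
  have hc : ∀ q ∈ Q, (k * q₀) * q = q * (k * q₀) := by
    intro q hq
    have hkq : k * q * k⁻¹ ∈ Q := (Subgroup.mem_normalizer_iff.1 hk q).1 hq
    have h := hdisj _ (mul_mem (hQP hq) (inv_mem (hQP hkq)))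
      (by simpa [mul_assoc] using hQ q hq k)
    rw [mul_inv_eq_one, eq_mul_inv_iff_mul_eq] at h
    rw [mul_assoc, hQc q hq q₀ (hQP hq₀), ← mul_assoc, ← h, mul_assoc]
  set c := k * q₀ with hcdef
  rw [← mul_assoc, ← hcdef] at hg ⊢
  set o' := c * o * c⁻¹ with ho'def
  have ho' : o' ∈ O := hOn.conj_mem o ho c
  have hgo : c * o = o' * c := by rw [ho'def]; group
  rw [hgo] at hg ⊢
  -- inside the centraliser of `Q`
  set C := Subgroup.centralizer (Q : Set G) with hC
  set OC := O.subgroupOf C with hOC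
  have hcC : c ∈ C := Subgroup.mem_centralizer_iff.2 fun q hq => (hc q hq).symm
  have hPC : (P : Subgroup G) ≤ C := fun z hz =>
    Subgroup.mem_centralizer_iff.2 fun q hq => (hQc q hq z hz).symm
  let R' : Subgroup C := (R.map (MulAut.conj (o' * c)).toMonoidHom).subgroupOf C
  let R'' : Subgroup C := (R.map (MulAut.conj c).toMonoidHom).subgroupOf C
  have hR'P : R.map (MulAut.conj (o' * c)).toMonoidHom ≤ (P : Subgroup G) := by
    rintro _ ⟨x, hx, rfl⟩
    exact hg x hx
  have hpR' : IsPGroup 2 R' :=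
    (P.isPGroup'.to_le hR'P).comap_of_injective C.subtype C.subtype_injective
  have hpR'' : IsPGroup 2 R'' :=
    ((P.isPGroup'.to_le hRP).map _).comap_of_injective C.subtype C.subtype_injective
  set L := R' ⊔ OC with hL
  have hR''L : R'' ≤ L := by
    rintro ⟨z, hz⟩ ⟨x, hx, rfl⟩
    have hy := hg x hx
    set y := o' * c * x * (o' * c)⁻¹ with hydef
    have e : c * x * c⁻¹ = y * (y⁻¹ * o'⁻¹ * y * o') := by rw [hydef]; group
    have hw : y⁻¹ * o'⁻¹ * y * o' ∈ O := by
      have := hOn.conj_mem _ (inv_mem ho') y⁻¹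
      rw [inv_inv] at this
      exact mul_mem this ho'
    have hwC : y⁻¹ * o'⁻¹ * y * o' ∈ C := by
      have : y⁻¹ * o'⁻¹ * y * o' = y⁻¹ * (c * x * c⁻¹) := by rw [hydef]; group
      rw [this]
      exact C.mul_mem (C.inv_mem (hPC hy)) hz
    have hz' : (⟨_, hz⟩ : C) = ⟨y, hPC hy⟩ * ⟨_, hwC⟩ := Subtype.ext e
    rw [hz']
    exact L.mul_mem (Subgroup.mem_sup_left ⟨x, hx, rfl⟩) (Subgroup.mem_sup_right hw)
  have hidx' : ¬ 2 ∣ (R'.subgroupOf L).index := by
    intro h
    have : OC.Normal := hOn.subgroupOf C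
    have h1 : (R'.subgroupOf L).index ∣ Nat.card OC := by
      rw [← Subgroup.relIndex]
      exact relIndex_sup_dvd_card R' OC
    have h2 : Nat.card OC ∣ Nat.card O :=
      Subgroup.card_comap_dvd_of_injective O C.subtype C.subtype_injective
    exact Nat.not_even_iff_odd.2 hOodd (even_iff_two_dvd.2 ((h.trans h1).trans h2))
  set RS : Sylow 2 L := (hpR'.comap_of_injective L.subtype L.subtype_injective).toSylow hidx'
  obtain ⟨T, hT⟩ := (hpR''.comap_of_injective L.subtype L.subtype_injective).exists_le_sylow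
  obtain ⟨h, hh⟩ := MulAction.exists_smul_eq L T RS
  have : OC.Normal := hOn.subgroupOf C
  obtain ⟨r, hr, d, hd, hrd⟩ := Subgroup.mem_sup_of_normal_right.1 h.2
  refine ⟨(d : G) * c, fun x hx => ?_, fun q hq => ?_⟩
  · have hxC : c * x * c⁻¹ ∈ C := C.mul_mem (C.mul_mem hcC (hPC (hRP hx))) (C.inv_mem hcC)
    let z : C := ⟨c * x * c⁻¹, hxC⟩
    have hzR : z ∈ R'' := ⟨x, hx, rfl⟩
    have hmem : (h : C) * z * (h : C)⁻¹ ∈ R' := by
      have hm : h * ⟨z, hR''L hzR⟩ * h⁻¹ ∈ (RS : Subgroup L) := by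
        rw [← hh, Sylow.coe_subgroup_smul]
        exact ⟨⟨z, hR''L hzR⟩, hT hzR, rfl⟩
      exact hm
    have hmem' : d * z * d⁻¹ ∈ R' := by
      have e : d * z * d⁻¹ = r⁻¹ * ((h : C) * z * (h : C)⁻¹) * r := by rw [← hrd]; group
      rw [e]
      exact R'.mul_mem (R'.mul_mem (R'.inv_mem hr) hmem) hr
    set a := (d : G) * (c * x * c⁻¹) * (d : G)⁻¹ with hadef
    set b := o' * c * x * (o' * c)⁻¹ with hbdef
    have haP : a ∈ (P : Subgroup G) := hR'P hmem'
    have hab : a * b⁻¹ ∈ O := by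
      have e : a * b⁻¹ = (d : G) * ((c * x * c⁻¹) * ((d : G)⁻¹ * o') * (c * x * c⁻¹)⁻¹) * o'⁻¹ := by
        rw [hadef, hbdef]; group
      rw [e]
      exact mul_mem (mul_mem hd (hOn.conj_mem _ (mul_mem (inv_mem hd) ho') _)) (inv_mem ho')
    have := mul_inv_eq_one.1 (hdisj _ (mul_mem haP (inv_mem (hg x hx))) hab)
    rw [mul_inv_rev, show (d : G) * c * x * (c⁻¹ * (d : G)⁻¹) = a by rw [hadef]; group]
    exact this
  · have h1 : q * (d : G) = (d : G) * q := Subgroup.mem_centralizer_iff.1 d.2 q hq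
    rw [mul_assoc, hc q hq, ← mul_assoc, ← h1, mul_assoc]

end CfsgLib.ZStar
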