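import Cfsg.Agent.S0936
import Cfsg.Agent.Lib.Blocks.SecondMain
import Cfsg.Agent.Lib.Blocks.Union
import Cfsg.Agent.Lib.Char.CliffordRestrict
import Cfsg.Agent.Lib.CharDegree.Basic

/-!
# Principal block characters on a `p`-section
-/

namespace CfsgLib.ZStar

open Cfsg CfsgLib.Blocks
open scoped ComplexConjugate Classical

/-- Some maximal ideal of the algebraic integers contains `p`. -/
theorem exists_isPModular {p : ℕ} (hp : p.Prime) : ∃ M : Ideal AlgInt, IsPModular p M := by
  have hne : Ideal.span {(p : AlgInt)} ≠ ⊤ := by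
    rw [Ne, Ideal.span_singleton_eq_top]
    rintro ⟨u, hu⟩
    have h1 : ((p : ℂ)) * ((↑u⁻¹ : AlgInt) : ℂ) = 1 := by
      have := congrArg (fun a : AlgInt => (a : ℂ)) (show (p : AlgInt) * (↑u⁻¹ : AlgInt) = 1 by
        rw [← hu, Units.mul_inv])
      simpa using this
    have h2 : IsIntegral ℤ ((p : ℚ)⁻¹) := by
      refine (isIntegral_algebraMap_iff (B := ℂ) (RingHom.injective _)).mp ?_
      have : algebraMap ℚ ℂ ((p : ℚ)⁻¹) = ((↑u⁻¹ : AlgInt) : ℂ) := by
        rw [map_inv₀, map_natCast]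
        exact inv_eq_of_mul_eq_one_right h1
      rw [this]
      exact (↑u⁻¹ : AlgInt).2
    obtain ⟨k, hk⟩ := IsIntegrallyClosed.isIntegral_iff.mp h2
    have h3 : (p : ℤ) * k = 1 := by
      have hp0 : (p : ℚ) ≠ 0 := Nat.cast_ne_zero.mpr hp.ne_zero
      have h4 : ((p : ℤ) : ℚ) * (k : ℚ) = 1 := by
        rw [show (k : ℚ) = (p : ℚ)⁻¹ from hk, Int.cast_natCast, mul_inv_cancel₀ hp0]
      exact_mod_cast h4
    exact hp.not_dvd_one (Int.natCast_dvd_natCast.mp (⟨k, by simpa using h3.symm⟩ : (p : ℤ) ∣ ((1 : ℕ) : ℤ)))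
  obtain ⟨M, hM, hle⟩ := Ideal.exists_le_maximal _ hne
  exact ⟨M, hp, hM, hle (Ideal.mem_span_singleton_self _)⟩

variable {G : Type*} [Group G] [Fintype G] {p : ℕ} {M : Ideal AlgInt} [M.IsPrime]

theorem trivChar_mem_principalBlock :
    Char.trivChar G ∈ principalBlock M G := mem_blockOf_self (Char.trivChar G)

theorem isPBlock_principalBlock : IsPBlock M (principalBlock M G) :=
  ⟨Char.trivChar G, rfl⟩

/-- A set of characters closed under blocks is the disjoint union of its blocks. -/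
theorem sum_eq_zero_of_blocks {A : Set (IrrCharacter G)}
    (hA : ∀ χ ∈ A, ∀ ψ : IrrCharacter G, SameBlock M (χ : G → ℂ) (ψ : G → ℂ) → ψ ∈ A) (c : IrrCharacter G → ℂ)
    (h : ∀ B, IsPBlock M B → B ⊆ A → ∑ᶠ χ ∈ B, c χ = 0) : ∑ᶠ χ ∈ A, c χ = 0 := by
  have := Fintype.ofFinite (IrrCharacter G)
  rw [finsum_mem_eq_finite_toFinset_sum _ (Set.toFinite A),
    ← Finset.sum_fiberwise_of_maps_to (g := fun χ : IrrCharacter G => blockOf M (χ : G → ℂ))
      (t := (Set.toFinite A).toFinset.image fun χ : IrrCharacter G => blockOf M (χ : G → ℂ))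
      (fun χ hχ => Finset.mem_image_of_mem _ hχ)]
  refine Finset.sum_eq_zero fun B hB => ?_
  obtain ⟨χ, hχ, rfl⟩ := Finset.mem_image.1 hB
  rw [Set.Finite.mem_toFinset] at hχ
  refine Eq.trans ?_ (h _ (isPBlock_blockOf χ) fun ψ hψ => hA χ hχ ψ hψ)
  rw [finsum_mem_eq_finite_toFinset_sum _ (Set.toFinite _)]
  refine Finset.sum_congr ?_ fun _ _ => rfl
  ext ψ
  simp only [Finset.mem_filter, Set.Finite.mem_toFinset]
  exact ⟨fun hh => hh.2 ▸ mem_blockOf_self ψ, fun hh => ⟨hA χ hχ ψ hh,
    (IsPBlock.eq_blockOf (isPBlock_blockOf χ) hh).symm⟩⟩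

/-- Normal `p'`-subgroups lie in the kernel of the principal block. -/
theorem apply_eq_of_mem_normal (hM : IsPModular p M) {N : Subgroup G} (hN : N.Normal)
    (hNp : ¬ p ∣ Nat.card N) {χ : IrrCharacter G} (hχ : χ ∈ principalBlock M G) {n : G}
    (hn : n ∈ N) : (χ : G → ℂ) n = (χ : G → ℂ) 1 := by
  have := Fintype.ofFinite N
  have := Fintype.ofFinite (IrrCharacter G)
  let A : Set (IrrCharacter G) := {ψ | ∀ x : N, (ψ : G → ℂ) x = (ψ : G → ℂ) 1}
  have hinner : ∀ ψ : IrrCharacter G, Cfsg.classInner (fun x : N => (ψ : G → ℂ) x) (fun _ => 1) =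
      if ψ ∈ A then (ψ : G → ℂ) 1 else 0 := by
    intro ψ
    split_ifs with h
    · have : (fun x : N => (ψ : G → ℂ) x) = (ψ : G → ℂ) 1 • fun _ : N => (1 : ℂ) :=
        funext fun x => by simp [h x]
      rw [this, Char.classInner_smul_left,
        show Cfsg.classInner (fun _ : N => (1 : ℂ)) (fun _ => 1) = 1 from
          Char.classInner_irr_self (Char.trivChar N), mul_one]
    · by_contra hne
      refine h fun x => ?_
      have hc := Clifford.restrict_eq_smul_orbit_sum hN ψ.2 (χ := fun _ : N => (1 : ℂ))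
        Char.isIrrCharacter_one hne
      have hconst : ∀ y : N, (fun y : N => (ψ : G → ℂ) y) y =
          Cfsg.classInner (fun x : N => (ψ : G → ℂ) x) (fun _ => 1) *
            (Finset.univ.image (Clifford.conjFn hN fun _ : N => (1 : ℂ))).card := by
        intro y
        refine (congrFun hc y).trans ?_
        rw [Pi.smul_apply, Finset.sum_apply, smul_eq_mul]
        congr 1
        rw [Finset.sum_congr rfl (g := fun _ => (1 : ℂ)) fun φ hφ => ?_, Finset.sum_const,
          nsmul_eq_mul, mul_one]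
        obtain ⟨g, -, rfl⟩ := Finset.mem_image.1 hφ
        rfl
      have h1 := hconst x
      have h2 := hconst 1
      simp only [Subgroup.coe_one] at h1 h2
      rw [h1, h2]
  let θ : G → ℂ := fun g => if g ∈ N then ((Nat.card N : ℂ))⁻¹ else 0
  have hθ : IsClassFunction G θ := fun g h => by
    refine if_congr ⟨fun hh => ?_, fun hh => hN.conj_mem _ hh h⟩ rfl rfl
    have := hN.conj_mem _ hh h⁻¹
    simpa [mul_assoc] using this
  have hθi : ∀ ψ : IrrCharacter G, Cfsg.classInner θ (ψ : G → ℂ) =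
      (Nat.card G : ℂ)⁻¹ * if ψ ∈ A then conj ((ψ : G → ℂ) 1) else 0 := by
    intro ψ
    rw [Cfsg.classInner]
    congr 1
    have h1 := congrArg conj (hinner ψ)
    rw [Char.classInner_conj_symm, apply_ite conj, map_zero] at h1
    rw [← h1, Cfsg.classInner, Finset.mul_sum]
    simp only [θ, ite_mul, zero_mul, one_mul, ← Finset.sum_filter]
    rw [Finset.sum_subtype (p := fun g : G => g ∈ N) _ (by simp)]
  have hcoef : ∀ g, blockCoeff A g = conj (θ g) := by
    intro g
    rw [Char.classFunction_apply_eq_sum hθ g, map_sum, blockCoeff_eq_sum, Finset.mul_sum,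
      Finset.sum_filter]
    refine Finset.sum_congr rfl fun ψ _ => ?_
    obtain ⟨d, -, hd⟩ := Char.IsIrr.exists_degree ψ.2
    rw [hθi, Char.IsIrr.map_inv ψ.2]
    split_ifs with h <;> simp [hd, mul_assoc]
  have hAmem : ∀ g, blockCoeff A g ∈ localRing M := by
    intro g
    rw [hcoef]
    simp only [θ]
    split_ifs
    · rw [map_inv₀, map_natCast]
      exact inv_natCast_mem hM hNp
    · rw [map_zero]
      exact zero_mem _
  exact mem_of_sameBlock_of_blockCoeff_mem hAmem (χ := Char.trivChar G)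
    (fun x : N => rfl) hχ ⟨n, hn⟩

/-- On `x · (p`-regular elements of `C(x))` only the principal block of `C(x)` contributes
(second and third main theorems). -/
theorem apply_mul_eq_blockPart [Fact p.Prime] (hM : IsPModular p M) {x : G}
    (hx : ∃ k : ℕ, orderOf x = p ^ k) {χ : IrrCharacter G} (hχ : χ ∈ principalBlock M G)
    {y : Subgroup.centralizer ({x} : Set G)} (hy : ¬ p ∣ orderOf y) :
    (χ : G → ℂ) (x * (y : G)) = blockPart (principalBlock M (Subgroup.centralizer ({x} : Set G)))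
      (fun c : Subgroup.centralizer ({x} : Set G) => (χ : G → ℂ) (x * (c : G))) y := by
  let C := Subgroup.centralizer ({x} : Set G)
  set θ : C → ℂ := fun c => (χ : G → ℂ) (x * (c : G))
  have hθ : IsClassFunction C θ := fun c d => by
    show (χ : G → ℂ) _ = (χ : G → ℂ) _
    have hd : Commute (d : G) x := mem_centralizer_singleton.1 d.2
    rw [show x * ((d * c * d⁻¹ : C) : G) = (d : G) * (x * c) * (d : G)⁻¹ by
      simp only [Subgroup.coe_mul, Subgroup.coe_inv]
      rw [← mul_assoc, ← mul_assoc, ← hd.eq]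
      group]
    exact Char.IsIrr.isClassFunction χ.2 _ _
  have := Fintype.ofFinite (IrrCharacter C)
  have hrest : ∑ᶠ ψ ∈ (principalBlock M C)ᶜ,
      Cfsg.classInner θ (ψ : C → ℂ) * (ψ : C → ℂ) y = 0 := by
    refine sum_eq_zero_of_blocks (M := M) (fun ψ hψ φ h => ?_) _ fun B hB hBA => ?_
    · intro hφ
      exact hψ (SameBlock.trans' (χ := Char.trivChar C) hφ (SameBlock.symm' h))
    · refine (blockPart_eq B θ y).symm.trans (blockPart_eq_zero_of_not_induced hM hx
        isPBlock_principalBlock hχ hB (fun hind => ?_) hy)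
      have := (Cfsg.Agent.S0936.result p M hM C B ⟨_, hind⟩).1 hind
      exact hBA (this ▸ trivChar_mem_principalBlock) trivChar_mem_principalBlock
  show θ y = _
  rw [Char.classFunction_apply_eq_sum hθ y, blockPart_eq,
    ← finsum_eq_sum_of_fintype, ← finsum_mem_univ,
    ← Set.union_compl_self (principalBlock M C),
    finsum_mem_union disjoint_compl_right (Set.toFinite _) (Set.toFinite _), hrest, add_zero]

/-- A principal block character is constant on `x · O_{p'}(C(x))`. -/
theorem apply_mul_eq_of_mem [Fact p.Prime] (hM : IsPModular p M) {x : G}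
    (hx : ∃ k : ℕ, orderOf x = p ^ k) {N : Subgroup (Subgroup.centralizer ({x} : Set G))}
    (hN : N.Normal) (hNp : ¬ p ∣ Nat.card N) {χ : IrrCharacter G} (hχ : χ ∈ principalBlock M G)
    {w : Subgroup.centralizer ({x} : Set G)} (hw : w ∈ N) :
    (χ : G → ℂ) (x * (w : G)) = (χ : G → ℂ) x := by
  have hwp : ¬ p ∣ orderOf w := fun h => hNp (h.trans (Subgroup.orderOf_dvd_natCard _ hw))
  have h1 : ¬ p ∣ orderOf (1 : Subgroup.centralizer ({x} : Set G)) := by
    rw [orderOf_one]; exact hM.1.not_dvd_one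
  have h2 := apply_mul_eq_blockPart hM hx hχ h1
  rw [Subgroup.coe_one, mul_one] at h2
  rw [apply_mul_eq_blockPart hM hx hχ hwp, h2, blockPart_eq, blockPart_eq]
  refine finsum_mem_congr rfl fun ψ hψ => ?_
  rw [apply_eq_of_mem_normal hM hN hNp hψ hw]

end CfsgLib.ZStar
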