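import Cfsg.Agent.Lib.ZStar.Main
import Mathlib.GroupTheory.SpecificGroups.KleinFour

/-!
# Applications of the Z*-theorem: one involution in a Sylow 2-subgroup

* `mem_oddCore_of_unique`: a unique involution of a Sylow 2-subgroup is central modulo `O(G)`.
-/

namespace CfsgLib.ZStar

open Cfsg CfsgLib.Signalizer

variable {G : Type*} [Group G] [Finite G]

theorem mem_oddCore_of_unique (P : Sylow 2 G) {u : G} (hu : orderOf u = 2) (huP : u ∈ P)
    (huniq : ∀ x ∈ P, orderOf x = 2 → x = u) (g : G) :
    u * g * u⁻¹ * g⁻¹ ∈ oddCore G :=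
  mem_oddCore_of_sylow P hu huP (fun h hh => huniq _ hh (by rw [Signalizer.orderOf_conj, hu])) g

/-- A Sylow 2-subgroup of a group of 2-rank one has only one involution. -/
theorem exists_unique_involution (heven : Even (Nat.card G))
    (hrank : ∀ E : Subgroup G, ¬ IsKleinFour E) (P : Sylow 2 G) :
    ∃ z ∈ P, orderOf z = 2 ∧ ∀ x ∈ P, orderOf x = 2 → x = z := by
  have : Fact (Nat.Prime 2) := ⟨Nat.prime_two⟩
  have hne : (P : Subgroup G) ≠ ⊥ := P.ne_bot_of_dvd_card (even_iff_two_dvd.1 heven)
  have : Nontrivial (P : Subgroup G) := (P : Subgroup G).nontrivial_iff_ne_bot.2 hne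
  have : Nontrivial (Subgroup.center (P : Subgroup G)) := P.isPGroup'.center_nontrivial
  obtain ⟨w, hw⟩ := exists_prime_orderOf_dvd_card' (G := Subgroup.center (P : Subgroup G)) 2 (by
    obtain ⟨k, hk0, hk⟩ := (P.isPGroup'.to_subgroup _).nontrivial_iff_card.1 ‹_›
    exact hk ▸ dvd_pow_self 2 hk0.ne')
  have hz : orderOf ((w : (P : Subgroup G)) : G) = 2 := by
    rw [Subgroup.orderOf_coe, Subgroup.orderOf_coe, hw]
  refine ⟨_, Subtype.coe_prop (w : (P : Subgroup G)), hz, fun x hx hx2 => ?_⟩
  by_contra hne'
  set z : G := ((w : (P : Subgroup G)) : G)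
  have hcomm : Commute z x :=
    (congrArg Subtype.val (Subgroup.mem_center_iff.1 w.2 ⟨x, hx⟩)).symm
  let E : Subgroup G :=
    { carrier := {1, z, x, z * x}
      one_mem' := by simp
      mul_mem' := by
        intro a b ha hb
        have hzz := involution_sq hz
        have hxx := involution_sq hx2
        have hxz : x * z = z * x := hcomm.eq.symm
        simp only [Set.mem_insert_iff, Set.mem_singleton_iff] at ha hb ⊢
        rcases ha with rfl | rfl | rfl | rfl <;> rcases hb with rfl | rfl | rfl | rfl <;>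
          simp [mul_assoc, hzz, hxx, hxz, mul_left_cancel_iff] <;>
          simp [← mul_assoc, hzz, hxx, hxz] <;> simp [mul_assoc, hxx]
      inv_mem' := by
        intro a ha
        simp only [Set.mem_insert_iff, Set.mem_singleton_iff] at ha ⊢
        rcases ha with rfl | rfl | rfl | rfl <;>
          simp [involution_inv hz, involution_inv hx2, hcomm.eq] }
  refine hrank E ⟨?_, ?_⟩
  · have h1 : z ≠ 1 := involution_ne_one hz
    have h2 : x ≠ 1 := involution_ne_one hx2
    have h3 : z * x ≠ 1 := fun h => hne' (by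
      rw [← involution_inv hz]; exact eq_inv_of_mul_eq_one_right h)
    show Nat.card ({1, z, x, z * x} : Set G) = 4
    rw [Nat.card_coe_set_eq, Set.ncard_insert_of_notMem (by simp [h1.symm, h2.symm, h3.symm]),
      Set.ncard_insert_of_notMem (by simp [Ne.symm hne', h2]),
      Set.ncard_pair (by simp [h1])]
  · refine le_antisymm (Nat.le_of_dvd two_pos ?_) ?_
    · refine Monoid.exponent_dvd_of_forall_pow_eq_one fun ⟨a, ha⟩ => Subtype.ext ?_
      show a ^ 2 = 1
      rcases ha with rfl | rfl | rfl | rfl
      · simp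
      · rw [pow_two, involution_sq hz]
      · rw [pow_two, involution_sq hx2]
      · rw [hcomm.mul_pow, pow_two, pow_two, involution_sq hz, involution_sq hx2, one_mul]
    · refine le_trans (le_of_eq ?_) (Nat.le_of_dvd
        (Nat.pos_of_ne_zero Monoid.exponent_ne_zero_of_finite)
        (Monoid.order_dvd_exponent (⟨z, by exact Or.inr (Or.inl rfl)⟩ : E)))
      rw [← Subgroup.orderOf_coe]
      exact hz.symm

/-- The centre of a generalised quaternion group. -/
theorem quaternion_center {m : ℕ} (hm : 2 ≤ m) {z : QuaternionGroup m}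
    (hz : ∀ w, w * z = z * w) : z = 1 ∨ z = .a (m : ZMod (2 * m)) := by
  have : NeZero m := ⟨by omega⟩
  rcases z with i | i
  · have h := hz (.xa 0)
    rw [QuaternionGroup.a_mul_xa, QuaternionGroup.xa_mul_a, QuaternionGroup.xa.injEq] at h
    have h2 : ((2 * i.val : ℕ) : ZMod (2 * m)) = 0 := by
      push_cast [ZMod.natCast_zmod_val]
      linear_combination h
    rw [ZMod.natCast_eq_zero_iff] at h2
    obtain ⟨c, hc⟩ := h2
    have hlt := ZMod.val_lt i
    have hc' : i.val = m * c := by
      have : 2 * i.val = 2 * (m * c) := by rw [hc, mul_assoc]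
      omega
    rcases c with _ | _ | c
    · left
      rw [QuaternionGroup.one_def, ← ZMod.natCast_zmod_val i, hc']
      simp
    · right
      rw [← ZMod.natCast_zmod_val i, hc']
      simp
    · exfalso
      nlinarith
  · exfalso
    have h := hz (.a 1)
    rw [QuaternionGroup.a_mul_xa, QuaternionGroup.xa_mul_a, QuaternionGroup.xa.injEq] at h
    have h2 : ((2 : ℕ) : ZMod (2 * m)) = 0 := by push_cast; linear_combination -h
    rw [ZMod.natCast_eq_zero_iff] at h2
    have := Nat.le_of_dvd two_pos h2
    omega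

end CfsgLib.ZStar
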