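import Cfsg.Agent.Lib.Classical.SLTwoThree
import Mathlib.GroupTheory.SpecificGroups.Quaternion
import Mathlib.GroupTheory.QuotientGroup.Basic

/-!
# `SL(2,3)`-sections from an element of odd order acting on a quaternion group of order 8

* `exists_twist`: an automorphism of `Q₈` of odd order which is not trivial is a standard one.
* `exists_sl_section`: the section isomorphic to `SL(2,3)`.
-/

namespace CfsgLib.ZStar

open CfsgLib.Classical.Two
open scoped MatrixGroups

/-- The map of `Q₈` determined by the images of the generators. -/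
def q8Map (x y : QuaternionGroup 2) : QuaternionGroup 2 → QuaternionGroup 2
  | .a k => x ^ k.val
  | .xa k => y * x ^ k.val

/-- The standard automorphism of order three. -/
def q8Sigma : QuaternionGroup 2 → QuaternionGroup 2 := q8Map (.xa 0) (.xa 3)

theorem q8Sigma_three : ∀ z, q8Sigma (q8Sigma (q8Sigma z)) = z := by decide

theorem q8Sigma_ne : q8Sigma (.a 1) ≠ .a 1 := by decide

set_option synthInstance.maxSize 2000 in
set_option maxRecDepth 10000 in
theorem q8Map_twist : ∀ x y : QuaternionGroup 2,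
    (∀ z w, q8Map x y (z * w) = q8Map x y z * q8Map x y w) →
    (∀ z, q8Map x y z = 1 → z = 1) →
    (∀ z, q8Map x y (q8Map x y (q8Map x y (q8Map x y z))) = z) ∨
    ∃ x' y' : QuaternionGroup 2,
      ((∀ z, q8Map x y (q8Map x' y' z) = q8Map x' y' (q8Sigma z)) ∨
        (∀ z, q8Map x y (q8Map x y (q8Map x' y' z)) = q8Map x' y' (q8Sigma z))) ∧
      (∀ z, q8Map x' y' z = 1 → z = 1) ∧
      (∀ z w, q8Map x' y' (z * w) = q8Map x' y' z * q8Map x' y' w) := by
  decide +kernel

theorem q8Map_eq (β : MulAut (QuaternionGroup 2)) :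
    ∀ z, q8Map (β (.a 1)) (β (.xa 0)) z = β z := by
  rintro (k | k)
  · show β (.a 1) ^ k.val = _
    rw [← map_pow, QuaternionGroup.a_one_pow, ZMod.natCast_zmod_val]
  · show β (.xa 0) * β (.a 1) ^ k.val = _
    rw [← map_pow, ← map_mul, QuaternionGroup.a_one_pow, ZMod.natCast_zmod_val,
      QuaternionGroup.xa_mul_a, zero_add]

theorem exists_twist (β : MulAut (QuaternionGroup 2)) {j : ℕ} (hj : Odd j) (hβj : β ^ j = 1)
    (hne : β ≠ 1) : ∃ c : QuaternionGroup 2 →* QuaternionGroup 2, Function.Injective c ∧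
      ∃ i, (i = 1 ∨ i = 2) ∧ ∀ z, (β ^ i) (c z) = c (q8Sigma z) := by
  have hf := q8Map_eq β
  rcases q8Map_twist (β (.a 1)) (β (.xa 0)) (fun z w => by simp only [hf, map_mul])
      (fun z hz => by rw [hf] at hz; exact β.injective (hz.trans (map_one β).symm)) with
    h | ⟨x', y', h, hinj, hmul⟩
  · exfalso
    have h4 : β ^ 4 = 1 := MulEquiv.ext fun z => by
      have := h z
      simp only [hf] at this
      simpa [pow_succ, MulAut.mul_apply] using this
    refine hne (orderOf_eq_one_iff.1 (Nat.dvd_one.1 ?_))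
    have h2 := Nat.dvd_gcd (orderOf_dvd_of_pow_eq_one h4) (orderOf_dvd_of_pow_eq_one hβj)
    rwa [show (4 : ℕ) = 2 ^ 2 by norm_num,
      ((Nat.coprime_two_left.2 hj).pow_left 2).gcd_eq_one] at h2
  · refine ⟨MonoidHom.mk' (q8Map x' y') hmul, (injective_iff_map_eq_one _).2 hinj, ?_⟩
    rcases h with h | h
    · exact ⟨1, Or.inl rfl, fun z => by rw [pow_one]; exact (hf _).symm.trans (h z)⟩
    · refine ⟨2, Or.inr rfl, fun z => ?_⟩
      have := h z
      simp only [hf] at this
      rw [pow_two, MulAut.mul_apply]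
      exact this

/-- An element of order three of `SL(2,3)`. -/
def slThree : SL(2, ZMod 3) := ⟨!![1, 1; 0, 1], by decide⟩

/-- The decomposition `SL(2,3) = Q₈ · C₃`. -/
def slCoord (p : QuaternionGroup 2 × Fin 3) : SL(2, ZMod 3) := quatHom p.1 * slThree ^ (p.2 : ℕ)

theorem slCoord_surjective : ∀ A : SL(2, ZMod 3), ∃ p, slCoord p = A := by decide +kernel

theorem slCoord_injective : ∀ p q, slCoord p = slCoord q → p = q := by decide +kernel

theorem slCoord_mul : ∀ p q : QuaternionGroup 2 × Fin 3,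
    slCoord p * slCoord q = slCoord (p.1 * q8Sigma^[(p.2 : ℕ)] q.1, p.2 + q.2) := by
  decide +kernel

theorem exists_sl_section {G : Type*} [Group G] [Finite G] (ι : QuaternionGroup 2 →* G)
    (hι : Function.Injective ι) {g : G} (hg : Odd (orderOf g))
    (hconj : ∀ z, g * ι z * g⁻¹ = ι (q8Sigma z)) :
    ∃ (H K : Subgroup G) (_ : (K.subgroupOf H).Normal),
      Nonempty ((H ⧸ K.subgroupOf H) ≃* Matrix.SpecialLinearGroup (Fin 2) (ZMod 3)) := by
  classical
  set H := ι.range ⊔ Subgroup.zpowers g with hH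
  set K := Subgroup.zpowers (g ^ 3) with hK
  have hpow : ∀ (k : ℕ) z, g ^ k * ι z = ι (q8Sigma^[k] z) * g ^ k := by
    intro k
    induction k with
    | zero => intro z; simp
    | succ k ih =>
      intro z
      rw [pow_succ, mul_assoc, show g * ι z = ι (q8Sigma z) * g by rw [← hconj z]; group,
        ← mul_assoc, ih, Function.iterate_succ_apply, mul_assoc]
  have hcent : ∀ h ∈ H, Commute (g ^ 3) h := by
    have : H ≤ Subgroup.centralizer {g ^ 3} := by
      refine sup_le ?_ (Subgroup.zpowers_le.2 ?_)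
      · rintro _ ⟨z, rfl⟩
        refine Subgroup.mem_centralizer_singleton_iff.2 ?_
        rw [hpow 3 z]
        simp [Function.iterate_succ, q8Sigma_three]
      · exact Subgroup.mem_centralizer_singleton_iff.2 ((Commute.refl g).pow_right 3)
    exact fun h hh => (Subgroup.mem_centralizer_singleton_iff.1 (this hh)).symm
  have hn : (K.subgroupOf H).Normal := ⟨fun k hk h => by
    obtain ⟨i, hi⟩ := hk
    have e : h * k * h⁻¹ = k := Subtype.ext (by
      show (h : G) * k * (h : G)⁻¹ = k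
      rw [show (k : G) = (g ^ 3) ^ i from hi.symm, ← ((hcent h h.2).zpow_left i).eq,
        mul_inv_cancel_right])
    rw [e]
    exact ⟨i, hi⟩⟩
  refine ⟨H, K, hn, ?_⟩
  have hgH : g ∈ H := Subgroup.mem_sup_right (Subgroup.mem_zpowers g)
  let ι' : QuaternionGroup 2 →* H :=
    ι.codRestrict H fun z => Subgroup.mem_sup_left ⟨z, rfl⟩
  let π := QuotientGroup.mk' (K.subgroupOf H)
  have hg3 : π ⟨g, hgH⟩ ^ 3 = 1 := by
    rw [← map_pow, QuotientGroup.mk'_apply, QuotientGroup.eq_one_iff]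
    exact Subgroup.mem_zpowers (g ^ 3)
  let F₀ : QuaternionGroup 2 × Fin 3 → H ⧸ K.subgroupOf H :=
    fun p => π (ι' p.1) * π ⟨g, hgH⟩ ^ (p.2 : ℕ)
  choose co hco using slCoord_surjective
  let F : SL(2, ZMod 3) → H ⧸ K.subgroupOf H := fun A => F₀ (co A)
  have hFc : ∀ p, F (slCoord p) = F₀ p := fun p =>
    congrArg F₀ (slCoord_injective _ _ (hco _))
  have hmul : ∀ A B, F (A * B) = F A * F B := by
    intro A B
    conv_lhs => rw [← hco A, ← hco B, slCoord_mul, hFc]
    show F₀ _ = F₀ _ * F₀ _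
    simp only [F₀, map_mul]
    have e : π ⟨g, hgH⟩ ^ ((co A).2 : ℕ) * π (ι' (co B).1) =
        π (ι' (q8Sigma^[((co A).2 : ℕ)] (co B).1)) * π ⟨g, hgH⟩ ^ ((co A).2 : ℕ) := by
      rw [← map_pow, ← map_mul, ← map_mul]
      exact congrArg π (Subtype.ext (hpow _ _))
    have e2 : π ⟨g, hgH⟩ ^ (((co A).2 + (co B).2 : Fin 3) : ℕ) =
        π ⟨g, hgH⟩ ^ ((co A).2 : ℕ) * π ⟨g, hgH⟩ ^ ((co B).2 : ℕ) := by
      rw [← pow_add, Fin.val_add, ← pow_mod_orderOf _ (_ + _),
        ← pow_mod_orderOf _ ((_ + _) % 3),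
        Nat.mod_mod_of_dvd _ (orderOf_dvd_of_pow_eq_one hg3)]
    rw [e2]
    simp only [mul_assoc]
    rw [← mul_assoc (π ⟨g, hgH⟩ ^ _) (π (ι' (co B).1)), e]
    simp only [mul_assoc]
  have h3 : 3 ∣ orderOf g := by
    by_contra h3
    obtain ⟨i, hi⟩ := exists_pow_eq_self_of_coprime (x := g) (n := 3)
      ((Nat.Prime.coprime_iff_not_dvd Nat.prime_three).2 h3)
    have hc : Commute g (ι (.a 1)) := by
      rw [← hi]
      exact (hcent _ (Subgroup.mem_sup_left ⟨_, rfl⟩)).pow_left i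
    refine q8Sigma_ne (hι ?_)
    rw [← hconj, hc.eq, mul_inv_cancel_right]
  have hinj : ∀ p, F₀ p = 1 → slCoord p = 1 := by
    rintro ⟨z, k⟩ hp
    have hp' : π (ι' z * ⟨g, hgH⟩ ^ (k : ℕ)) = 1 := by rw [map_mul, map_pow]; exact hp
    obtain ⟨i, hi⟩ := (QuotientGroup.eq_one_iff _).1 hp'
    have hi' : (g ^ 3) ^ i = ι z * g ^ (k : ℕ) := hi
    have hzg : ι z ∈ Subgroup.zpowers g := by
      rw [show ι z = (g ^ 3) ^ i * (g ^ (k : ℕ))⁻¹ by rw [hi', mul_inv_cancel_right]]
      exact mul_mem (zpow_mem (pow_mem (Subgroup.mem_zpowers g) 3) i)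
        (inv_mem (pow_mem (Subgroup.mem_zpowers g) _))
    have hz : z = 1 := by
      refine hι ((orderOf_eq_one_iff.1 (Nat.dvd_one.1 ?_)).trans (map_one ι).symm)
      have h8 : orderOf (ι z) ∣ 8 := by
        rw [orderOf_injective ι hι]
        have := orderOf_dvd_natCard z
        rwa [Nat.card_eq_fintype_card, QuaternionGroup.card] at this
      have ho : orderOf (ι z) ∣ orderOf g := by
        rw [← Nat.card_zpowers g]; exact Subgroup.orderOf_dvd_natCard _ hzg
      have h2 := Nat.dvd_gcd h8 ho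
      rwa [show (8 : ℕ) = 2 ^ 3 by norm_num,
        ((Nat.coprime_two_left.2 hg).pow_left 3).gcd_eq_one] at h2
    subst hz
    rw [map_one, one_mul] at hi'
    have hmod : ((3 : ℤ) * i) ≡ (k : ℕ) [ZMOD (orderOf g : ℤ)] := by
      rw [← zpow_eq_zpow_iff_modEq, zpow_mul, show (3 : ℤ) = ((3 : ℕ) : ℤ) from rfl, zpow_natCast,
        zpow_natCast]
      exact hi'
    have h3' : (3 : ℤ) ∣ ((k : ℕ) : ℤ) - 3 * i :=
      dvd_trans (Int.natCast_dvd_natCast.2 h3) hmod.dvd
    have hk3 := k.isLt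
    have : k = 0 := Fin.ext (show (k : ℕ) = 0 by omega)
    subst this
    simp [slCoord]
  let Fh : SL(2, ZMod 3) →* H ⧸ K.subgroupOf H := MonoidHom.mk' F hmul
  have hFinj : Function.Injective Fh := (injective_iff_map_eq_one _).2 fun A hA => by
    rw [← hco A]; exact hinj _ hA
  have hFsurj : Function.Surjective Fh := by
    intro q
    obtain ⟨h, rfl⟩ := QuotientGroup.mk'_surjective _ q
    have hle : H ≤ (Fh.range.comap π).map H.subtype := by
      refine sup_le ?_ (Subgroup.zpowers_le.2 ⟨⟨g, hgH⟩, ⟨slCoord (1, 1), ?_⟩, rfl⟩)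
      · rintro _ ⟨z, rfl⟩
        refine ⟨ι' z, ⟨slCoord (z, 0), ?_⟩, rfl⟩
        show F _ = _
        rw [hFc]
        simp [F₀]
      · show F _ = _
        rw [hFc]
        simp [F₀]
    obtain ⟨h', hh', e⟩ := hle h.2
    obtain rfl : h' = h := Subtype.ext e
    exact hh'
  exact ⟨(MulEquiv.ofBijective Fh ⟨hFinj, hFsurj⟩).symm⟩

end CfsgLib.ZStar
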