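import Cfsg.Agent.Lib.ZStar.FusionCenter
import Cfsg.Agent.Lib.Transfer.Alperin
import Cfsg.Agent.Lib.Core.Coprime
import Cfsg.Agent.Lib.Components.LocalBalance

/-!
# The centralizer of a Sylow 2-subgroup of a normal subgroup

Let `E ⊴ X`, `O(E) = 1`, `S` a Sylow 2-subgroup of `E` and `C = C_X(S)`.

* `centralizes_of_mem_commutator`: every 2-element of `⁅C, C⁆` centralizes `E`;
* `le_centralizer_of_perfect`: a perfect subgroup of `C` generated by 2-elements centralizes `E`.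
-/

set_option autoImplicit false
set_option linter.style.haveILetI false

namespace CfsgLib.ZStar

open Subgroup
open CfsgLib.Signalizer CfsgLib.Components
open scoped commutatorElement Pointwise

universe u

variable {X : Type u} [Group X] [Finite X] {E : Subgroup X}

/-- The `p'`-core of `E ∩ C(A)`, inside `X`. -/
def centCore (E A : Subgroup X) : Subgroup X :=
  (Cfsg.pPrimeCore 2 ↥(E ⊓ centralizer (A : Set X))).map (E ⊓ centralizer (A : Set X)).subtype

omit [Finite X] in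
theorem centCore_le (A : Subgroup X) : centCore E A ≤ E ⊓ centralizer (A : Set X) :=
  Subgroup.map_subtype_le _

theorem centCore_coprime (A : Subgroup X) : (Nat.card (centCore E A)).Coprime 2 := by
  rw [centCore, Subgroup.card_map_of_injective (Subgroup.subtype_injective _)]
  exact pPrimeCore_coprime 2

theorem normalizer_le_normalizer_inf_centralizer [E.Normal] (A : Subgroup X) :
    normalizer (A : Set X) ≤ normalizer ((E ⊓ centralizer (A : Set X) : Subgroup X) : Set X) :=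
  (le_inf Subgroup.le_normalizer_of_normal (normalizer_le_normalizer_centralizer' A)).trans
    Subgroup.inf_normalizer_le_normalizer_inf

theorem normalizer_le_normalizer_centCore [E.Normal] (A : Subgroup X) :
    normalizer (A : Set X) ≤ normalizer (centCore E A : Set X) := by
  set M := E ⊓ centralizer (A : Set X) with hM
  intro g hg
  have hgM := normalizer_le_normalizer_inf_centralizer (E := E) A hg
  refine mem_normalizer_of_smul_eq_self (Subgroup.eq_of_le_of_card_ge ?_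
    (Nat.card_congr (Subgroup.equivSMul (MulAut.conj g) (centCore E A)).toEquiv).le)
  rw [conj_smul_eq_map]
  rintro _ ⟨_, ⟨k, hk, rfl⟩, rfl⟩
  haveI := pPrimeCore_characteristic (G := M) 2
  refine ⟨M.normalizerMonoidHom ⟨g, hgM⟩ k, ?_, rfl⟩
  exact (Subgroup.characteristic_iff_map_eq.mp inferInstance (M.normalizerMonoidHom ⟨g, hgM⟩)).le
    (Subgroup.mem_map_of_mem _ hk)

/-- All 2-elements of `E ∩ C(A)` lie in `A`. -/
def IsTwoCentric (E A : Subgroup X) : Prop :=
  ∀ z ∈ E ⊓ centralizer (A : Set X), (∃ k : ℕ, z ^ 2 ^ k = 1) → z ∈ A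

/-- If `A` is centric, `E ∩ C(A)` is `O(E ∩ C(A))` times a central part inside `A`. -/
theorem exists_decomposition {A : Subgroup X} (hA : IsTwoCentric E A) {m : X}
    (hm : m ∈ E ⊓ centralizer (A : Set X)) : ∃ k ∈ centCore E A, ∃ a ∈ A, m = k * a := by
  haveI : Fact (Nat.Prime 2) := ⟨Nat.prime_two⟩
  set M := E ⊓ centralizer (A : Set X)
  obtain ⟨Q⟩ := (inferInstance : Nonempty (Sylow 2 M))
  have hQA : ∀ q ∈ (Q : Subgroup M), (q : X) ∈ A := by
    intro q hq
    obtain ⟨k, hk⟩ := Q.2 ⟨q, hq⟩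
    exact hA q q.2 ⟨k, congrArg (fun t : (Q : Subgroup M) => ((t : M) : X)) hk⟩
  have hQ : normalizer ((Q : Subgroup M) : Set M) ≤ centralizer ((Q : Subgroup M) : Set M) :=
    fun g _ => Subgroup.mem_centralizer_iff.mpr fun q hq =>
      Subtype.ext (Subgroup.mem_centralizer_iff.mp g.2.2 (q : X) (hQA q hq))
  have hc := MonoidHom.ker_transferSylow_isComplement' Q hQ
  have hle : (MonoidHom.transferSylow Q hQ).ker ≤ Cfsg.pPrimeCore 2 M := by
    refine le_pPrimeCore inferInstance ?_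
    rw [← hc.index_eq_card]
    exact (Nat.prime_two.coprime_iff_not_dvd.mpr Q.not_dvd_index).symm
  obtain ⟨k, hk, a, ha, hka⟩ :=
    Subgroup.mem_sup_of_normal_left.mp (hc.sup_eq_top.ge (Subgroup.mem_top ⟨m, hm⟩))
  exact ⟨k, ⟨k, hle hk, rfl⟩, a, hQA a ha, (congrArg Subtype.val hka).symm⟩

/-- A 2-element of `⁅C(A), C(A)⁆` fixes a point in the coset of every element of `N_E(A)` modulo `O(E ∩ C(A))`. -/
theorem exists_fixed_in_coset [hE : E.Normal] {A : Subgroup X} (hA : IsTwoCentric E A) {e : X}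
    (he : e ∈ ⁅centralizer (A : Set X), centralizer (A : Set X)⁆) (he2 : ∃ k : ℕ, e ^ 2 ^ k = 1)
    {n : X} (hnE : n ∈ E) (hn : n ∈ normalizer (A : Set X)) :
    ∃ k ∈ centCore E A, Commute e (n * k) := by
  haveI : Fact (Nat.Prime 2) := ⟨Nat.prime_two⟩
  set C := centralizer (A : Set X) with hC
  set M := E ⊓ C with hM
  set K := centCore E A with hK
  have hCK : C ≤ normalizer (K : Set X) :=
    (Subgroup.centralizer_le_normalizer _).trans (normalizer_le_normalizer_centCore A)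
  have hnK : n ∈ normalizer (K : Set X) := normalizer_le_normalizer_centCore A hn
  have hCM : C ≤ normalizer (M : Set X) :=
    (Subgroup.centralizer_le_normalizer _).trans (normalizer_le_normalizer_inf_centralizer A)
  have hconj : ∀ c ∈ C, ∀ m ∈ M, c * m * c⁻¹ * m⁻¹ ∈ K := by
    intro c hc m hm
    obtain ⟨k, hk, a, ha, rfl⟩ := exists_decomposition hA hm
    have h1 : a * c⁻¹ = c⁻¹ * a := Subgroup.mem_centralizer_iff.mp (inv_mem hc) a ha
    have e1 : c * (k * a) * c⁻¹ * (k * a)⁻¹ = (c * k * c⁻¹) * k⁻¹ := by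
      calc c * (k * a) * c⁻¹ * (k * a)⁻¹ = c * k * (a * c⁻¹) * a⁻¹ * k⁻¹ := by group
        _ = _ := by rw [h1]; group
    rw [e1]
    exact mul_mem ((Subgroup.mem_normalizer_iff.mp (hCK hc) k).mp hk) (inv_mem hk)
  have hcomm : ∀ c ∈ C, ⁅c, n⁆ ∈ M := by
    intro c hc
    refine Subgroup.mem_inf.mpr ⟨?_, ?_⟩
    · rw [commutatorElement_def]
      exact mul_mem (hE.conj_mem n hnE c) (inv_mem hnE)
    · rw [commutatorElement_def, show c * n * c⁻¹ * n⁻¹ = c * (n * c⁻¹ * n⁻¹) by group]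
      exact mul_mem hc
        ((Subgroup.mem_normalizer_iff.mp (normalizer_le_normalizer_centralizer' A hn) _).mp (inv_mem hc))
  let T : Subgroup X :=
    { carrier := {c | c ∈ C ∧ ⁅c, n⁆ ∈ K}
      one_mem' := ⟨one_mem C, by rw [commutatorElement_one_left]; exact one_mem K⟩
      mul_mem' := fun {c d} hc hd => ⟨mul_mem hc.1 hd.1, by
        rw [commutatorElement_mul_left_eq_conj_mul]
        exact mul_mem ((Subgroup.mem_normalizer_iff.mp (hCK hc.1) _).mp hd.2) hc.2⟩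
      inv_mem' := fun {c} hc => ⟨inv_mem hc.1, by
        rw [show ⁅c⁻¹, n⁆ = c⁻¹ * ⁅c, n⁆⁻¹ * c⁻¹⁻¹ by simp only [commutatorElement_def]; group]
        exact (Subgroup.mem_normalizer_iff.mp (hCK (inv_mem hc.1)) _).mp (inv_mem hc.2)⟩ }
  have hT : ⁅C, C⁆ ≤ T := by
    rw [Subgroup.commutator_le]
    intro u hu v hv
    have hw : ⁅u, v⁆ ∈ C := Subgroup.commutator_le_self C (Subgroup.commutator_mem_commutator hu hv)
    refine ⟨hw, ?_⟩
    haveI := pPrimeCore_normal (G := M) 2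
    set q := QuotientGroup.mk' (Cfsg.pPrimeCore 2 M) with hq
    have hqK : ∀ z : M, (z : X) ∈ K → q z = 1 := by
      rintro z ⟨z', hz', hzz⟩
      rw [← Subtype.ext hzz]
      exact (QuotientGroup.eq_one_iff _).mpr hz'
    -- conjugation by `C` is trivial modulo `K`
    have hqc : ∀ c, ∀ hc : c ∈ C, ∀ m : M,
        q ⟨c * m * c⁻¹, (Subgroup.mem_normalizer_iff.mp (hCM hc) _).mp m.2⟩ = q m := by
      intro c hc m
      have h1 := hqK (⟨c * m * c⁻¹, (Subgroup.mem_normalizer_iff.mp (hCM hc) _).mp m.2⟩ * m⁻¹)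
        (hconj c hc m m.2)
      rwa [map_mul, map_inv, mul_inv_eq_one] at h1
    have habel : ∀ a b : M, q a * q b = q b * q a := by
      intro a b
      have h1 := hqc a a.2.2 b
      have h2 : q (a * b * a⁻¹) = q b := h1
      rw [map_mul, map_mul, map_inv, mul_inv_eq_iff_eq_mul] at h2
      exact h2
    set α : M := ⟨⁅u, n⁆, hcomm u hu⟩
    set β : M := ⟨⁅v, n⁆, hcomm v hv⟩
    set w := ⁅u, v⁆ with hwdef
    set δ : M := ⟨u * β * u⁻¹, (Subgroup.mem_normalizer_iff.mp (hCM hu) _).mp β.2⟩ * α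
    set γ : M := ⟨v * α * v⁻¹, (Subgroup.mem_normalizer_iff.mp (hCM hv) _).mp α.2⟩ * β
    set ζ : M := ⟨w * (γ⁻¹ : M) * w⁻¹, (Subgroup.mem_normalizer_iff.mp (hCM hw) _).mp (γ⁻¹).2⟩ * δ
    have hζ : (ζ : X) = ⁅w, n⁆ := by
      show w * (v * ⁅u, n⁆ * v⁻¹ * ⁅v, n⁆)⁻¹ * w⁻¹ * (u * ⁅v, n⁆ * u⁻¹ * ⁅u, n⁆) = ⁅w, n⁆
      simp only [hwdef, commutatorElement_def]
      group
    have hqζ : q ζ = 1 := by
      have q1 : q δ = q β * q α := (map_mul q _ _).trans (congrArg (· * q α) (hqc u hu β))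
      have q2 : q γ = q α * q β := (map_mul q _ _).trans (congrArg (· * q β) (hqc v hv α))
      have q3 : q ζ = (q γ)⁻¹ * q δ :=
        (map_mul q _ _).trans (congrArg (· * q δ) ((hqc w hw γ⁻¹).trans (map_inv q γ)))
      rw [q3, q1, q2, habel β α, inv_mul_cancel]
    rw [← hζ]
    exact ⟨ζ, (QuotientGroup.eq_one_iff ζ).mp hqζ, rfl⟩
  have heT : e ∈ T := hT he
  obtain ⟨j, hj⟩ := he2
  obtain ⟨k, hk, hkc⟩ := CfsgLib.Core.exists_centralizing_in_coset (A := zpowers e) (N := K) (k := n)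
    (Subgroup.zpowers_le.mpr (hCK heT.1))
    (by
      rw [Nat.card_zpowers]
      exact Nat.Coprime.coprime_dvd_left (orderOf_dvd_of_pow_eq_one hj)
        ((centCore_coprime A).symm.pow_left j))
    (Or.inl (Group.isSolvable_of_comm fun a b => mul_comm' a b))
    (fun a ha => by
      have haT : a ∈ T := Subgroup.zpowers_le.mpr heT ha
      rw [show n⁻¹ * (a * n * a⁻¹) = n⁻¹ * ⁅a, n⁆ * n⁻¹⁻¹ by rw [commutatorElement_def]; group]
      exact (Subgroup.mem_normalizer_iff.mp (inv_mem hnK) _).mp haT.2)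
  exact ⟨k, hk, Subgroup.mem_centralizer_iff.mp hkc e (Subgroup.mem_zpowers e)⟩

section Fusion

variable [hE : E.Normal] (P : Sylow 2 E) {e : X}

/-- Fusion in `P` inside `E` is realised by elements centralizing a 2-element of `⁅C(P), C(P)⁆`. -/
theorem exists_centralizing_fusion
    (he : e ∈ ⁅centralizer (((P : Subgroup E).map E.subtype : Subgroup X) : Set X),
      centralizer (((P : Subgroup E).map E.subtype : Subgroup X) : Set X)⁆)
    (he2 : ∃ k : ℕ, e ^ 2 ^ k = 1) {A : Set E} {g : E} (h : Transfer.FusionPath P A g) :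
    ∃ g' : E, Commute e (g' : X) ∧ ∀ a ∈ A, g'⁻¹ * a * g' = g⁻¹ * a * g := by
  haveI : Fact (Nat.Prime 2) := ⟨Nat.prime_two⟩
  induction h with
  | one A => exact ⟨1, Commute.one_right e, fun a _ => rfl⟩
  | step A Q x g ht hx hA _ ih =>
    obtain ⟨g₂, hg₂c, hg₂⟩ := ih
    set D : Subgroup E := (P : Subgroup E) ⊓ (Q : Subgroup E) with hD
    set N := normalizer (D : Set E) with hN
    set M := centralizer (D : Set E) with hM
    set W := (P : Subgroup E) ⊓ M with hW
    have hMN : M ≤ N := Subgroup.centralizer_le_normalizer _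
    have hNM : N ≤ normalizer (M : Set E) := normalizer_le_normalizer_centralizer' D
    have hWp : IsPGroup 2 W := P.2.to_le inf_le_left
    -- `W` is a Sylow subgroup of `C(D)`
    have hmax : ∀ V : Subgroup E, IsPGroup 2 V → V ≤ M → W ≤ V → V = W := by
      intro V hVp hVM hWV
      obtain ⟨m, hm, hmV⟩ := Transfer.exists_conj_le (P.2.to_le inf_le_left : IsPGroup 2
        ((P : Subgroup E) ⊓ N : Subgroup E)) ht.1 (hVM.trans hMN) hVp
      refine (Subgroup.eq_of_le_of_card_ge hWV ?_).symm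
      refine le_trans (Transfer.card_map_conj m⁻¹ V).ge (Subgroup.card_le_of_le ?_)
      rintro _ ⟨v, hv, rfl⟩
      show m⁻¹ * v * m⁻¹⁻¹ ∈ W
      refine ⟨?_, (Subgroup.mem_normalizer_iff.mp (hNM (inv_mem hm)) v).mp (hVM hv)⟩
      rw [inv_inv]
      exact (hmV v hv).1
    have hWi : ¬ 2 ∣ W.relIndex M := by
      obtain ⟨T, hWT, hTM, hTp, hTi⟩ := Transfer.exists_sylow_of_le (inf_le_right : W ≤ M) hWp
      rwa [← hmax T hTp hTM hWT]
    -- Frattini
    obtain ⟨c, hc, hcW⟩ := Transfer.exists_conj_le (S := W.map (MulAut.conj x).toMonoidHom) hWp hWi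
      (by
        rintro _ ⟨w, hw, rfl⟩
        exact (Subgroup.mem_normalizer_iff.mp (hNM hx) w).mp hw.2)
      (hWp.map _)
    set x' := c⁻¹ * x with hx'
    set D₁ := D ⊔ W with hD₁
    have hx'D₁ : x' ∈ normalizer (D₁ : Set E) := by
      refine mem_normalizer_of_smul_eq_self ?_
      have h1 : MulAut.conj x' • W = W := Subgroup.eq_of_le_of_card_ge (by
        rw [conj_smul_eq_map]
        rintro _ ⟨w, hw, rfl⟩
        show c⁻¹ * x * w * (c⁻¹ * x)⁻¹ ∈ W
        rw [show c⁻¹ * x * w * (c⁻¹ * x)⁻¹ = c⁻¹ * (x * w * x⁻¹) * c by group]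
        exact hcW _ ⟨w, hw, rfl⟩)
        (Nat.card_congr (Subgroup.equivSMul (MulAut.conj x') W).toEquiv).le
      rw [hD₁, Subgroup.smul_sup, h1,
        smul_eq_self_of_mem_normalizer (mul_mem (inv_mem (hMN hc)) hx : x' ∈ N)]
    set A₁ : Subgroup X := D₁.map E.subtype with hA₁
    have hA₁P : A₁ ≤ (P : Subgroup E).map E.subtype :=
      Subgroup.map_mono (sup_le inf_le_left inf_le_left)
    have hA₁c : IsTwoCentric E A₁ := by
      rintro z ⟨hzE, hzC⟩ ⟨k, hk⟩
      set z' : E := ⟨z, hzE⟩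
      have hz' : ∀ y ∈ D₁, y * z' = z' * y := fun y hy =>
        Subtype.ext (Subgroup.mem_centralizer_iff.mp hzC (y : X) ⟨y, hy, rfl⟩)
      have hz'M : z' ∈ M := Subgroup.mem_centralizer_iff.mpr fun y hy => hz' y (Subgroup.mem_sup_left hy)
      have hzp : IsPGroup 2 (zpowers z') := IsPGroup.iff_card.mpr (by
        obtain ⟨j, _, hj⟩ := (Nat.dvd_prime_pow Nat.prime_two).mp
          (orderOf_dvd_of_pow_eq_one (show z' ^ 2 ^ k = 1 from Subtype.ext hk))
        exact ⟨j, by rw [Nat.card_zpowers, hj]⟩)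
      have hzW : zpowers z' ≤ normalizer (W : Set E) := by
        rw [Subgroup.zpowers_le]
        exact Subgroup.centralizer_le_normalizer _
          (Subgroup.mem_centralizer_iff.mpr fun y hy => hz' y (Subgroup.mem_sup_right hy))
      have h1 := hmax (W ⊔ zpowers z') (hWp.to_sup_of_normal_left' hzp hzW)
        (sup_le inf_le_right (Subgroup.zpowers_le.mpr hz'M)) le_sup_left
      exact ⟨z', Subgroup.mem_sup_right (h1.le (Subgroup.mem_sup_right (Subgroup.mem_zpowers z'))), rfl⟩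
    have heA₁ : e ∈ ⁅centralizer (A₁ : Set X), centralizer (A₁ : Set X)⁆ :=
      Subgroup.commutator_mono (Subgroup.centralizer_le hA₁P) (Subgroup.centralizer_le hA₁P) he
    obtain ⟨k, hk, hkc⟩ := exists_fixed_in_coset hA₁c heA₁ he2 x'.2
      (Subgroup.le_normalizer_map E.subtype ⟨x', hx'D₁, rfl⟩)
    have hkE : k ∈ E := (centCore_le A₁ hk).1
    refine ⟨x' * ⟨k, hkE⟩ * g₂, hkc.mul_right hg₂c, fun a ha => ?_⟩
    have haD : a ∈ D := hA ha
    have hkD : ∀ y ∈ D₁, (⟨k, hkE⟩ : E)⁻¹ * y * ⟨k, hkE⟩ = y := fun y hy => by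
      have h1 : y * ⟨k, hkE⟩ = ⟨k, hkE⟩ * y :=
        Subtype.ext (Subgroup.mem_centralizer_iff.mp (centCore_le A₁ hk).2 (y : X) ⟨y, hy, rfl⟩)
      rw [mul_assoc, h1, inv_mul_cancel_left]
    have hac : c * a = a * c := (Subgroup.mem_centralizer_iff.mp hc a haD).symm
    have e1 : x'⁻¹ * a * x' = x⁻¹ * a * x := by
      calc x'⁻¹ * a * x' = x⁻¹ * (c * a) * c⁻¹ * x := by rw [hx']; group
        _ = _ := by rw [hac]; group
    have hmem : x⁻¹ * a * x ∈ D := by
      have := (Subgroup.mem_normalizer_iff.mp (inv_mem hx) a).mp haD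
      rwa [inv_inv] at this
    calc (x' * ⟨k, hkE⟩ * g₂)⁻¹ * a * (x' * ⟨k, hkE⟩ * g₂)
        = g₂⁻¹ * ((⟨k, hkE⟩ : E)⁻¹ * (x'⁻¹ * a * x') * ⟨k, hkE⟩) * g₂ := by group
      _ = g₂⁻¹ * (x⁻¹ * a * x) * g₂ := by rw [e1, hkD _ (Subgroup.mem_sup_left hmem)]
      _ = g⁻¹ * (x⁻¹ * a * x) * g := hg₂ _ ⟨a, ha, rfl⟩
      _ = (x * g)⁻¹ * a * (x * g) := by group

end Fusion

section Main

variable [hE : E.Normal] {S : Subgroup X} (hSE : S ≤ E) (hS : IsPGroup 2 S)
  (hSi : ¬ 2 ∣ S.relIndex E)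

include hSE hS hSi

/-- `e · s` with `1 ≠ s ∈ S` is not conjugate to `e` under `E`. -/
theorem eq_one_of_conj {e : X}
    (he : e ∈ ⁅centralizer (S : Set X), centralizer (S : Set X)⁆) (he2 : ∃ k : ℕ, e ^ 2 ^ k = 1)
    {s : X} (hs : s ∈ S) {y : X} (hy : y ∈ E) (hys : y⁻¹ * e * y = e * s) : s = 1 := by
  haveI : Fact (Nat.Prime 2) := ⟨Nat.prime_two⟩
  have heS : e ∈ centralizer (S : Set X) := Subgroup.commutator_le_self _ he
  set P : Sylow 2 E := (hS.comap_subtype (K := E)).toSylow hSi with hP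
  have hPmap : (P : Subgroup E).map E.subtype = S := Subgroup.map_subgroupOf_eq_of_le hSE
  have hfus : ∀ A : Subgroup X, A ≤ S → ∀ g ∈ E, (∀ a ∈ A, g⁻¹ * a * g ∈ S) →
      ∃ g' ∈ E, Commute e g' ∧ ∀ a ∈ A, g'⁻¹ * a * g' = g⁻¹ * a * g := by
    intro A hA g hg hgA
    have hp := Transfer.exists_fusionPath P (A := ((A.subgroupOf E : Subgroup E) : Set E))
      (g := ⟨g, hg⟩) (fun a ha => hA ha) (by rintro _ ⟨a, ha, rfl⟩; exact hgA a ha)
    obtain ⟨g', hg'c, hg'⟩ := exists_centralizing_fusion P (by rw [hPmap]; exact he) he2 hp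
    exact ⟨g', g'.2, hg'c, fun a ha =>
      congrArg Subtype.val (hg' ⟨a, hSE (hA ha)⟩ (show a ∈ A from ha))⟩
  induction hn : Nat.card S - Nat.card ↥(S ⊓ centralizer ({s} : Set X))
    using Nat.strong_induction_on generalizing s y with
  | _ n ih =>
    set A := S ⊓ centralizer ({s} : Set X) with hA
    have hAS : A ≤ S := inf_le_left
    have hsA : s ∈ A := ⟨hs, Subgroup.mem_centralizer_singleton_iff.mpr rfl⟩
    have hyA : ∀ a ∈ A, y * a * y⁻¹ ∈ E ⊓ centralizer ({e} : Set X) := by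
      intro a ha
      refine Subgroup.mem_inf.mpr ⟨mul_mem (mul_mem hy (hSE ha.1)) (inv_mem hy),
        Subgroup.mem_centralizer_singleton_iff.mpr ?_⟩
      have hye : e * s = y⁻¹ * e * y := hys.symm
      have h2 : a * (e * s) = e * s * a := by
        rw [← mul_assoc, Subgroup.mem_centralizer_iff.mp heS a ha.1, mul_assoc,
          Subgroup.mem_centralizer_singleton_iff.mp ha.2, ← mul_assoc]
      rw [hye] at h2
      calc y * a * y⁻¹ * e = y * (a * (y⁻¹ * e * y)) * y⁻¹ := by group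
        _ = y * ((y⁻¹ * e * y) * a) * y⁻¹ := by rw [h2]
        _ = e * (y * a * y⁻¹) := by group
    have hSC : S ≤ E ⊓ centralizer ({e} : Set X) := le_inf hSE fun a ha =>
      Subgroup.mem_centralizer_singleton_iff.mpr (Subgroup.mem_centralizer_iff.mp heS a ha)
    obtain ⟨h, hh, hhA⟩ := Transfer.exists_conj_le
      (N := E ⊓ centralizer ({e} : Set X)) (S := A.map (MulAut.conj y).toMonoidHom) hS
      (fun hd => hSi (hd.trans (Dvd.intro _ (Subgroup.relIndex_mul_relIndex _ _ _ hSC inf_le_left))))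
      (by rintro _ ⟨a, ha, rfl⟩; exact hyA a ha) ((hS.to_le hAS).map _)
    set y₂ := h⁻¹ * y with hy₂
    have hy₂E : y₂ ∈ E := mul_mem (inv_mem hh.1) hy
    have hy₂e : y₂⁻¹ * e * y₂ = e * s := by
      rw [hy₂, ← hys, show (h⁻¹ * y)⁻¹ * e * (h⁻¹ * y) = y⁻¹ * (h * e * h⁻¹) * y by group,
        Subgroup.mem_centralizer_singleton_iff.mp hh.2, mul_inv_cancel_right]
    obtain ⟨g', hg'E, hg'c, hg'⟩ := hfus A hAS y₂⁻¹ (inv_mem hy₂E) (fun a ha => by
      rw [inv_inv, hy₂, show h⁻¹ * y * a * (h⁻¹ * y)⁻¹ = h⁻¹ * (y * a * y⁻¹) * h by group]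
      exact hhA _ ⟨a, ha, rfl⟩)
    set z := g' * y₂ with hz
    have hzM : z ∈ E ⊓ centralizer (A : Set X) := by
      refine ⟨mul_mem hg'E hy₂E, Subgroup.mem_centralizer_iff.mpr fun a ha => ?_⟩
      have h1 := hg' a ha
      rw [inv_inv] at h1
      calc a * (g' * y₂) = g' * (g'⁻¹ * a * g') * y₂ := by group
        _ = g' * (y₂ * a * y₂⁻¹) * y₂ := by rw [h1]
        _ = g' * y₂ * a := by group
    have hze : z⁻¹ * e * z = e * s := by
      rw [hz, ← hy₂e, show (g' * y₂)⁻¹ * e * (g' * y₂) = y₂⁻¹ * (g'⁻¹ * (e * g')) * y₂ by group,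
        hg'c.eq, inv_mul_cancel_left]
    by_cases hcen : IsTwoCentric E A
    · -- the centric case
      have heA : e ∈ ⁅centralizer (A : Set X), centralizer (A : Set X)⁆ :=
        Subgroup.commutator_mono (Subgroup.centralizer_le hAS) (Subgroup.centralizer_le hAS) he
      obtain ⟨k, hk, hkc⟩ := exists_fixed_in_coset hcen heA he2 hzM.1
        (Subgroup.centralizer_le_normalizer _ hzM.2)
      have heK : e ∈ normalizer (centCore E A : Set X) := normalizer_le_normalizer_centCore A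
        (Subgroup.centralizer_le_normalizer _ (Subgroup.centralizer_le hAS heS))
      have h1 : e = k⁻¹ * (e * s) * k := by
        rw [← hze]
        calc e = (z * k)⁻¹ * ((z * k) * e) := by group
          _ = (z * k)⁻¹ * (e * (z * k)) := by rw [hkc.eq]
          _ = _ := by group
      have hse : k⁻¹ * s = s * k⁻¹ := by
        have h2 := Subgroup.mem_centralizer_iff.mp (centCore_le A (inv_mem hk)).2 s hsA
        exact h2.symm
      have h3 : s = (e⁻¹ * k * e) * k⁻¹ := by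
        calc s = e⁻¹ * k * (k⁻¹ * (e * s) * k) * k⁻¹ := by group
          _ = e⁻¹ * k * e * k⁻¹ := by rw [← h1]
      have hsK : s ∈ centCore E A := by
        rw [h3]
        refine mul_mem ?_ (inv_mem hk)
        have := (Subgroup.mem_normalizer_iff.mp (inv_mem heK) k).mp hk
        rwa [inv_inv] at this
      obtain ⟨j, hj⟩ := hS ⟨s, hs⟩
      exact orderOf_eq_one_iff.mp (Nat.eq_one_of_dvd_coprimes
        ((centCore_coprime (E := E) A).pow_right j) (Subgroup.orderOf_dvd_natCard _ hsK)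
        (orderOf_dvd_of_pow_eq_one (congrArg Subtype.val hj)))
    · -- a larger centralizer
      simp only [IsTwoCentric, not_forall] at hcen
      obtain ⟨z₀, hz₀, ⟨k, hk⟩, hz₀A⟩ := hcen
      have hzp : IsPGroup 2 (zpowers z₀) := IsPGroup.iff_card.mpr (by
        obtain ⟨j, _, hj⟩ := (Nat.dvd_prime_pow Nat.prime_two).mp (orderOf_dvd_of_pow_eq_one hk)
        exact ⟨j, by rw [Nat.card_zpowers, hj]⟩)
      have hV : IsPGroup 2 (A ⊔ zpowers z₀ : Subgroup X) := (hS.to_le hAS).to_sup_of_normal_left' hzp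
        (Subgroup.zpowers_le.mpr (Subgroup.centralizer_le_normalizer _ hz₀.2))
      have hVE : A ⊔ zpowers z₀ ≤ E := sup_le (hAS.trans hSE) (Subgroup.zpowers_le.mpr hz₀.1)
      obtain ⟨g, hg, hgV⟩ := Transfer.exists_conj_le (N := E) hS hSi hVE hV
      obtain ⟨g₁, hg₁E, hg₁c, hg₁⟩ := hfus A hAS g hg
        (fun a ha => hgV a (Subgroup.mem_sup_left ha))
      set s₂ := g⁻¹ * s * g with hs₂
      have hs₂S : s₂ ∈ S := hgV s (Subgroup.mem_sup_left hsA)
      have hy₃ : (g₁⁻¹ * y * g₁)⁻¹ * e * (g₁⁻¹ * y * g₁) = e * s₂ := by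
        have h1 : g₁ * e * g₁⁻¹ = e := by rw [← hg₁c.eq, mul_inv_cancel_right]
        have h2 : g₁⁻¹ * e * g₁ = e := by rw [mul_assoc, hg₁c.eq, inv_mul_cancel_left]
        calc (g₁⁻¹ * y * g₁)⁻¹ * e * (g₁⁻¹ * y * g₁)
            = g₁⁻¹ * (y⁻¹ * (g₁ * e * g₁⁻¹) * y) * g₁ := by group
          _ = g₁⁻¹ * (e * s) * g₁ := by rw [h1, hys]
          _ = (g₁⁻¹ * e * g₁) * (g₁⁻¹ * s * g₁) := by group
          _ = e * s₂ := by rw [h2, hg₁ s hsA]
      have hbig : (A ⊔ zpowers z₀).map (MulAut.conj g⁻¹).toMonoidHom ≤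
          S ⊓ centralizer ({s₂} : Set X) := by
        rintro _ ⟨v, hv, rfl⟩
        show g⁻¹ * v * g⁻¹⁻¹ ∈ _
        rw [inv_inv]
        refine ⟨hgV v hv, Subgroup.mem_centralizer_singleton_iff.mpr ?_⟩
        have hvs : v * s = s * v := by
          have : A ⊔ zpowers z₀ ≤ centralizer ({s} : Set X) := sup_le inf_le_right
            (Subgroup.zpowers_le.mpr (Subgroup.mem_centralizer_singleton_iff.mpr
              (Subgroup.mem_centralizer_iff.mp hz₀.2 s hsA).symm))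
          exact Subgroup.mem_centralizer_singleton_iff.mp (this hv)
        calc g⁻¹ * v * g * s₂ = g⁻¹ * (v * s) * g := by rw [hs₂]; group
          _ = g⁻¹ * (s * v) * g := by rw [hvs]
          _ = s₂ * (g⁻¹ * v * g) := by rw [hs₂]; group
      have hlt : Nat.card A < Nat.card ↥(S ⊓ centralizer ({s₂} : Set X)) := by
        refine lt_of_lt_of_le (Transfer.card_lt_of_lt (lt_of_le_of_ne le_sup_left fun h => hz₀A
          (h.ge (Subgroup.mem_sup_right (Subgroup.mem_zpowers z₀))))) ?_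
        rw [← Transfer.card_map_conj g⁻¹]
        exact Subgroup.card_le_of_le hbig
      have hle := Subgroup.card_le_of_le (inf_le_left : S ⊓ centralizer ({s₂} : Set X) ≤ S)
      have h4 : s₂ = 1 := ih _ (by omega) hs₂S (mul_mem (mul_mem (inv_mem hg₁E) hy) hg₁E) hy₃ rfl
      have h5 : s = g * s₂ * g⁻¹ := by rw [hs₂]; group
      rw [h5, h4, mul_one, mul_inv_cancel]

/-- Glauberman: 2-elements of `⁅C(S), C(S)⁆` centralize `E`. -/
theorem centralizes_of_mem_commutator (hO : Cfsg.pPrimeCore 2 E = ⊥) {e : X}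
    (he : e ∈ ⁅centralizer (S : Set X), centralizer (S : Set X)⁆) (he2 : ∃ k : ℕ, e ^ 2 ^ k = 1) :
    e ∈ centralizer (E : Set X) := by
  haveI : Fact (Nat.Prime 2) := ⟨Nat.prime_two⟩
  have heS : e ∈ centralizer (S : Set X) := Subgroup.commutator_le_self _ he
  set Z := zpowers e with hZ
  have hZp : IsPGroup 2 Z := IsPGroup.iff_card.mpr (by
    obtain ⟨k, hk⟩ := he2
    obtain ⟨j, _, hj⟩ := (Nat.dvd_prime_pow Nat.prime_two).mp (orderOf_dvd_of_pow_eq_one hk)
    exact ⟨j, by rw [hZ, Nat.card_zpowers, hj]⟩)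
  have hZS : Z ≤ normalizer (S : Set X) :=
    Subgroup.zpowers_le.mpr (Subgroup.centralizer_le_normalizer _ heS)
  have hPp : IsPGroup 2 (S ⊔ Z : Subgroup X) := hS.to_sup_of_normal_left' hZp hZS
  -- `(S ⊔ Z) ∩ E = S`
  have hPE : (S ⊔ Z) ⊓ E = S := by
    refine le_antisymm ?_ (le_inf le_sup_left hSE)
    obtain ⟨g, hg, hgV⟩ := Transfer.exists_conj_le (N := E) hS hSi inf_le_right
      (hPp.to_le inf_le_left : IsPGroup 2 ((S ⊔ Z) ⊓ E : Subgroup X))
    refine (Subgroup.eq_of_le_of_card_ge (le_inf le_sup_left hSE) ?_).ge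
    refine le_trans (Transfer.card_map_conj g⁻¹ _).ge (Subgroup.card_le_of_le ?_)
    rintro _ ⟨v, hv, rfl⟩
    show g⁻¹ * v * g⁻¹⁻¹ ∈ S
    rw [inv_inv]
    exact hgV v hv
  set Y := E ⊔ Z with hY
  have hPY : S ⊔ Z ≤ Y := sup_le_sup_right hSE Z
  have hidx : ¬ 2 ∣ (S ⊔ Z).relIndex Y := by
    have a1 : Nat.card ↥(Z ⊔ E) * Nat.card ↥(Z ⊓ E) = Nat.card Z * Nat.card E :=
      Core.card_sup_mul_card_inf Z E Subgroup.le_normalizer_of_normal
    have a2 : Nat.card ↥(Z ⊔ S) * Nat.card ↥(Z ⊓ S) = Nat.card Z * Nat.card S :=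
      Core.card_sup_mul_card_inf Z S hZS
    have a3 : Z ⊓ E = Z ⊓ S := le_antisymm
      (le_inf inf_le_left ((inf_le_inf_right E le_sup_right).trans hPE.le)) (inf_le_inf_left Z hSE)
    have a4 : Nat.card ↥(S ⊔ Z) * (S ⊔ Z).relIndex Y = Nat.card Y := by
      rw [← Subgroup.relIndex_bot_left (S ⊔ Z), Subgroup.relIndex_mul_relIndex _ _ _ bot_le hPY,
        Subgroup.relIndex_bot_left]
    have a5 : Nat.card S * S.relIndex E = Nat.card E := by
      rw [← Subgroup.relIndex_bot_left S, Subgroup.relIndex_mul_relIndex _ _ _ bot_le hSE,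
        Subgroup.relIndex_bot_left]
    rw [sup_comm Z E, a3, ← a4] at a1
    rw [sup_comm Z S] at a2
    have a6 : (S ⊔ Z).relIndex Y = S.relIndex E := by
      have hne : Nat.card ↥(S ⊔ Z) * Nat.card ↥(Z ⊓ S) ≠ 0 :=
        mul_ne_zero Nat.card_pos.ne' Nat.card_pos.ne'
      refine Nat.eq_of_mul_eq_mul_left (Nat.pos_of_ne_zero hne) ?_
      calc Nat.card ↥(S ⊔ Z) * Nat.card ↥(Z ⊓ S) * (S ⊔ Z).relIndex Y
          = Nat.card ↥(S ⊔ Z) * (S ⊔ Z).relIndex Y * Nat.card ↥(Z ⊓ S) := by ring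
        _ = Nat.card Z * (Nat.card S * S.relIndex E) := by rw [a1, a5]
        _ = Nat.card Z * Nat.card S * S.relIndex E := by ring
        _ = _ := by rw [← a2]
    rwa [a6]
  set P : Sylow 2 Y := (hPp.comap_subtype (K := Y)).toSylow hidx with hP
  have heY : e ∈ Y := Subgroup.mem_sup_right (Subgroup.mem_zpowers e)
  have hfix : Fixed (P : Subgroup Y) (⟨e, heY⟩ : Y) := by
    refine ⟨Subgroup.mem_sup_right (Subgroup.mem_zpowers e), fun g k hg => ?_⟩
    obtain ⟨ε, hε, w, hw, hgw⟩ := Subgroup.mem_sup_of_normal_left.mp g.2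
    obtain ⟨j, rfl⟩ := Subgroup.mem_zpowers_iff.mp hw
    have hconj : (g : X) * e ^ k * (g : X)⁻¹ = ε * e ^ k * ε⁻¹ := by
      have h1 : e ^ j * e ^ k = e ^ k * e ^ j :=
        (((Commute.refl e).zpow_left j).pow_right k).eq
      rw [← hgw, show ε * e ^ j * e ^ k * (ε * e ^ j)⁻¹ = ε * (e ^ j * e ^ k) * (e ^ j)⁻¹ * ε⁻¹ by
        group, h1]
      group
    have hmem : ε * e ^ k * ε⁻¹ ∈ S ⊔ Z := hconj ▸ hg
    set t := (e ^ k)⁻¹ * (ε * e ^ k * ε⁻¹) with ht
    have htS : t ∈ S := by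
      rw [← hPE]
      refine Subgroup.mem_inf.mpr ⟨mul_mem (inv_mem (Subgroup.mem_sup_right (pow_mem (Subgroup.mem_zpowers e) k))) hmem, ?_⟩
      rw [ht, show (e ^ k)⁻¹ * (ε * e ^ k * ε⁻¹) = ((e ^ k)⁻¹ * ε * (e ^ k)⁻¹⁻¹) * ε⁻¹ by group]
      exact mul_mem (hE.conj_mem ε hε _) (inv_mem hε)
    have h2 : t = 1 := eq_one_of_conj hSE hS hSi (pow_mem he k)
      (he2.imp fun m hm => by rw [← pow_mul, mul_comm, pow_mul, hm, one_pow]) htS (inv_mem hε)
      (by rw [ht, inv_inv]; group)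
    apply Subtype.ext
    show (g : X) * e ^ k * (g : X)⁻¹ = e ^ k
    rw [hconj, show ε * e ^ k * ε⁻¹ = e ^ k * t by rw [ht]; group, h2, mul_one]
  haveI := pPrimeCore_normal (G := Y) 2
  set O := (Cfsg.pPrimeCore 2 Y).map Y.subtype with hO'
  have hbot : (O ⊓ E).subgroupOf E = ⊥ := by
    rw [← le_bot_iff, ← hO]
    refine le_pPrimeCore ((Subgroup.normal_subgroupOf_iff_le_normalizer inf_le_right).mpr ?_) ?_
    · refine (le_inf ?_ Subgroup.le_normalizer).trans Subgroup.inf_normalizer_le_normalizer_inf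
      intro a ha
      exact Subgroup.le_normalizer_map Y.subtype ⟨⟨a, Subgroup.mem_sup_left ha⟩,
        (Subgroup.normalizer_eq_top _).ge (Subgroup.mem_top _), rfl⟩
    · rw [Nat.card_congr (Subgroup.subgroupOfEquivOfLe inf_le_right).toEquiv]
      refine (pPrimeCore_coprime (G := Y) 2).coprime_dvd_left ?_
      rw [← Subgroup.card_map_of_injective Y.subtype_injective, ← hO']
      exact Subgroup.card_dvd_of_le inf_le_left
  refine Subgroup.mem_centralizer_iff.mpr fun a ha => ?_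
  have h3 := commutator_mem_oddCore_of_fixed P hfix (⟨a, Subgroup.mem_sup_left ha⟩ : Y)
  have h4 : e * a * e⁻¹ * a⁻¹ ∈ O ⊓ E :=
    Subgroup.mem_inf.mpr ⟨⟨_, h3, rfl⟩, mul_mem (hE.conj_mem a ha e) (inv_mem ha)⟩
  have h5 : e * a * e⁻¹ * a⁻¹ = 1 :=
    congrArg Subtype.val (Subgroup.mem_bot.mp
      (hbot.le (show (⟨_, h4.2⟩ : E) ∈ (O ⊓ E).subgroupOf E from h4)))
  rw [mul_inv_eq_one, mul_inv_eq_iff_eq_mul] at h5
  exact h5.symm

/-- A perfect subgroup of `C(S)` generated by 2-elements centralizes `E`. -/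
theorem le_centralizer_of_perfect (hO : Cfsg.pPrimeCore 2 E = ⊥) {K : Subgroup X}
    (hK : ⁅K, K⁆ = K) (hgen : pGen 2 K = K) (hKS : K ≤ centralizer (S : Set X)) :
    K ≤ centralizer (E : Set X) :=
  hgen.ge.trans (pGen_le_iff.mpr fun x hx k hk =>
    centralizes_of_mem_commutator hSE hS hSi hO
      (commutator_mono hKS hKS (hK.ge hx)) ⟨k, hk⟩)

end Main

end CfsgLib.ZStar
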