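import Cfsg.Agent.Lib.ZStar.SLTwoThree
import Cfsg.Agent.Lib.ZStar.Apps
import Cfsg.Agent.Lib.Core.UniqueOrderP
import Cfsg.Agent.Lib.Core.SolvableStruct
import Cfsg.Agent.Lib.Fusion.MaximalCyclic
import Cfsg.Agent.Lib.Transfer.Fusion

/-!
# Normal 2-complements with a generalised quaternion Sylow 2-subgroup
-/

namespace CfsgLib.ZStar

open Cfsg CfsgLib.Signalizer

variable {G : Type*} [Group G] [Finite G]

/-- A 2-group with one involution which is not `Q₈` has no automorphism of odd order. -/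
theorem mulAut_eq_one_of_not_q8 {Q : Type*} [Group Q] [Finite Q] (hQ : IsPGroup 2 Q)
    (huniq : ∀ x y : Q, orderOf x = 2 → orderOf y = 2 → x = y)
    (hne : ¬ Nonempty (Q ≃* QuaternionGroup 2)) {β : MulAut Q} {j : ℕ} (hj : Odd j)
    (hβ : β ^ j = 1) : β = 1 := by
  have : Fact (Nat.Prime 2) := ⟨Nat.prime_two⟩
  suffices h : ∃ k, β ^ 2 ^ k = 1 by
    obtain ⟨k, hk⟩ := h
    have := Nat.dvd_gcd (orderOf_dvd_of_pow_eq_one hk) (orderOf_dvd_of_pow_eq_one hβ)
    rw [((Nat.coprime_two_left.2 hj).pow_left k).gcd_eq_one, Nat.dvd_one, orderOf_eq_one_iff] at this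
    exact this
  have hu : ∀ H K : Subgroup Q, Nat.card H = 2 → Nat.card K = 2 → H = K := by
    intro H K hH hK
    obtain ⟨⟨x, hxH⟩, hx⟩ := exists_prime_orderOf_dvd_card' (G := H) 2 (dvd_of_eq hH.symm)
    obtain ⟨⟨y, hyK⟩, hy⟩ := exists_prime_orderOf_dvd_card' (G := K) 2 (dvd_of_eq hK.symm)
    rw [← Subgroup.orderOf_coe] at hx hy
    have hxy : x = y := huniq x y hx hy
    rw [← Subgroup.eq_of_le_of_card_ge (Subgroup.zpowers_le.2 hxH)
        (le_of_eq (by rw [hH, Nat.card_zpowers]; exact hx.symm)),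
      ← Subgroup.eq_of_le_of_card_ge (Subgroup.zpowers_le.2 hyK)
        (le_of_eq (by rw [hK, Nat.card_zpowers]; exact hy.symm)), hxy]
  have hcyc : IsCyclic Q → ∃ k, β ^ 2 ^ k = 1 := fun hc => by
    obtain ⟨m, hm⟩ := hQ.exists_card_eq
    have hcard := hc.card_mulAut
    rw [hm] at hcard
    rcases m with _ | m
    · refine ⟨0, ?_⟩
      have : Subsingleton Q := (Nat.card_eq_one_iff_unique.1 (by simpa using hm)).1
      exact MulEquiv.ext fun z => Subsingleton.elim _ _
    · rw [Nat.totient_prime_pow Nat.prime_two (by omega)] at hcard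
      simp only [Nat.add_sub_cancel, Nat.add_one_sub_one, mul_one] at hcard
      exact ⟨m, hcard ▸ pow_card_eq_one'⟩
  rcases Core.UniqueOrderP.isCyclic_or_quaternion_of_unique hQ hu with hc | ⟨-, n, ⟨e⟩⟩
  · exact hcyc hc
  · match n with
    | 0 =>
      have : IsCyclic (QuaternionGroup (2 ^ 0)) := by
        rw [pow_zero]; exact QuaternionGroup.quaternionGroup_one_isCyclic
      exact hcyc (e.symm.isCyclic.1 this)
    | 1 => exact absurd ⟨e⟩ hne
    | m + 2 => exact Fusion.transfer_aut e (Fusion.quaternion_aut (by omega)) β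

/-- A generalised quaternion group has a single involution. -/
theorem quaternion_unique_involution {m : ℕ} [NeZero m] {x y : QuaternionGroup m}
    (hx : orderOf x = 2) (hy : orderOf y = 2) : x = y := by
  suffices key : ∀ z : QuaternionGroup m, orderOf z = 2 → z = .a (m : ZMod (2 * m)) from
    (key x hx).trans (key y hy).symm
  rintro (i | i) hz
  · have hm := NeZero.ne m
    have h0 : (QuaternionGroup.a i : QuaternionGroup m) ^ 2 = 1 := by rw [← hz, pow_orderOf_eq_one]
    rw [← ZMod.natCast_zmod_val i, ← QuaternionGroup.a_one_pow, ← pow_mul,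
      ← orderOf_dvd_iff_pow_eq_one, QuaternionGroup.orderOf_a_one] at h0
    obtain ⟨c, hc⟩ := h0
    have hlt := ZMod.val_lt i
    have hc' : i.val = m * c := by
      have : i.val * 2 = 2 * (m * c) := by rw [hc, mul_assoc]
      omega
    rcases c with _ | _ | c
    · rw [← ZMod.natCast_zmod_val i, hc'] at hz
      simp [← QuaternionGroup.one_def] at hz
    · rw [← ZMod.natCast_zmod_val i, hc']; simp
    · exfalso; nlinarith
  · rw [QuaternionGroup.orderOf_xa] at hz
    norm_num at hz

theorem unique_involution_of_le (T : Sylow 2 G) {n : ℕ}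
    (e : (T : Subgroup G) ≃* QuaternionGroup (2 ^ n)) {Q : Subgroup G} (hQT : Q ≤ T) (x y : Q)
    (hx : orderOf x = 2) (hy : orderOf y = 2) : x = y := by
  have : NeZero (2 ^ n) := ⟨(Nat.two_pow_pos n).ne'⟩
  refine Subgroup.inclusion_injective hQT (e.injective (quaternion_unique_involution ?_ ?_)) <;>
    rwa [MulEquiv.orderOf_eq, orderOf_injective _ (Subgroup.inclusion_injective hQT)]

/-- Without a normal 2-complement some quaternion subgroup of order 8 has an automiser of
order three. -/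
theorem exists_q8_of_no_complement (T : Sylow 2 G) {n : ℕ}
    (e : (T : Subgroup G) ≃* QuaternionGroup (2 ^ n)) (h : ¬ HasNormalPComplement 2 G) :
    ∃ (ι : QuaternionGroup 2 →* G) (g : G), Function.Injective ι ∧ Odd (orderOf g) ∧
      ∀ z, g * ι z * g⁻¹ = ι (q8Sigma z) := by
  have : Fact (Nat.Prime 2) := ⟨Nat.prime_two⟩
  rw [Transfer.hasNormalPComplement_iff_centralizes T] at h
  push Not at h
  obtain ⟨Q, hQT, g, hg, hgo, hgc⟩ := h
  rw [Nat.coprime_two_right] at hgo
  set β := Q.normalizerMonoidHom ⟨g, hg⟩ with hβdef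
  have hβ : β ^ orderOf g = 1 := by
    have e1 : (⟨g, hg⟩ : Subgroup.normalizer (Q : Set G)) ^ orderOf g = 1 :=
      Subtype.ext (pow_orderOf_eq_one g)
    rw [hβdef, ← map_pow, e1, map_one]
  have hβ1 : β ≠ 1 := fun h1 => hgc (by
    have h2 : (⟨g, hg⟩ : Subgroup.normalizer (Q : Set G)) ∈ Q.normalizerMonoidHom.ker := h1
    rwa [Subgroup.normalizerMonoidHom_ker] at h2)
  by_cases hQ8 : Nonempty (Q ≃* QuaternionGroup 2)
  · obtain ⟨f⟩ := hQ8
    set β' : MulAut (QuaternionGroup 2) := MulAut.congr f β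
    obtain ⟨c, hc, i, hi, hc'⟩ := exists_twist β' hgo (by rw [← map_pow, hβ, map_one])
      (fun h1 => hβ1 ((MulAut.congr f).injective (h1.trans (map_one _).symm)))
    refine ⟨Q.subtype.comp (f.symm.toMonoidHom.comp c), g ^ i,
      Q.subtype_injective.comp (f.symm.injective.comp hc), ?_, fun z => ?_⟩
    · exact odd_of_dvd (orderOf_pow_dvd i) hgo
    · have h1 := hc' z
      rw [← map_pow] at h1
      have h3 : (β ^ i) (f.symm (c z)) = f.symm (c (q8Sigma z)) := by
        apply f.injective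
        rw [MulEquiv.apply_symm_apply]
        exact h1
      have h4 := congrArg Subtype.val h3
      rw [hβdef, ← map_pow] at h4
      exact h4
  · exact absurd (mulAut_eq_one_of_not_q8 (T.2.to_le hQT)
      (unique_involution_of_le T e hQT) hQ8 hgo hβ) hβ1

theorem complement_lift (T : Sylow 2 G) (O : Subgroup G) [O.Normal] (hO : Odd (Nat.card O))
    (h : HasNormalPComplement 2 (G ⧸ O)) : HasNormalPComplement 2 G := by
  have : Fact (Nat.Prime 2) := ⟨Nat.prime_two⟩
  obtain ⟨P, N, hN, hc⟩ := h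
  refine ⟨T, N.comap (QuotientGroup.mk' O), hN.comap _, ?_⟩
  have hcop : (Nat.card (N.comap (QuotientGroup.mk' O))).Coprime 2 := by
    rw [Core.card_comap_mk', Nat.coprime_mul_iff_left]
    refine ⟨Nat.coprime_two_right.2 hO, ?_⟩
    rw [← hc.index_eq_card, Nat.coprime_comm, Nat.Prime.coprime_iff_not_dvd Nat.prime_two]
    exact P.not_dvd_index
  have hidx : (N.comap (QuotientGroup.mk' O)).index = Nat.card (T : Subgroup G) := by
    rw [Subgroup.index_comap_of_surjective _ (QuotientGroup.mk'_surjective O),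
      hc.symm.index_eq_card]
    have h1 : Nat.card (T : Subgroup G) = 2 ^ (Nat.card G).factorization 2 := T.card_eq_multiplicity
    have h2 : Nat.card (P : Subgroup (G ⧸ O)) = 2 ^ (Nat.card (G ⧸ O)).factorization 2 :=
      P.card_eq_multiplicity
    have h3 : (Nat.card G).factorization 2 = (Nat.card (G ⧸ O)).factorization 2 := by
      rw [Subgroup.card_eq_card_quotient_mul_card_subgroup O,
        Nat.factorization_mul Nat.card_pos.ne' Nat.card_pos.ne', Finsupp.add_apply,
        Nat.factorization_eq_zero_of_not_dvd (n := Nat.card O) (fun hd => by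
          rw [← even_iff_two_dvd] at hd; exact Nat.not_even_iff_odd.2 hO hd), add_zero]
    rw [h1, h3, ← h2]
  refine Subgroup.isComplement'_of_coprime ?_ ?_
  · rw [← hidx, Subgroup.card_mul_index]
  · obtain ⟨k, hk⟩ := T.2.exists_card_eq
    rw [hk]
    exact hcop.pow_right k

/-- No normal `Q₈` in a generalised quaternion group of order at least 32. -/
theorem not_normal_q8 {n : ℕ} (hn : 3 ≤ n) {R : Subgroup (QuaternionGroup (2 ^ n))} (hR : R.Normal)
    (e : R ≃* QuaternionGroup 2) : False := by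
  have : NeZero (2 ^ n) := ⟨(Nat.two_pow_pos n).ne'⟩
  have h4 : ∀ z ∈ R, z ^ 4 = 1 := fun z hz => by
    have h := (show ∀ w : QuaternionGroup 2, w ^ 4 = 1 by decide) (e ⟨z, hz⟩)
    rw [← map_pow, e.map_eq_one_iff] at h
    exact congrArg Subtype.val h
  obtain ⟨i, hi⟩ : ∃ i, QuaternionGroup.xa i ∈ R := by
    by_contra hno
    push Not at hno
    have hcomm : ∀ z w : R, z * w = w * z := by
      rintro ⟨z | z, hz⟩ ⟨w | w, hw⟩
      · exact Subtype.ext (by simp [add_comm])
      · exact absurd hw (hno _)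
      · exact absurd hz (hno _)
      · exact absurd hz (hno _)
    have h := congrArg e (hcomm (e.symm (.a 1)) (e.symm (.xa 0)))
    simp at h
    revert h
    decide
  have h1 := R.mul_mem (hR.conj_mem _ hi (QuaternionGroup.a 1)) (R.inv_mem hi)
  have e1 : (QuaternionGroup.a 1 : QuaternionGroup (2 ^ n)) * .xa i * (QuaternionGroup.a 1)⁻¹ *
      (QuaternionGroup.xa i)⁻¹ = .a 1 ^ 2 := by
    rw [mul_inv_eq_iff_eq_mul, mul_inv_eq_iff_eq_mul, QuaternionGroup.a_one_pow,
      QuaternionGroup.a_mul_xa, QuaternionGroup.a_mul_xa, QuaternionGroup.xa_mul_a]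
    congr 1
    push_cast
    ring
  rw [e1] at h1
  have h2 := h4 _ h1
  rw [← pow_mul, ← orderOf_dvd_iff_pow_eq_one, QuaternionGroup.orderOf_a_one] at h2
  have h3 := Nat.le_of_dvd (by norm_num) h2
  have := Nat.pow_le_pow_right (by norm_num : 0 < 2) hn
  omega

/-- A solvable group with `O(G) = 1` and Sylow 2-subgroup quaternion of order at least 32 is a
2-group. -/
theorem isPGroup_of_solvable [Group.IsSolvable G] (T : Sylow 2 G) {n : ℕ} (hn : 3 ≤ n)
    (e : (T : Subgroup G) ≃* QuaternionGroup (2 ^ n)) (hO : pPrimeCore 2 G = ⊥) : IsPGroup 2 G := by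
  have : Fact (Nat.Prime 2) := ⟨Nat.prime_two⟩
  set R := pCore 2 G with hR
  have hRT : R ≤ (T : Subgroup G) := Core.pCore_le_sylow T
  have hC := Core.centralizer_pCore_le_of_pPrimeCore_eq_bot (p := 2) hO
  have hne : ¬ Nonempty (R ≃* QuaternionGroup 2) := by
    rintro ⟨f⟩
    refine not_normal_q8 hn (R := (R.subgroupOf T).map e.toMonoidHom)
      ((inferInstance : (R.subgroupOf (T : Subgroup G)).Normal).map _ e.surjective) ?_
    exact (((R.subgroupOf T).equivMapOfInjective _ e.injective).symm.trans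
      (Subgroup.subgroupOfEquivOfLe hRT)).trans f
  have hodd : ∀ g : G, Odd (orderOf g) → g = 1 := fun g hg => by
    have hn' : g ∈ Subgroup.normalizer (R : Set G) := by
      rw [Subgroup.normalizer_eq_top]; exact Subgroup.mem_top g
    set β := R.normalizerMonoidHom ⟨g, hn'⟩ with hβdef
    have hβ : β ^ orderOf g = 1 := by
      have e1 : (⟨g, hn'⟩ : Subgroup.normalizer (R : Set G)) ^ orderOf g = 1 :=
        Subtype.ext (pow_orderOf_eq_one g)
      rw [hβdef, ← map_pow, e1, map_one]
    have hker : (⟨g, hn'⟩ : Subgroup.normalizer (R : Set G)) ∈ R.normalizerMonoidHom.ker :=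
      mulAut_eq_one_of_not_q8 (Core.isPGroup_pCore 2 G) (unique_involution_of_le T e hRT) hne hg hβ
    rw [Subgroup.normalizerMonoidHom_ker] at hker
    have hgR : g ∈ R := hC hker
    obtain ⟨k, hk⟩ := IsPGroup.iff_orderOf.1 (Core.isPGroup_pCore 2 G) ⟨g, hgR⟩
    rw [← Subgroup.orderOf_coe] at hk
    simp only at hk
    rcases k with _ | k
    · rw [pow_zero, orderOf_eq_one_iff] at hk; exact hk
    · rw [hk] at hg
      exact absurd hg (Nat.not_odd_iff_even.2 (Nat.even_pow.2 ⟨even_two, by omega⟩))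
  refine IsPGroup.iff_orderOf.2 fun g => ?_
  obtain ⟨k, o, ho, hgo⟩ := Nat.exists_eq_pow_mul_and_not_dvd (orderOf_pos g).ne' 2 (by norm_num)
  have ho' : Odd o := by
    rw [← Nat.not_even_iff_odd, even_iff_two_dvd]
    exact ho
  have hw : orderOf (g ^ 2 ^ k) = o := by
    rw [orderOf_pow_of_dvd (by positivity) (hgo ▸ dvd_mul_right ..), hgo,
      Nat.mul_div_cancel_left _ (by positivity)]
  have := hodd _ (hw ▸ ho')
  rw [this, orderOf_one] at hw
  exact ⟨k, by rw [hgo, ← hw, mul_one]⟩

end CfsgLib.ZStar
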