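import Cfsg.Agent.Lib.ZStar.Main
import Cfsg.Agent.Lib.Core.Coprime

/-!
# An involution all of whose conjugate pairs have `p`-power product (`p` odd)
-/

namespace CfsgLib.ZStar

open Cfsg CfsgLib.Signalizer

variable {G : Type*} [Group G] [Finite G]

omit [Finite G] in
theorem exists_mul_of_coprime_index {L : Type*} [Group L] [Finite L] (P C : Subgroup L)
    (h : (C.index).Coprime P.index) (x : L) : ∃ y ∈ P, ∃ c ∈ C, x = y * c := by
  have hdvd : C.index ∣ C.relIndex P := by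
    refine h.dvd_of_dvd_mul_right ?_
    rw [← Subgroup.inf_relIndex_right, Subgroup.relIndex_mul_index inf_le_right]
    exact Subgroup.index_dvd_of_le inf_le_left
  let f : P ⧸ C.subgroupOf P → L ⧸ C :=
    Quotient.map' (fun y : P => (y : L)) fun a b hab => by
      rw [QuotientGroup.leftRel_apply] at hab ⊢
      exact hab
  have hf : Function.Injective f := by
    intro a b hab
    induction a using QuotientGroup.induction_on with
    | H a =>
      induction b using QuotientGroup.induction_on with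
      | H b => exact QuotientGroup.eq.2 (QuotientGroup.eq.1 hab : (a : L)⁻¹ * b ∈ C)
  have hsurj : Function.Surjective f := by
    refine (Nat.bijective_iff_injective_and_card f).2 ⟨hf, ?_⟩ |>.2
    refine le_antisymm (Nat.card_le_card_of_injective f hf) ?_
    show C.index ≤ C.relIndex P
    exact Nat.le_of_dvd (Nat.pos_of_ne_zero Subgroup.index_ne_zero_of_finite) hdvd
  obtain ⟨q, hq⟩ := hsurj (QuotientGroup.mk x)
  induction q using QuotientGroup.induction_on with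
  | H y =>
    refine ⟨y, y.2, (y : L)⁻¹ * x, QuotientGroup.eq.1 hq, ?_⟩
    rw [mul_inv_cancel_left]

theorem conj_eq_of_pCore_eq_bot {p : ℕ} [hp : Fact p.Prime] (hp2 : p ≠ 2) {d : G}
    (hd : orderOf d = 2) (hprod : ∀ g h : G, ∃ k : ℕ, orderOf (g * d * g⁻¹ * (h * d * h⁻¹)) = p ^ k)
    (hO : pCore p G = ⊥) (g : G) : g * d * g⁻¹ = d := by
  have hdi := involution_inv hd
  have hdd := involution_sq hd
  have hpodd : ∀ k, Odd (p ^ k) := fun k => ((hp.out).odd_of_ne_two hp2).pow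
  have hcomm_odd : ∀ g : G, Odd (orderOf (d * g * d⁻¹ * g⁻¹)) := by
    intro g
    obtain ⟨k, hk⟩ := hprod 1 g
    rw [one_mul, inv_one, mul_one] at hk
    rw [show d * g * d⁻¹ * g⁻¹ = d * (g * d * g⁻¹) by rw [hdi]; group, hk]
    exact hpodd k
  have hmemO : ∀ g : G, d * (g * d * g⁻¹) ∈ oddCore G := fun g => by
    have := mem_oddCore_of_odd_commutator hd hcomm_odd g
    rwa [show d * g * d⁻¹ * g⁻¹ = d * (g * d * g⁻¹) by rw [hdi]; group] at this
  set L := Subgroup.closure {x : G | ∃ g h : G, x = g * d * g⁻¹ * (h * d * h⁻¹)} with hLdef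
  have hgen : ∀ g h : G, g * d * g⁻¹ * (h * d * h⁻¹) ∈ L := fun g h =>
    Subgroup.subset_closure ⟨g, h, rfl⟩
  have hLn : L.Normal := ⟨fun x hx k => by
    have hmap : L.map (MulAut.conj k).toMonoidHom ≤ L := by
      rw [hLdef, MonoidHom.map_closure, Subgroup.closure_le]
      rintro _ ⟨_, ⟨g, h, rfl⟩, rfl⟩
      refine Subgroup.subset_closure ⟨k * g, k * h, ?_⟩
      show k * (g * d * g⁻¹ * (h * d * h⁻¹)) * k⁻¹ = _
      group
    exact hmap ⟨x, hx, rfl⟩⟩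
  have hLO : L ≤ oddCore G := by
    rw [hLdef, Subgroup.closure_le]
    rintro _ ⟨g, h, rfl⟩
    rw [show g * d * g⁻¹ * (h * d * h⁻¹) = (g * d * g⁻¹ * d) * (d * (h * d * h⁻¹)) by
      simp only [mul_assoc]; rw [← mul_assoc d d, hdd, one_mul]]
    refine mul_mem ?_ (hmemO h)
    have := inv_mem (hmemO g)
    rwa [mul_inv_rev, hdi, show (g * d * g⁻¹)⁻¹ = g * d⁻¹ * g⁻¹ by group, hdi] at this
  have hLodd : Odd (Nat.card L) := odd_of_dvd (Subgroup.card_dvd_of_le hLO) (odd_card_oddCore G)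
  -- `x d x⁻¹ d` and the conjugating element inside `L`
  have hLmem : ∀ x : G, x * d * x⁻¹ * d ∈ L := fun x => by simpa using hgen x 1
  have hconjL : ∀ a : G, ∃ s ∈ L, s * d * s⁻¹ = a * d * a⁻¹ := by
    intro a
    set x := a * d * a⁻¹ * d with hx
    obtain ⟨m, hm⟩ : Odd (orderOf x) :=
      odd_of_dvd (Subgroup.orderOf_dvd_natCard L (hLmem a)) hLodd
    refine ⟨x ^ (m + 1), pow_mem (hLmem a) _, ?_⟩
    have hinv : d * x * d⁻¹ = x⁻¹ := by
      rw [hdi, hx, mul_inv_rev, hdi, show (a * d * a⁻¹)⁻¹ = a * d⁻¹ * a⁻¹ by group, hdi]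
      simp only [mul_assoc]
      rw [hdd, mul_one]
    have h1 : d * (x ^ (m + 1))⁻¹ * d⁻¹ = x ^ (m + 1) := by
      rw [← conj_inv, ← conj_pow, hinv, inv_pow, inv_inv]
    calc x ^ (m + 1) * d * (x ^ (m + 1))⁻¹
        = x ^ (m + 1) * (d * (x ^ (m + 1))⁻¹ * d⁻¹) * d := by group
      _ = x ^ (m + 1 + (m + 1)) * d := by rw [h1, ← pow_add]
      _ = x * d := by
          rw [show m + 1 + (m + 1) = orderOf x + 1 by omega, pow_succ, pow_orderOf_eq_one, one_mul]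
      _ = a * d * a⁻¹ := by rw [hx, mul_assoc, hdd, mul_one]
  set C := (Subgroup.centralizer ({d} : Set G)).subgroupOf L with hC
  suffices hCtop : C = ⊤ by
    obtain ⟨s, hs, hsd⟩ := hconjL g
    have h := Subgroup.mem_centralizer_singleton_iff.1 (show s ∈ Subgroup.centralizer {d} from
      (hCtop ▸ Subgroup.mem_top (⟨s, hs⟩ : L) : (⟨s, hs⟩ : L) ∈ C))
    rw [← hsd, h, mul_inv_cancel_right]
  by_contra hne
  have hA : Subgroup.zpowers d ≤ Subgroup.normalizer (L : Set G) := by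
    rw [Subgroup.normalizer_eq_top]; exact le_top
  have hcop : (Nat.card (Subgroup.zpowers d)).Coprime (Nat.card L) := by
    rw [Nat.card_zpowers, hd]; exact Nat.coprime_two_left.2 hLodd
  have hsolv : Group.IsSolvable (Subgroup.zpowers d) := inferInstance
  have hindex : ∀ q, q.Prime → q ∣ C.index → q = p := by
    intro q hq hqd
    by_contra hqp
    have := Fact.mk hq
    obtain ⟨Q, hQ⟩ := Core.exists_invariant_sylow hA hcop (Or.inl hsolv) q
    have hdQ := Subgroup.mem_normalizer_iff.1 (hQ (Subgroup.mem_zpowers d))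
    have hQC : (Q : Subgroup L) ≤ C := by
      intro x hx
      have hy : (x : G) * d * (x : G)⁻¹ * d ∈ (Q : Subgroup L).map L.subtype := by
        have h1 := (hdQ ((x : G)⁻¹)).1 (inv_mem ⟨x, hx, rfl⟩)
        rw [hdi] at h1
        rw [show (x : G) * d * (x : G)⁻¹ * d = (x : G) * (d * (x : G)⁻¹ * d) by group]
        exact mul_mem ⟨x, hx, rfl⟩ h1
      obtain ⟨k, hk⟩ := hprod (x : G) 1
      rw [one_mul, inv_one, mul_one] at hk
      obtain ⟨j, hj⟩ := IsPGroup.iff_orderOf.1 (Q.2.map L.subtype) ⟨_, hy⟩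
      rw [← Subgroup.orderOf_coe] at hj
      simp only at hj
      have h1 : orderOf ((x : G) * d * (x : G)⁻¹ * d) = 1 := by
        refine Nat.dvd_one.1 ?_
        have h2 := Nat.dvd_gcd (dvd_of_eq hk) (dvd_of_eq hj)
        rwa [(((Nat.coprime_primes hp.out hq).2 (Ne.symm hqp)).pow_left k |>.pow_right j).gcd_eq_one] at h2
      rw [orderOf_eq_one_iff, mul_eq_one_iff_eq_inv, hdi, mul_inv_eq_iff_eq_mul] at h1
      exact Subgroup.mem_centralizer_singleton_iff.2 h1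
    exact Q.not_dvd_index (hqd.trans (Subgroup.index_dvd_of_le hQC))
  obtain ⟨P, hP⟩ := Core.exists_invariant_sylow hA hcop (Or.inl hsolv) p
  have hcopP : C.index.Coprime (P : Subgroup L).index :=
    Nat.coprime_of_dvd fun q hq h1 h2 => P.not_dvd_index (hindex q hq h1 ▸ h2)
  have hPne : (P : Subgroup L) ≠ ⊥ := by
    intro hbot
    refine hne (Subgroup.index_eq_one.1 ?_)
    have h1 : (P : Subgroup L).index = Nat.card L := by rw [hbot, Subgroup.index_bot]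
    exact Nat.dvd_one.1 (hcopP.eq_one_of_dvd (h1 ▸ Subgroup.index_dvd_card C) ▸ dvd_refl _)
  have : Nontrivial (P : Subgroup L) := (P : Subgroup L).nontrivial_iff_ne_bot.2 hPne
  have : Nontrivial (Subgroup.center (P : Subgroup L)) := P.2.center_nontrivial
  set P' := (P : Subgroup L).map L.subtype with hP'
  set Z := P' ⊓ Subgroup.centralizer (P' : Set G) with hZ
  obtain ⟨z₀, hz₀1, hz₀P, hz₀c⟩ : ∃ z : G, z ≠ 1 ∧ z ∈ P' ∧ ∀ y ∈ P', y * z = z * y := by
    obtain ⟨w, hw⟩ := exists_ne (1 : Subgroup.center (P : Subgroup L))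
    refine ⟨((w : (P : Subgroup L)) : L), fun h => hw ?_, ⟨_, Subtype.coe_prop _, rfl⟩, ?_⟩
    · exact Subtype.ext (Subtype.ext (Subtype.ext h))
    · rintro _ ⟨y, hy, rfl⟩
      exact congrArg (fun v : (P : Subgroup L) => ((v : L) : G))
        (Subgroup.mem_center_iff.1 w.2 ⟨y, hy⟩)
  have hdP : ∀ y ∈ P', d * y * d⁻¹ ∈ P' := fun y hy =>
    (Subgroup.mem_normalizer_iff.1 (hP (Subgroup.mem_zpowers d)) y).1 hy
  have hdd' : ∀ y : G, d * (d * y * d⁻¹) * d⁻¹ = y := fun y => by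
    rw [show d * (d * y * d⁻¹) * d⁻¹ = (d * d) * y * (d * d)⁻¹ by group, hdd]; group
  have hz₀c' : ∀ y ∈ P', y * (d * z₀ * d⁻¹) = d * z₀ * d⁻¹ * y := fun y hy =>
    calc y * (d * z₀ * d⁻¹) = d * ((d * y * d⁻¹) * z₀) * d⁻¹ := by
          conv_lhs => rw [← hdd' y]
          group
      _ = d * (z₀ * (d * y * d⁻¹)) * d⁻¹ := by rw [hz₀c _ (hdP y hy)]
      _ = d * z₀ * d⁻¹ * y := by
          conv_rhs => rw [← hdd' y]
          group
  obtain ⟨z, e, hz1, hzP, hzc, hze⟩ : ∃ (z : G) (e : ℤ), z ≠ 1 ∧ z ∈ P' ∧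
      (∀ y ∈ P', y * z = z * y) ∧ d * z * d⁻¹ = z ^ e := by
    by_cases h : z₀ * (d * z₀ * d⁻¹) = 1
    · exact ⟨z₀, -1, hz₀1, hz₀P, hz₀c, by rw [zpow_neg_one]; exact eq_inv_of_mul_eq_one_right h⟩
    · refine ⟨_, 1, h, mul_mem hz₀P (hdP _ hz₀P), fun y hy => ?_, ?_⟩
      · rw [← mul_assoc, hz₀c y hy, mul_assoc, hz₀c' y hy, ← mul_assoc]
      · rw [zpow_one, show d * (z₀ * (d * z₀ * d⁻¹)) * d⁻¹ =
          (d * z₀ * d⁻¹) * (d * (d * z₀ * d⁻¹) * d⁻¹) by group, hdd' z₀]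
        exact hz₀c _ (hdP _ hz₀P) |>.trans rfl
  have hzL : z ∈ L := Subgroup.map_subtype_le _ hzP
  -- every `L`-conjugate of `z` is mapped by `d` to the same power
  have hall : ∀ x ∈ L, d * (x * z * x⁻¹) * d⁻¹ = (x * z * x⁻¹) ^ e := by
    intro x hx
    obtain ⟨y, hy, c, hc, hxyc⟩ := exists_mul_of_coprime_index (P : Subgroup L) C hcopP
      (⟨x, hx⟩ : L)⁻¹
    have hc' : (c : G) * d = d * c := Subgroup.mem_centralizer_singleton_iff.1 hc
    have hx' : x = (c : G)⁻¹ * (y : G)⁻¹ := by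
      have := congrArg (fun v : L => ((v : G))⁻¹) hxyc
      simpa using this
    have hy' : (y : G)⁻¹ * z = z * (y : G)⁻¹ := hzc _ (inv_mem ⟨y, hy, rfl⟩)
    have h1 : x * z * x⁻¹ = (c : G)⁻¹ * z * ((c : G)⁻¹)⁻¹ := by
      rw [hx', mul_inv_rev, inv_inv, inv_inv, mul_assoc _ (y : G)⁻¹ z, hy']
      group
    have hci : d * (c : G)⁻¹ = (c : G)⁻¹ * d := (Commute.inv_left (hc' : Commute (c : G) d)).symm.eq
    calc d * (x * z * x⁻¹) * d⁻¹
        = d * (c : G)⁻¹ * z * (d * (c : G)⁻¹)⁻¹ := by rw [h1]; group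
      _ = (c : G)⁻¹ * (d * z * d⁻¹) * ((c : G)⁻¹)⁻¹ := by rw [hci]; group
      _ = (x * z * x⁻¹) ^ e := by rw [hze, h1, conj_zpow]
  -- so every generator of `L` centralises `z`
  have hact : ∀ a : G, a * d * a⁻¹ * z * (a * d * a⁻¹)⁻¹ = z ^ e := by
    intro a
    obtain ⟨s, hs, hsd⟩ := hconjL a
    have h := hall s⁻¹ (inv_mem hs)
    rw [inv_inv] at h
    calc a * d * a⁻¹ * z * (a * d * a⁻¹)⁻¹ = s * d * s⁻¹ * z * (s * d * s⁻¹)⁻¹ := by rw [hsd]
      _ = s * (d * (s⁻¹ * z * s) * d⁻¹) * s⁻¹ := by group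
      _ = s * (s⁻¹ * z * s) ^ e * s⁻¹ := by rw [h]
      _ = z ^ e := by rw [← conj_zpow]; group
  have hcentral : L ≤ Subgroup.centralizer {z} := by
    rw [hLdef, Subgroup.closure_le]
    rintro _ ⟨a, b, rfl⟩
    rw [SetLike.mem_coe, Subgroup.mem_centralizer_singleton_iff, ← mul_inv_eq_iff_eq_mul,
      mul_inv_rev]
    have hb := hact b
    have ha := hact a
    have hai : (a * d * a⁻¹)⁻¹ = a * d * a⁻¹ := by
      rw [show (a * d * a⁻¹)⁻¹ = a * d⁻¹ * a⁻¹ by group, hdi]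
    calc a * d * a⁻¹ * (b * d * b⁻¹) * z * ((b * d * b⁻¹)⁻¹ * (a * d * a⁻¹)⁻¹)
        = a * d * a⁻¹ * (b * d * b⁻¹ * z * (b * d * b⁻¹)⁻¹) * (a * d * a⁻¹)⁻¹ := by group
      _ = a * d * a⁻¹ * (a * d * a⁻¹ * z * (a * d * a⁻¹)⁻¹) * (a * d * a⁻¹)⁻¹ := by rw [hb, ha]
      _ = z := by
          conv_lhs => rw [hai]
          simp only [mul_assoc]
          rw [show d * (a⁻¹ * (a * (d * (a⁻¹ * (z * (a * (d * (a⁻¹ * (a * (d * a⁻¹)))))))))) =
            (d * d) * (a⁻¹ * (z * (a * ((d * d) * a⁻¹)))) by group, hdd]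
          group
  have hzn : (Subgroup.zpowers (⟨z, hzL⟩ : L)).Normal := ⟨fun w hw v => by
    have hc : Commute (v : G) z := Subgroup.mem_centralizer_singleton_iff.1 (hcentral v.2)
    have hc2 : Commute v (⟨z, hzL⟩ : L) := Subtype.ext hc.eq
    obtain ⟨i, rfl⟩ := hw
    rw [show v * (⟨z, hzL⟩ : L) ^ i * v⁻¹ = (⟨z, hzL⟩ : L) ^ i by
      rw [(hc2.zpow_right i).eq, mul_inv_cancel_right]]
    exact ⟨i, rfl⟩⟩
  have hzp : IsPGroup p (Subgroup.zpowers (⟨z, hzL⟩ : L)) := by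
    obtain ⟨j, hj⟩ := IsPGroup.iff_orderOf.1 (P.2.map L.subtype) ⟨z, hzP⟩
    refine IsPGroup.of_card (n := j) ?_
    rw [Nat.card_zpowers, ← Subgroup.orderOf_coe]
    rw [← Subgroup.orderOf_coe] at hj
    exact hj
  have h1 := Core.map_subtype_pCore_le L
    ⟨(⟨z, hzL⟩ : L), Core.le_pCore hzp (Subgroup.mem_zpowers _), rfl⟩
  rw [hO, Subgroup.mem_bot] at h1
  exact hz1 h1

end CfsgLib.ZStar
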