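import Cfsg.Agent.Lib.ZStar.Q8Data
import Cfsg.Agent.Lib.Char.Exceptional.Virtual
import Mathlib.LinearAlgebra.PID

/-!
# Tools: central involutions, eigenspace halves, sums over the three kinds of elements
-/

namespace CfsgLib.ZStar

open Cfsg CfsgLib.Char
open scoped ComplexConjugate Classical

variable {G : Type*} [Group G] [Finite G]

/-- A central involution acts on an irreducible character by a sign. -/
theorem exists_sign (χ : IrrCharacter G) {u : G} (hc : ∀ h, Commute u h) (hu : u * u = 1) :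
    ∃ s : ℂ, (s = 1 ∨ s = -1) ∧ ∀ h, (χ : G → ℂ) (u * h) = s * (χ : G → ℂ) h := by
  obtain ⟨n, ρ, hρ, hχ⟩ := χ.2
  obtain ⟨c, hcu⟩ := CfsgLib.CharIntegral.exists_scalar_of_mem_center ρ
    (Subgroup.mem_center_iff.2 fun g => (hc g).eq.symm)
  have hmul : ∀ h, (χ : G → ℂ) (u * h) = c * (χ : G → ℂ) h := fun h => by
    rw [← hχ, Representation.character, Representation.character, map_mul, hcu,
      smul_mul_assoc, show (LinearMap.id : (Fin n → ℂ) →ₗ[ℂ] _) = 1 from rfl, one_mul, map_smul,
      smul_eq_mul]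
  refine ⟨c, ?_, hmul⟩
  have h1 := hmul u
  rw [hu] at h1
  have h2 := hmul 1
  rw [mul_one] at h2
  rw [h2, ← mul_assoc] at h1
  refine mul_self_eq_one_iff.1 (mul_right_cancel₀ (IsIrr.apply_one_ne_zero χ.2) ?_)
  rw [one_mul, ← h1]

omit [Finite G] in
/-- The eigenspace half of a character along an element commuting with a subgroup. -/
theorem half_char {χ : G → ℂ} (hχ : IsIrrCharacter G χ) {z : G}
    (hzc : ∀ h, Commute (z * z) h) {c : ℂ} (hc : c * c * χ (z * z) = χ 1) (K : Subgroup G)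
    (hK : ∀ k ∈ K, Commute k z) :
    IsCharacter K (fun k : K => (χ k + c * χ (z * k)) / 2) := by
  obtain ⟨n, ρ, hρ, rfl⟩ := hχ
  obtain ⟨s, hs⟩ := CfsgLib.CharIntegral.exists_scalar_of_mem_center ρ
    (Subgroup.mem_center_iff.2 fun g => (hzc g).eq.symm)
  have hn : Nontrivial (Fin n → ℂ) := CfsgLib.CharIntegral.nontrivial_of_irreducible ρ
  have hs' : c * c * s = 1 := by
    have hd : (Module.finrank ℂ (Fin n → ℂ) : ℂ) ≠ 0 :=
      Nat.cast_ne_zero.2 Module.finrank_pos.ne'
    refine mul_right_cancel₀ hd ?_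
    have h := hc
    rw [Representation.char_one] at h
    simp only [Representation.character, hs, map_smul, smul_eq_mul, LinearMap.trace_id] at h
    linear_combination h
  set T : (Fin n → ℂ) →ₗ[ℂ] (Fin n → ℂ) := c • ρ z with hT
  have hTT : T * T = 1 := by
    rw [hT, smul_mul_smul_comm, ← map_mul, hs, smul_smul, hs', one_smul]
    rfl
  set P : (Fin n → ℂ) →ₗ[ℂ] (Fin n → ℂ) := (2 : ℂ)⁻¹ • (1 + T) with hP
  have hPP : P * P = P := by
    rw [hP, smul_mul_smul_comm, mul_add, add_mul, add_mul, one_mul, one_mul, mul_one, hTT,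
      show (1 + T + (T + 1)) = (2 : ℂ) • (1 + T) by rw [two_smul]; abel, smul_smul]
    norm_num
  have hcomm : ∀ k ∈ K, ρ k * P = P * ρ k := fun k hk => by
    rw [hP, hT, mul_smul_comm, smul_mul_assoc, mul_add, add_mul, one_mul, mul_one, mul_smul_comm,
      smul_mul_assoc, ← map_mul, ← map_mul, (hK k hk).eq]
  let W : Subrepresentation (ρ.comp K.subtype : Representation ℂ K (Fin n → ℂ)) :=
    ⟨LinearMap.range P, fun k v hv => by
      obtain ⟨w, rfl⟩ := hv
      exact ⟨ρ (k : G) w, (LinearMap.congr_fun (hcomm k k.2) w).symm⟩⟩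
  have hW : W.toRepresentation.character = fun k : K => (ρ.character k + c * ρ.character (z * k)) / 2 := by
    funext k
    have hmem : ∀ v, (ρ (k : G) * P) v ∈ W.toSubmodule := fun v => by
      rw [hcomm k k.2]
      exact LinearMap.mem_range_self P _
    have h1 := LinearMap.trace_restrict_eq_of_forall_mem W.toSubmodule (ρ (k : G) * P) hmem
    have h2 : W.toRepresentation.character k = LinearMap.trace ℂ _ (ρ (k : G) * P) := by
      refine Eq.trans ?_ h1
      refine congrArg _ (LinearMap.ext fun w => Subtype.ext ?_)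
      obtain ⟨w', hw'⟩ := w.2
      show ρ (k : G) (w : Fin n → ℂ) = ρ (k : G) (P (w : Fin n → ℂ))
      rw [← hw', ← Module.End.mul_apply P P, hPP]
    rw [h2, hP, hT, mul_smul_comm, mul_add, mul_one, mul_smul_comm, map_smul, map_add, map_smul,
      ← map_mul, ((hK k k.2)).eq]
    simp only [Representation.character, smul_eq_mul]
    ring
  exact hW ▸ isCharacter_rep W.toRepresentation


namespace Q8Data

variable {H : Type*} [Group H] [Fintype H] (d : Q8Data H)
include d

/-- Splitting a sum over the three kinds of elements. -/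
theorem sum_split {M : Type*} [AddCommMonoid M] (f : H → M) :
    ∑ g, f g = ∑ g ∈ Finset.univ.filter (fun g : H => Odd (orderOf g)), f g +
      ∑ g ∈ Finset.univ.filter (fun g : H => Odd (orderOf g)), f (d.u * g) +
      ∑ g ∈ Finset.univ.filter (fun g : H => 4 ∣ orderOf g), f g := by
  have h1 : ∑ g ∈ Finset.univ.filter (fun g : H => Odd (orderOf g)), f (d.u * g) =
      ∑ g ∈ Finset.univ.filter (fun g : H => Odd (orderOf (d.u * g))), f g := by
    refine Finset.sum_nbij' (fun g => d.u * g) (fun g => d.u * g) ?_ ?_ ?_ ?_ ?_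
    · intro g hg
      have := (Finset.mem_filter.1 hg).2
      refine Finset.mem_filter.2 ⟨Finset.mem_univ _, ?_⟩
      rwa [← mul_assoc, d.u_mul_u, one_mul]
    · intro g hg
      exact Finset.mem_filter.2 ⟨Finset.mem_univ _, (Finset.mem_filter.1 hg).2⟩
    · intro g _; simp [← mul_assoc, d.u_mul_u]
    · intro g _; simp [← mul_assoc, d.u_mul_u]
    · intro g _; rfl
  rw [h1, Finset.sum_filter, Finset.sum_filter, Finset.sum_filter, ← Finset.sum_add_distrib,
    ← Finset.sum_add_distrib]
  refine Finset.sum_congr rfl fun g _ => ?_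
  rcases d.cases3 g with ⟨a, b, c⟩ | ⟨a, b, c⟩ | ⟨a, b, c⟩
  · simp [a, b, c]
  · simp [a, b, c]
  · have : ¬ Odd (orderOf (d.u * g)) := fun h =>
      (Nat.not_even_iff_odd.2 h) (even_iff_two_dvd.2 ((dvd_mul_left 2 2).trans c))
    simp [a, b, this]

omit [Fintype H] in
theorem not_odd_of_four {g : H} (h : 4 ∣ orderOf g) : ¬ Odd (orderOf g) := fun ho =>
  (Nat.not_even_iff_odd.2 ho) (even_iff_two_dvd.2 ((dvd_mul_left 2 2).trans h))

theorem u_mul_odd {g : H} (h : Odd (orderOf g)) :
    ¬ Odd (orderOf (d.u * g)) ∧ ¬ 4 ∣ orderOf (d.u * g) := by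
  rcases d.cases3 g with ⟨-, b, c⟩ | ⟨a, -, -⟩ | ⟨a, -, -⟩
  · exact ⟨c, fun h4 => b ((d.four_dvd_u_mul_iff g).1 h4)⟩
  · exact absurd h a
  · exact absurd h a

end Q8Data

end CfsgLib.ZStar
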