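import Cfsg.Agent.Lib.ZStar.Q8Char

/-!
# The seven characters of the principal 2-block and the evaluation at the involution
-/

namespace CfsgLib.ZStar

open Cfsg CfsgLib.Char
open scoped ComplexConjugate Classical

namespace Q8Data

variable {H : Type*} [Group H] [Fintype H] (d : Q8Data H)
include d

/-- The function `1 + ε ψ` twisted on the coset of `u` is a generalized character. -/
theorem hat_gen {ψ : IrrCharacter H} {ε : ℤ} (hε : ε * ε = 1)
    (hu : ∀ h, (ψ : H → ℂ) (d.u * h) = (ψ : H → ℂ) h)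
    (hsec : ∀ g, 4 ∣ orderOf g → (ψ : H → ℂ) g = ε) :
    IsGeneralizedCharacter H (d.hat fun h => 1 + (ε : ℂ) * (ψ : H → ℂ) h) := by
  set g : H → ℂ := fun h => 1 + (ε : ℂ) * (ψ : H → ℂ) h with hg
  have hgu : ∀ h, g (d.u * h) = g h := fun h => by simp only [hg, hu]
  have hgc : IsClassFunction H g := fun a h => by simp only [hg, IsIrr.isClassFunction ψ.2 a h]
  have hggen : IsGeneralizedCharacter H g :=
    IsGen.add (IsGen.of_irr (trivChar H).2) (IsGen.intCast_smul ε (IsGen.of_irr ψ.2))
  refine CfsgLib.Brauer.isGeneralizedCharacter_of_elementary (d.isClassFunction_hat hgc)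
    fun E p hp hE => ?_
  refine isGeneralizedCharacter_of_classInner (fun e c => d.isClassFunction_hat hgc e c) fun ξ => ?_
  by_cases h2 : 2 ∣ Nat.card E
  · have hu' := d.u_mem_of_even h2
    obtain ⟨K, q, hK, hcard, hq, htwo⟩ :=
      d.nilpotent_info (CfsgLib.Brauer.isNilpotent_of_isElementary hp hE)
    obtain ⟨s, hs, hsξ⟩ := exists_sign (u := (⟨d.u, hu'⟩ : E)) ξ
      (fun e => Subtype.ext (d.u_central e).eq) (Subtype.ext d.u_mul_u)
    have hsc : conj s = s := by rcases hs with rfl | rfl <;> simp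
    have hKgen : IsGeneralizedCharacter K (fun k : K => g (k : E)) :=
      IsGen.restrict K (IsGen.restrict E hggen)
    have hξgen : IsGeneralizedCharacter K (fun k : K => (ξ : E → ℂ) k) :=
      IsGen.restrict K (IsGen.of_irr ξ.2)
    have hinner : classInner (fun e : E => d.hat g e) (ξ : E → ℂ) = (1 - s) *
        (classInner (fun k : K => g (k : E)) (fun k : K => (ξ : E → ℂ) k) / (q : ℂ)) := by
      have hpt : ∀ e : E, d.hat g e * conj ((ξ : E → ℂ) e) =
          (if Odd (orderOf (e : H)) then g e * conj ((ξ : E → ℂ) e) else 0) -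
          (if Odd (orderOf (d.u * (e : H))) then g (d.u * e) * conj ((ξ : E → ℂ) e) else 0) :=
        fun e => by rw [d.hat_pointwise hgu]; split_ifs <;> ring
      simp only [classInner, hpt, Finset.sum_sub_distrib, (d.sum_elementary hK hu' _).1,
        (d.sum_elementary hK hu' _).2, hsξ, map_mul, hsc, Subgroup.coe_mul, hgu, hcard,
        Nat.cast_mul, mul_inv, mul_left_comm (g _) s, ← Finset.mul_sum]
      ring
    rw [hinner]
    rcases hs with rfl | rfl
    · exact ⟨0, by simp⟩
    obtain ⟨n₁, hn₁⟩ := IsGen.exists_classInner_eq_intCast hKgen hξgen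
    -- the halves
    have half_g : ∀ t : E, orderOf t = 4 → (∀ k ∈ K, Commute k t) →
        IsGeneralizedCharacter K (fun k : K => g (k : E) / 2) := by
      intro t ht htK
      have ht' : orderOf (t : H) = 4 := by rw [Subgroup.orderOf_coe, ht]
      have hc := half_char (χ := (ψ : H → ℂ)) ψ.2 (z := (t : H)) (c := 1)
        (by rw [d.sq_eq ht']; exact d.u_central)
        (by rw [d.sq_eq ht', one_mul, one_mul, ← mul_one d.u, hu]) (K.map E.subtype)
        (by rintro _ ⟨k, hk, rfl⟩; exact congrArg Subtype.val (htK k hk).eq)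
      have hc' := IsGen.comp
        (Subgroup.equivMapOfInjective K E.subtype E.subtype_injective).toMonoidHom
        (IsGen.of_isCharacter hc)
      have h := IsGen.intCast_smul ε hc'
      refine (congrArg (Cfsg.IsGeneralizedCharacter K) ?_).mp h
      funext k
      have h4 : 4 ∣ orderOf ((t : H) * ((k : E) : H)) := by
        rw [← Subgroup.coe_mul, Subgroup.orderOf_coe,
          (htK k k.2).symm.orderOf_mul_eq_mul_orderOf_of_coprime
          (by rw [ht]; exact (Nat.coprime_two_left.2 ((hK _).1 k.2)).pow_left 2), ht]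
        exact dvd_mul_right _ _
      have hε2 : (ε : ℂ) * ε = 1 := by exact_mod_cast hε
      show (ε : ℂ) * (((ψ : H → ℂ) ((k : E) : H) + 1 * (ψ : H → ℂ) ((t : H) * ((k : E) : H))) / 2) = _
      rw [hsec _ h4, hg]
      linear_combination hε2 / 2
    rcases hq with rfl | rfl | rfl | rfl
    · exact ⟨2 * n₁, by rw [hn₁]; push_cast; ring⟩
    · exact ⟨n₁, by rw [hn₁]; push_cast; ring⟩
    · obtain ⟨t, ht, htK, -⟩ := htwo dvd_rfl
      obtain ⟨n, hn⟩ := IsGen.exists_classInner_eq_intCast (half_g t ht htK) hξgen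
      refine ⟨n, ?_⟩
      rw [← hn]
      simp only [classInner, div_mul_eq_mul_div, ← Finset.sum_div]
      push_cast
      ring
    · obtain ⟨t, ht, htK, hs8⟩ := htwo (dvd_mul_left 4 2)
      obtain ⟨w, hw, hwK⟩ := hs8 rfl
      have ht' : orderOf (t : H) = 4 := by rw [Subgroup.orderOf_coe, ht]
      have htt : t * t = (⟨d.u, hu'⟩ : E) := Subtype.ext (d.sq_eq ht')
      have hξu : (ξ : E → ℂ) (t * t) = -(ξ : E → ℂ) 1 := by
        rw [htt, ← mul_one (⟨d.u, hu'⟩ : E), hsξ, neg_one_mul]
      have hhalf := half_char (χ := (ξ : E → ℂ)) ξ.2 (z := t) (c := Complex.I)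
        (fun e => by rw [htt]; exact Subtype.ext (d.u_central e).eq)
        (by rw [hξu, Complex.I_mul_I, neg_one_mul, neg_neg]) K htK
      obtain ⟨n, hn⟩ :=
        IsGen.exists_classInner_eq_intCast (half_g t ht htK) (IsGen.of_isCharacter hhalf)
      refine ⟨n, ?_⟩
      have hzero : ∀ k : K, (ξ : E → ℂ) (t * k) = 0 := by
        intro k
        have htinv : t⁻¹ = (⟨d.u, hu'⟩ : E) * t := by
          refine inv_eq_of_mul_eq_one_right (Subtype.ext ?_)
          show (t : H) * (d.u * t) = 1
          rw [← mul_assoc, ← (d.u_central t).eq, mul_assoc, d.sq_eq ht', d.u_mul_u]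
        have h1 : w * (t * k) * w⁻¹ = (⟨d.u, hu'⟩ : E) * (t * k) := by
          calc w * (t * (k : E)) * w⁻¹ = (w * t * w⁻¹) * (w * k * w⁻¹) := by group
            _ = t⁻¹ * k := by rw [hw, ← (hwK k k.2).eq, mul_inv_cancel_right]
            _ = _ := by rw [htinv, mul_assoc]
        have h2 := IsIrr.isClassFunction ξ.2 (t * k) w
        rw [h1, hsξ] at h2
        linear_combination -(1 / 2 : ℂ) * h2
      rw [← hn]
      simp only [classInner, hzero, mul_zero, add_zero, map_div₀, map_ofNat, div_mul_div_comm,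
        ← Finset.sum_div]
      push_cast
      ring
  · have h0 : (fun e : E => d.hat g e) = fun e : E => g e := funext fun e => if_pos (by
      rw [← Nat.not_even_iff_odd, even_iff_two_dvd]
      exact fun h => h2 (h.trans (Subgroup.orderOf_dvd_natCard E e.2)))
    rw [h0]
    exact IsGen.exists_classInner_eq_intCast (IsGen.restrict E hggen) (IsGen.of_irr ξ.2)

theorem hat_u_mul {g : H → ℂ} (hu : ∀ h, g (d.u * h) = g h) (h : H) :
    d.hat g (d.u * h) = -d.hat g h := by
  rw [d.hat_pointwise hu, d.hat_pointwise hu, ← mul_assoc, d.u_mul_u, one_mul]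
  ring

theorem hat_inner_invariant {g f : H → ℂ} (hu : ∀ h, g (d.u * h) = g h)
    (hf : ∀ h, f (d.u * h) = f h) : classInner (d.hat g) f = 0 := by
  have h2 : classInner (d.hat g) f = -classInner (d.hat g) f := by
    simp only [classInner, ← mul_neg, ← Finset.sum_neg_distrib]
    congr 1
    refine Fintype.sum_equiv (Equiv.mulLeft d.u) _ _ fun h => ?_
    simp [d.hat_u_mul hu, hf]
  linear_combination (1 / 2 : ℂ) * h2

theorem hat_inner_hat {g g' : H → ℂ} (hu : ∀ h, g (d.u * h) = g h)
    (hu' : ∀ h, g' (d.u * h) = g' h) (hsec : ∀ h, 4 ∣ orderOf h → g h = 2)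
    (hsec' : ∀ h, 4 ∣ orderOf h → g' h = 2) :
    classInner (d.hat g) (d.hat g') = classInner g g' - 1 := by
  simp only [classInner, d.sum_split (fun h => d.hat g h * conj (d.hat g' h)),
    d.sum_split (fun h => g h * conj (g' h))]
  have e1 : ∀ h ∈ Finset.univ.filter (fun h : H => Odd (orderOf h)),
      d.hat g h * conj (d.hat g' h) = g h * conj (g' h) := fun h hh => by
    simp [hat, (Finset.mem_filter.1 hh).2]
  have e2 : ∀ h ∈ Finset.univ.filter (fun h : H => Odd (orderOf h)),
      d.hat g (d.u * h) * conj (d.hat g' (d.u * h)) = g (d.u * h) * conj (g' (d.u * h)) :=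
    fun h hh => by
      rw [d.hat_u_mul hu, d.hat_u_mul hu', map_neg, neg_mul_neg, e1 h hh, hu, hu']
  have e3 : ∀ h ∈ Finset.univ.filter (fun h : H => 4 ∣ orderOf h),
      d.hat g h * conj (d.hat g' h) = 0 := fun h hh => by
    have h4 := (Finset.mem_filter.1 hh).2
    simp [hat, d.not_odd_of_four h4, h4]
  have e4 : ∀ h ∈ Finset.univ.filter (fun h : H => 4 ∣ orderOf h),
      g h * conj (g' h) = 4 := fun h hh => by
    rw [hsec _ (Finset.mem_filter.1 hh).2, hsec' _ (Finset.mem_filter.1 hh).2, map_ofNat]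
    norm_num
  rw [Finset.sum_congr rfl e1, Finset.sum_congr rfl e2, Finset.sum_congr rfl e3,
    Finset.sum_congr rfl e4, Finset.sum_const_zero, add_zero, d.sum_section, mul_add]
  field_simp [Nat.cast_ne_zero.mpr (Nat.card_pos (α := H)).ne']
  ring

variable {M : Ideal AlgInt} [M.IsPrime] (hM : IsPModular 2 M)
include hM

/-- Block parts of a function vanishing on the elements of odd order vanish at `1`. -/
theorem blockPart_one_eq_zero {B : Set (IrrCharacter H)} (hB : IsPBlock M B) {θ : H → ℂ}
    (hθ : ∀ g, Odd (orderOf g) → θ g = 0) : Cfsg.blockPart B θ 1 = 0 := by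
  refine Blocks.blockPart_eq_zero_of_section (x := 1) (z := 1) hM hB (fun w z hw hc => hθ w ?_)
    (Blocks.isPPart_one_of_isPRegular (by simp)) (IsConj.refl 1)
  rw [isConj_one_right.1 hc] at hw
  rw [← Nat.not_even_iff_odd, even_iff_two_dvd]
  intro h2
  obtain ⟨y, hy, -, -, hy2⟩ := hw
  rw [one_mul] at hy
  exact hy2 (hy ▸ h2)

/-- The class functions of the principal block supported on the elements of even order, and the
evaluation of a character at the involution. -/
theorem exists_functions : ∃ (q : Fin 3 → ℤ) (φ : Fin 3 → H → ℂ),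
    (∀ k, IsGeneralizedCharacter H (φ k)) ∧
    (∀ k h, Odd (orderOf h) → φ k h = 0) ∧
    (∀ k l, classInner (φ k) (φ l) = if k = l then 3 else 1) ∧
    (∀ k, classInner (φ k) (fun _ => 1) = 1) ∧
    (∀ k, classInner (φ k) d.xi = 2) ∧
    ∑ k, q k = -1 ∧
    Nat.card (principalBlock M H) = 7 ∧
    ∀ χ : H → ℂ, IsCharacter H χ →
      Cfsg.blockPart (principalBlock M H) (fun h => χ (d.u * h)) 1 =
        -classInner χ d.xi + ∑ k, classInner χ (φ k) * (1 + q k) := by
  have := Fintype.ofFinite (IrrCharacter H)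
  obtain ⟨ψ, ε, hinj, hne, hε, hexp, hu, hmem, hsec⟩ := d.exists_constituents hM
  let g : Fin 3 → H → ℂ := fun k h => 1 + (ε k : ℂ) * (ψ k : H → ℂ) h
  have hε' : ∀ k, (ε k : ℂ) * ε k = 1 := fun k => by exact_mod_cast hε k
  have hgu : ∀ k h, g k (d.u * h) = g k h := fun k h => by simp only [g, hu]
  have hgsec : ∀ k h, 4 ∣ orderOf h → g k h = 2 := fun k h h4 => by
    simp only [g, hsec k h h4, hε']; norm_num
  have hgg : ∀ k l, classInner (g k) (g l) = if k = l then 2 else 1 := fun k l => by
    have : ∀ k, g k = (trivChar H : H → ℂ) + (ε k : ℂ) • (ψ k : H → ℂ) := fun k => rfl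
    rw [this, this, classInner_add_left, classInner_add_right, classInner_add_right,
      classInner_smul_left, classInner_smul_left, classInner_smul_right, classInner_smul_right,
      classInner_irr_self, classInner_irr_of_ne (Ne.symm (hne l)), classInner_irr_of_ne (hne k),
      classInner_irr, map_intCast]
    split_ifs with h1 h2 h2
    · subst h2; linear_combination hε' k
    · exact absurd (hinj h1) h2
    · exact absurd (congrArg ψ h2) h1
    · ring
  have hhat : ∀ k l, classInner (d.hat (g k)) (d.hat (g l)) = if k = l then 1 else 0 := fun k l => by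
    rw [d.hat_inner_hat (hgu k) (hgu l) (hgsec k) (hgsec l), hgg]
    split_ifs <;> norm_num
  have hgen : ∀ k, IsGeneralizedCharacter H (d.hat (g k)) := fun k =>
    d.hat_gen (hε k) (hu k) (hsec k)
  -- the faithful characters
  have hex : ∀ k, ∃ (η : IrrCharacter H) (σ : ℤ), σ * σ = 1 ∧
      d.hat (g k) = (σ : ℂ) • (η : H → ℂ) := fun k => by
    rcases IsGen.isIrr_or_neg (hgen k) (by rw [hhat, if_pos rfl]) with h | h
    · exact ⟨⟨_, h⟩, 1, rfl, by simp⟩
    · exact ⟨⟨_, h⟩, -1, rfl, by simp⟩
  choose η σ hσ hη using hex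
  have hσ' : ∀ k, (σ k : ℂ) * σ k = 1 := fun k => by exact_mod_cast hσ k
  have hηval : ∀ k h, (η k : H → ℂ) h = σ k * d.hat (g k) h := fun k h => by
    rw [hη, Pi.smul_apply, smul_eq_mul, ← mul_assoc, hσ', one_mul]
  have hηu : ∀ k h, (η k : H → ℂ) (d.u * h) = -(η k : H → ℂ) h := fun k h => by
    rw [hηval, hηval, d.hat_u_mul (hgu k)]; ring
  have hηψ : ∀ k, ∀ χ : IrrCharacter H, (∀ h, (χ : H → ℂ) (d.u * h) = (χ : H → ℂ) h) →
      η k ≠ χ := fun k χ hχ e => by
    have h1 := hηu k 1
    rw [e, hχ] at h1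
    exact IsIrr.apply_one_ne_zero χ.2 (by linear_combination (1 / 2 : ℂ) * h1)
  have hηinj : Function.Injective η := fun k l e => by
    by_contra hkl
    have h1 := hhat k l
    rw [hη, hη, e, classInner_smul_left, classInner_smul_right, classInner_irr_self, if_neg hkl,
      map_intCast, mul_one, ← Int.cast_mul, Int.cast_eq_zero] at h1
    rcases mul_eq_zero.1 h1 with h | h
    · simpa [h] using hσ k
    · simpa [h] using hσ l
  let φ : Fin 3 → H → ℂ := fun k => g k - d.hat (g k)
  have hφodd : ∀ k h, Odd (orderOf h) → φ k h = 0 := fun k h hh => by simp [φ, hat, hh]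
  have hφcoef : ∀ k (ζ : IrrCharacter H), classInner (φ k) (ζ : H → ℂ) =
      (if trivChar H = ζ then 1 else 0) + (ε k : ℂ) * (if ψ k = ζ then 1 else 0) -
        (σ k : ℂ) * (if η k = ζ then 1 else 0) := fun k ζ => by
    rw [show φ k = ((trivChar H : H → ℂ) + (ε k : ℂ) • (ψ k : H → ℂ)) - (σ k : ℂ) • (η k : H → ℂ)
      from by rw [← hη]; rfl, classInner_sub_left, classInner_add_left, classInner_smul_left,
      classInner_smul_left, classInner_irr, classInner_irr, classInner_irr]
  have hn := fun k => IsIrr.exists_degree (ψ k).2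
  choose n hn0 hn' using hn
  let q : Fin 3 → ℤ := fun k => ε k * n k
  have hq : ∀ k, (q k : ℂ) = (ε k : ℂ) * (ψ k : H → ℂ) 1 := fun k => by simp [q, hn']
  have hqsum : ∑ k, q k = -1 := by
    have h := hexp 1
    rw [d.xi_odd (by simp)] at h
    simp only [← hq] at h
    have : (1 : ℤ) + ∑ k, q k = 0 := by exact_mod_cast h.symm
    linarith
  have hη1 : ∀ k, (σ k : ℂ) * (η k : H → ℂ) 1 = 1 + q k := fun k => by
    rw [hηval, ← mul_assoc, hσ', one_mul, hq]
    simp [hat, g]
  have hηmem : ∀ k, η k ∈ principalBlock M H := by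
    intro k
    by_contra hk
    have h0 := d.blockPart_one_eq_zero hM (B := principalBlock M H) isPBlock_principalBlock
      (hφodd k)
    rw [Blocks.blockPart_eq, finsum_mem_eq_finite_toFinset_sum _ (Set.toFinite _)] at h0
    simp only [hφcoef, add_mul, sub_mul, mul_assoc, ite_mul, one_mul, zero_mul,
      Finset.sum_add_distrib, Finset.sum_sub_distrib, ← Finset.mul_sum, Finset.sum_ite_eq,
      Set.Finite.mem_toFinset, if_pos (hmem k), if_pos trivChar_mem_principalBlock, if_neg hk,
      mul_zero, sub_zero, trivChar_apply] at h0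
    rw [← hq] at h0
    have h1 := hη1 k
    rw [h0, mul_eq_zero, Int.cast_eq_zero] at h1
    exact h1.elim (fun h => by simpa [h] using hσ k) (IsIrr.apply_one_ne_zero (η k).2)
  -- the seven characters form the principal block
  let F : Option (Fin 3 ⊕ Fin 3) → IrrCharacter H := fun o => o.elim (trivChar H) (Sum.elim ψ η)
  have hF : Function.Injective F := by
    rintro (_ | a | a) (_ | b | b) h <;>
      simp only [F, Option.elim_none, Option.elim_some, Sum.elim_inl, Sum.elim_inr] at h
    · rfl
    · exact absurd h.symm (hne b)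
    · exact absurd h.symm (hηψ b (trivChar H) fun _ => rfl)
    · exact absurd h (hne a)
    · rw [hinj h]
    · exact absurd h.symm (hηψ b (ψ a) (hu a))
    · exact absurd h (hηψ a (trivChar H) fun _ => rfl)
    · exact absurd h (hηψ a (ψ b) (hu b))
    · rw [hηinj h]
  have hsumF : ∀ f : IrrCharacter H → ℂ, ∑ᶠ ζ ∈ Set.range F, f ζ =
      f (trivChar H) + (∑ k, f (ψ k) + ∑ k, f (η k)) := fun f => by
    rw [finsum_mem_range hF, finsum_eq_sum_of_fintype, Fintype.sum_option, Fintype.sum_sum_type]
    rfl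
  have hblock : principalBlock M H = Set.range F := by
    refine Set.Subset.antisymm (fun ζ hζ => ?_) ?_
    · refine Blocks.mem_of_sameBlock_of_blockCoeff_mem (fun w =>
        Blocks.blockCoeff_mem_of_orth hM _ (fun a c ha hc => ?_) w) ⟨none, rfl⟩ hζ
      have ha' : Odd (orderOf a) :=
        Nat.not_even_iff_odd.1 fun h => ha (even_iff_two_dvd.1 h)
      rw [hsumF]
      have hηη : ∀ k, (η k : H → ℂ) a * (η k : H → ℂ) c = g k a * d.hat (g k) c := fun k => by
        rw [hηval, hηval, show d.hat (g k) a = g k a from if_pos ha']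
        linear_combination g k a * d.hat (g k) c * hσ' k
      simp only [hηη, trivChar_apply, mul_one]
      have ha0 := hexp a
      rw [d.xi_odd ha'] at ha0
      rcases d.cases3 c with ⟨h, -, -⟩ | ⟨h, h4, h'⟩ | ⟨h, h4, -⟩
      · exact absurd (even_iff_two_dvd.2 hc) (Nat.not_even_iff_odd.2 h)
      · have hc0 := hexp c
        rw [← d.xi_u_mul, d.xi_odd h'] at hc0
        have hhat : ∀ k, d.hat (g k) c = -g k c := fun k => by simp [hat, h, h4]
        simp only [hhat, g, ← Finset.sum_add_distrib]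
        rw [Finset.sum_congr rfl (g := fun k => -1 - (ε k : ℂ) * (ψ k : H → ℂ) a -
          (ε k : ℂ) * (ψ k : H → ℂ) c) fun k _ => by
            linear_combination -((ψ k : H → ℂ) a * (ψ k : H → ℂ) c) * hε' k,
          Finset.sum_sub_distrib, Finset.sum_sub_distrib, Finset.sum_const, Finset.card_univ,
          Fintype.card_fin, nsmul_eq_mul, Nat.cast_ofNat]
        linear_combination ha0 + hc0
      · have hhat : ∀ k, d.hat (g k) c = 0 := fun k => by simp [hat, h, h4]
        simp only [hhat, mul_zero, Finset.sum_const_zero, add_zero, fun k => hsec k c h4,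
          mul_comm ((ψ _ : H → ℂ) a)]
        exact ha0.symm
    · rintro _ ⟨o, rfl⟩
      rcases o with _ | a | a
      exacts [trivChar_mem_principalBlock, hmem a, hηmem a]
  refine ⟨q, φ, fun k => IsGen.sub (IsGen.add (IsGen.of_irr (trivChar H).2)
      (IsGen.intCast_smul (ε k) (IsGen.of_irr (ψ k).2))) (hgen k), hφodd, fun k l => ?_,
    fun k => ?_, fun k => ?_, hqsum, ?_, fun χ hχ => ?_⟩
  · simp only [φ, classInner_sub_left, classInner_sub_right, hgg, hhat,
      d.hat_inner_invariant (hgu k) (hgu l)]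
    rw [← classInner_conj_symm, d.hat_inner_invariant (hgu l) (hgu k), map_zero]
    split_ifs <;> norm_num
  · refine (hφcoef k (trivChar H)).trans ?_
    rw [if_pos rfl, if_neg (hne k), if_neg (hηψ k (trivChar H) fun _ => rfl)]
    ring
  · simp only [φ, classInner_sub_left, d.hat_inner_invariant (hgu k) d.xi_u_mul, sub_zero]
    rw [← classInner_conj_symm, d.inner_xi (g k) (c := 2) (hgsec k), map_ofNat, map_ofNat]
  · rw [hblock, Nat.card_congr (Equiv.ofInjective F hF).symm, Nat.card_eq_fintype_card]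
    simp
  -- evaluation
  have hreal : ∀ ζ : IrrCharacter H, conj (classInner χ (ζ : H → ℂ)) = classInner χ (ζ : H → ℂ) :=
    fun ζ => by
      obtain ⟨k, hk⟩ := IsChar.classInner_eq_natCast hχ (IsIrr.isCharacter ζ.2)
      rw [hk, map_natCast]
  have hθ : ∀ (ζ : IrrCharacter H) (s : ℂ), conj s = s →
      (∀ h, (ζ : H → ℂ) (d.u * h) = s * (ζ : H → ℂ) h) →
      classInner (fun h => χ (d.u * h)) (ζ : H → ℂ) = s * classInner χ (ζ : H → ℂ) := by
    intro ζ s hs hζ
    simp only [classInner]
    rw [mul_left_comm, Finset.mul_sum (a := s)]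
    congr 1
    refine Fintype.sum_equiv (Equiv.mulLeft d.u) _ _ fun h => ?_
    simp only [Equiv.coe_mulLeft]
    have hs2 : (ζ : H → ℂ) h = s * (ζ : H → ℂ) (d.u * h) := by
      rw [← hζ, ← mul_assoc, d.u_mul_u, one_mul]
    rw [hs2, map_mul, hs]
    ring
  rw [Blocks.blockPart_eq, hblock, hsumF, hθ (trivChar H) 1 (map_one _) fun h => by simp,
    Finset.sum_congr rfl fun k _ => by
      rw [hθ (ψ k) 1 (map_one _) fun h => by rw [hu, one_mul]],
    Finset.sum_congr rfl (s₁ := Finset.univ)
      (f := fun k => classInner (fun h => χ (d.u * h)) (η k : H → ℂ) * (η k : H → ℂ) 1)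
      (g := fun k => -classInner χ (η k : H → ℂ) * (η k : H → ℂ) 1) fun k _ => by
      rw [hθ (η k) (-1) (by simp) fun h => by rw [hηu, neg_one_mul]]; ring]
  have hv : ∀ k, classInner χ (φ k) = classInner χ (trivChar H : H → ℂ) +
      (ε k : ℂ) * classInner χ (ψ k : H → ℂ) - (σ k : ℂ) * classInner χ (η k : H → ℂ) := fun k => by
    rw [show φ k = ((trivChar H : H → ℂ) + (ε k : ℂ) • (ψ k : H → ℂ)) - (σ k : ℂ) • (η k : H → ℂ)
      from by rw [← hη]; rfl, classInner_sub_right, classInner_add_right, classInner_smul_right,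
      classInner_smul_right, map_intCast, map_intCast]
  have hxi : classInner χ d.xi =
      classInner χ (trivChar H : H → ℂ) + ∑ k, (ε k : ℂ) * classInner χ (ψ k : H → ℂ) := by
    rw [show d.xi = (trivChar H : H → ℂ) + ∑ k, (ε k : ℂ) • (ψ k : H → ℂ) from funext fun h => by
      simp [hexp h], classInner_add_right, classInner_sum_right]
    simp only [classInner_smul_right, map_intCast]
  rw [hxi, Fin.sum_univ_three, Fin.sum_univ_three, Fin.sum_univ_three, Fin.sum_univ_three]
  have hqs : (q 0 : ℂ) + q 1 + q 2 = -1 := by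
    rw [Fin.sum_univ_three] at hqsum
    exact_mod_cast hqsum
  have hη1' : ∀ k, (η k : H → ℂ) 1 = (σ k : ℂ) * (1 + q k) := fun k => by
    rw [← hη1, ← mul_assoc, hσ', one_mul]
  simp only [hv, hη1', trivChar_apply, one_mul, mul_one]
  simp only [hq] at hqs ⊢
  linear_combination
    (-(classInner χ (trivChar H : H → ℂ))) * hqs +
    (-(classInner χ (ψ 0 : H → ℂ)) * (ψ 0 : H → ℂ) 1) * hε' 0 +
    (-(classInner χ (ψ 1 : H → ℂ)) * (ψ 1 : H → ℂ) 1) * hε' 1 +
    (-(classInner χ (ψ 2 : H → ℂ)) * (ψ 2 : H → ℂ) 1) * hε' 2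

end Q8Data

end CfsgLib.ZStar
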