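import Cfsg.Agent.Lib.ZStar.Q8Block
import Cfsg.Agent.Lib.ZStar.QuatSylow

/-!
# `Q₈` Sylow subgroup and `O(G) = 1`: the principal 2-block has seven characters
-/

namespace CfsgLib.ZStar

open Cfsg CfsgLib.Signalizer

theorem q8_orbit : ∀ z : QuaternionGroup 2, z ^ 2 ≠ 1 →
    ∃ w : QuaternionGroup 2, ∃ k : Fin 3, w * q8Sigma^[(k : ℕ)] (.a 1) * w⁻¹ = z := by decide

theorem card_principalBlock_eq_seven {G : Type*} [Group G] [Fintype G] {M : Ideal AlgInt}
    (hM : IsPModular 2 M) (S : Sylow 2 G) (e : (S : Subgroup G) ≃* QuaternionGroup 2)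
    (hO : ∀ N : Subgroup G, N.Normal → Odd (Nat.card N) → N = ⊥) (hG : (S : Subgroup G) ≠ ⊤) :
    Nat.card (principalBlock M G) = 7 := by
  have : Fact (Nat.Prime 2) := ⟨Nat.prime_two⟩
  have := hM.2.1.isPrime
  have hO' : oddCore G = ⊥ := hO _ inferInstance (odd_card_oddCore G)
  have hnc : ¬ HasNormalPComplement 2 G := by
    rintro ⟨P, N, hN, hc⟩
    have hNodd : Odd (Nat.card N) := by
      rw [← Nat.not_even_iff_odd, even_iff_two_dvd, ← hc.index_eq_card]
      exact P.not_dvd_index
    rw [hO N hN hNodd, Subgroup.isComplement'_bot_left] at hc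
    refine hG (Subgroup.eq_top_of_card_eq _ ?_)
    have h := S.card_eq_multiplicity
    rw [← P.card_eq_multiplicity, hc, Subgroup.card_top] at h
    exact h
  obtain ⟨ι, g, hι, -, hσ⟩ := exists_q8_of_no_complement S (n := 1) e hnc
  have hS8 : Nat.card (S : Subgroup G) = 8 := by
    rw [Nat.card_congr e.toEquiv, Nat.card_eq_fintype_card, QuaternionGroup.card]
  have hp : IsPGroup 2 ι.range := IsPGroup.of_card (n := 3) (by
    rw [← Nat.card_congr (MonoidHom.ofInjective hι).toEquiv, Nat.card_eq_fintype_card,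
      QuaternionGroup.card]; norm_num)
  obtain ⟨P, hP⟩ := hp.exists_le_sylow
  have hPeq : (P : Subgroup G) = ι.range := by
    refine (Subgroup.eq_of_le_of_card_ge hP ?_).symm
    rw [P.card_eq_multiplicity, ← S.card_eq_multiplicity, hS8,
      ← Nat.card_congr (MonoidHom.ofInjective hι).toEquiv, Nat.card_eq_fintype_card,
      QuaternionGroup.card]
  have hord : ∀ z, orderOf (ι z) = orderOf z := fun z => orderOf_injective ι hι z
  have hsylow : ∀ h : G, (∃ k, orderOf h = 2 ^ k) → ∃ c z, c * h * c⁻¹ = ι z := by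
    intro h ⟨k, hk⟩
    obtain ⟨Q, hQ⟩ := (IsPGroup.of_card (p := 2) (n := k)
      (show Nat.card (Subgroup.zpowers h) = 2 ^ k by rw [Nat.card_zpowers, hk])).exists_le_sylow
    obtain ⟨c, hc⟩ := MulAction.exists_smul_eq G Q P
    have hm : c * h * c⁻¹ ∈ (P : Subgroup G) := by
      rw [← hc, Sylow.coe_subgroup_smul]
      exact ⟨h, hQ (Subgroup.mem_zpowers h), rfl⟩
    rw [hPeq] at hm
    obtain ⟨z, hz⟩ := hm
    exact ⟨c, z, hz.symm⟩
  set u := ι (.a 2) with hu
  have hu2 : orderOf u = 2 := by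
    rw [hu, hord]
    exact orderOf_eq_prime (by decide) (by decide)
  have huniq : ∀ x ∈ P, orderOf x = 2 → x = u := by
    intro x hx hx2
    replace hx : x ∈ (P : Subgroup G) := hx
    rw [hPeq] at hx
    obtain ⟨z, rfl⟩ := hx
    rw [hord] at hx2
    rw [hu, quaternion_unique_involution hx2 (orderOf_eq_prime (p := 2) (by decide)
      (show (QuaternionGroup.a 2 : QuaternionGroup 2) ≠ 1 by decide))]
  have huP : u ∈ P := hP ⟨_, rfl⟩
  have hucent : ∀ h : G, Commute u h := fun h => by
    have h1 := mem_oddCore_of_unique P hu2 huP huniq h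
    rw [hO', Subgroup.mem_bot, mul_inv_eq_one, mul_inv_eq_iff_eq_mul] at h1
    exact h1
  let d : Q8Data G :=
    { u := u, x := ι (.a 1), y := ι (.xa 0), S := P
      u_two := hu2
      u_central := hucent
      inv_eq := fun h hh => by
        obtain ⟨c, z, hz⟩ := hsylow h ⟨1, by rw [pow_one, hh]⟩
        have h1 : c * h * c⁻¹ = u := huniq _ (hz ▸ hP ⟨z, rfl⟩)
          (by rw [Signalizer.orderOf_conj, hh])
        rw [mul_inv_eq_iff_eq_mul, (hucent c).eq] at h1
        exact mul_left_cancel h1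
      x_four := by rw [hord, QuaternionGroup.orderOf_a_one]
      y_four := by rw [hord, QuaternionGroup.orderOf_xa]
      x_mem := hP ⟨_, rfl⟩
      y_mem := hP ⟨_, rfl⟩
      y_conj := by
        rw [← map_inv, ← map_mul, ← map_mul, ← map_inv]
        congr 1
      conj4 := fun h hh => by
        obtain ⟨c, z, hz⟩ := hsylow h ⟨2, by rw [hh]; norm_num⟩
        have hz2 : z ^ 2 ≠ 1 := fun h2 => by
          have h3 := orderOf_dvd_of_pow_eq_one h2
          rw [← hord, ← hz, Signalizer.orderOf_conj, hh] at h3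
          norm_num at h3
        obtain ⟨w, k, hwk⟩ := q8_orbit z hz2
        have hg : ∀ (j : ℕ) y, g ^ j * ι y * (g ^ j)⁻¹ = ι (q8Sigma^[j] y) := by
          intro j
          induction j with
          | zero => intro y; simp
          | succ j ih =>
            intro y
            rw [Function.iterate_succ_apply', ← hσ, ← ih, pow_succ']
            group
        refine isConj_iff.2 ⟨c⁻¹ * ι w * g ^ (k : ℕ), ?_⟩
        calc c⁻¹ * ι w * g ^ (k : ℕ) * ι (.a 1) * (c⁻¹ * ι w * g ^ (k : ℕ))⁻¹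
            = c⁻¹ * (ι w * (g ^ (k : ℕ) * ι (.a 1) * (g ^ (k : ℕ))⁻¹) * (ι w)⁻¹) * c := by group
          _ = c⁻¹ * ι z * c := by rw [hg, ← map_inv, ← map_mul, ← map_mul, hwk]
          _ = h := by rw [← hz]; group
      card_S := by rw [P.card_eq_multiplicity, ← S.card_eq_multiplicity, hS8] }
  obtain ⟨q, φ, -, -, -, -, -, -, hcard, -⟩ := d.exists_functions hM
  exact hcard

end CfsgLib.ZStar
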