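import Cfsg.Agent.Lib.ZStar.Q8Aux
import Cfsg.Agent.Lib.ZStar.PrincipalBlock
import Cfsg.Agent.Lib.Char.Brauer

/-!
# The principal 2-block functions of the centralizer of the involution (quaternion of order 8)
-/

namespace CfsgLib.ZStar

open Cfsg CfsgLib.Char
open scoped ComplexConjugate Classical

namespace Q8Data

variable {H : Type*} [Group H] [Fintype H] (d : Q8Data H)

/-- Four times the indicator of the elements of order divisible by four. -/
noncomputable def xi (_d : Q8Data H) : H → ℂ := fun g => if 4 ∣ orderOf g then 4 else 0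

/-- The sign-twisted extension of a function from the elements of odd order. -/
noncomputable def hat (_d : Q8Data H) (g : H → ℂ) : H → ℂ := fun h =>
  if Odd (orderOf h) then g h else if 4 ∣ orderOf h then 0 else -g h

include d

theorem xi_pointwise (h : H) : d.xi h = 4 * (1 - (if Odd (orderOf h) then 1 else 0) -
    if Odd (orderOf (d.u * h)) then 1 else 0) := by
  unfold xi
  rcases d.cases3 h with ⟨a, b, c⟩ | ⟨a, b, c⟩ | ⟨a, b, c⟩
  · simp [a, b, c]
  · simp [a, b, c]
  · have : ¬ Odd (orderOf (d.u * h)) := d.not_odd_of_four c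
    simp [a, b, this]

theorem hat_pointwise {g : H → ℂ} (hu : ∀ h, g (d.u * h) = g h) (h : H) : d.hat g h =
    (if Odd (orderOf h) then g h else 0) - if Odd (orderOf (d.u * h)) then g (d.u * h) else 0 := by
  unfold hat
  rcases d.cases3 h with ⟨a, b, c⟩ | ⟨a, b, c⟩ | ⟨a, b, c⟩
  · simp [a, c]
  · simp [a, b, c, hu]
  · have : ¬ Odd (orderOf (d.u * h)) := d.not_odd_of_four c
    simp [a, b, this]

theorem isClassFunction_xi : IsClassFunction H d.xi := fun g h => by
  simp only [xi, orderOf_conj']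

theorem isClassFunction_hat {g : H → ℂ} (hg : IsClassFunction H g) :
    IsClassFunction H (d.hat g) := fun a h => by
  simp only [hat, orderOf_conj', hg a h]

/-- Coefficients on an elementary subgroup: sums over the elements of odd order. -/
theorem sum_elementary {E : Subgroup H} {K : Subgroup E} (hK : ∀ e : E, e ∈ K ↔ Odd (orderOf e))
    (hu : d.u ∈ E) (f : E → ℂ) :
    (∑ e : E, if Odd (orderOf (e : H)) then f e else 0) = ∑ k : K, f k ∧
    (∑ e : E, if Odd (orderOf (d.u * (e : H))) then f e else 0) = ∑ k : K, f (⟨d.u, hu⟩ * k) := by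
  have h1 : ∀ f : E → ℂ, (∑ e : E, if Odd (orderOf (e : H)) then f e else 0) = ∑ k : K, f k := by
    intro f
    rw [← Finset.sum_filter, Finset.sum_subtype (p := fun e : E => e ∈ K) _ (fun e => by
      simp [hK, Subgroup.orderOf_coe])]
  refine ⟨h1 f, ?_⟩
  rw [← h1 fun e => f (⟨d.u, hu⟩ * e)]
  refine Fintype.sum_equiv (Equiv.mulLeft (⟨d.u, hu⟩ : E)) _ _ fun e => ?_
  have : (⟨d.u, hu⟩ : E) * (⟨d.u, hu⟩ * e) = e := Subtype.ext (by
    simp [← mul_assoc, d.u_mul_u])
  simp only [Equiv.coe_mulLeft, this, Subgroup.coe_mul]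

theorem xi_gen : IsGeneralizedCharacter H d.xi := by
  refine CfsgLib.Brauer.isGeneralizedCharacter_of_elementary d.isClassFunction_xi fun E p hp hE => ?_
  refine isGeneralizedCharacter_of_classInner (fun e c => d.isClassFunction_xi e c) fun ξ => ?_
  by_cases h2 : 2 ∣ Nat.card E
  · have hu := d.u_mem_of_even h2
    obtain ⟨K, q, hK, hcard, hq, -⟩ := d.nilpotent_info (CfsgLib.Brauer.isNilpotent_of_isElementary hp hE)
    obtain ⟨s, hs, hsξ⟩ := exists_sign (u := (⟨d.u, hu⟩ : E)) ξ
      (fun e => Subtype.ext (d.u_central e).eq) (Subtype.ext d.u_mul_u)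
    obtain ⟨a, ha⟩ := IsGen.exists_classInner_eq_intCast (G := E)
      (IsGen.of_irr (trivChar E).2) (IsGen.of_irr ξ.2)
    obtain ⟨b, hb⟩ := IsGen.exists_classInner_eq_intCast (G := K)
      (IsGen.of_irr (trivChar K).2) (IsGen.restrict K (IsGen.of_irr ξ.2))
    have hsc : conj s = s := by rcases hs with rfl | rfl <;> simp
    have hpt : ∀ e : E, d.xi e * conj ((ξ : E → ℂ) e) = 4 * conj ((ξ : E → ℂ) e) -
        4 * (if Odd (orderOf (e : H)) then conj ((ξ : E → ℂ) e) else 0) -
        4 * (if Odd (orderOf (d.u * (e : H))) then conj ((ξ : E → ℂ) e) else 0) := fun e => by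
      rw [d.xi_pointwise]; split_ifs <;> ring
    have hinner : classInner (fun e : E => d.xi e) (ξ : E → ℂ) =
        4 * (a : ℂ) - 4 * (1 + s) * ((b : ℂ) / (q : ℂ)) := by
      rw [← ha, ← hb]
      simp only [classInner, hpt, Finset.sum_sub_distrib, ← Finset.mul_sum,
        (d.sum_elementary hK hu _).1, (d.sum_elementary hK hu _).2, hsξ, map_mul, hsc,
        trivChar_apply, one_mul, hcard, Nat.cast_mul, mul_inv]
      ring
    rw [hinner]
    rcases hs with rfl | rfl
    · rcases hq with rfl | rfl | rfl | rfl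
      · exact ⟨4 * a - 8 * b, by push_cast; ring⟩
      · exact ⟨4 * a - 4 * b, by push_cast; ring⟩
      · exact ⟨4 * a - 2 * b, by push_cast; ring⟩
      · exact ⟨4 * a - b, by push_cast; ring⟩
    · exact ⟨4 * a, by push_cast; ring⟩
  · refine ⟨0, ?_⟩
    have h0 : (fun e : E => d.xi e) = 0 := funext fun e => if_neg fun h4 => h2 <|
      ((dvd_mul_left 2 2).trans h4).trans (Subgroup.orderOf_dvd_natCard E e.2)
    rw [h0, classInner_zero_left, Int.cast_zero]

theorem sum_section (c : ℂ) :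
    ∑ g ∈ Finset.univ.filter (fun g : H => 4 ∣ orderOf g), c = (Nat.card H : ℂ) / 4 * c := by
  rw [Finset.sum_const, nsmul_eq_mul, ← d.card_section, Nat.cast_mul]
  push_cast
  ring

theorem xi_odd {g : H} (h : Odd (orderOf g)) : d.xi g = 0 :=
  if_neg fun h4 => d.not_odd_of_four h4 h

theorem xi_u_mul_odd {g : H} (h : Odd (orderOf g)) : d.xi (d.u * g) = 0 :=
  if_neg (d.u_mul_odd h).2

theorem xi_norm : classInner d.xi d.xi = 4 := by
  rw [classInner, d.sum_split]
  rw [Finset.sum_eq_zero fun g hg => by rw [d.xi_odd (Finset.mem_filter.1 hg).2, zero_mul],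
    Finset.sum_eq_zero fun g hg => by rw [d.xi_u_mul_odd (Finset.mem_filter.1 hg).2, zero_mul],
    zero_add, zero_add, Finset.sum_congr rfl (g := fun _ => (16 : ℂ)) fun g hg => by
      simp [xi, (Finset.mem_filter.1 hg).2, map_ofNat]; norm_num,
    d.sum_section]
  field_simp [Nat.cast_ne_zero.mpr (Nat.card_pos (α := H)).ne']
  norm_num

theorem inner_xi (f : H → ℂ) {c : ℂ} (hc : ∀ g, 4 ∣ orderOf g → f g = c) :
    classInner d.xi f = conj c := by
  rw [classInner, d.sum_split]
  rw [Finset.sum_eq_zero fun g hg => by rw [d.xi_odd (Finset.mem_filter.1 hg).2, zero_mul],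
    Finset.sum_eq_zero fun g hg => by rw [d.xi_u_mul_odd (Finset.mem_filter.1 hg).2, zero_mul],
    zero_add, zero_add, Finset.sum_congr rfl (g := fun _ => 4 * conj c) fun g hg => by
      simp [xi, (Finset.mem_filter.1 hg).2, hc g (Finset.mem_filter.1 hg).2],
    d.sum_section]
  field_simp [Nat.cast_ne_zero.mpr (Nat.card_pos (α := H)).ne']

theorem xi_u_mul (h : H) : d.xi (d.u * h) = d.xi h :=
  if_congr (d.four_dvd_u_mul_iff h) rfl rfl

/-- A homomorphism to an abelian group trivial on the elements of odd order is trivial. -/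
theorem eq_one_of_regular {A : Type*} [CommGroup A] (l : H →* A)
    (hl : ∀ g, Odd (orderOf g) → l g = 1) (g : H) : l g = 1 := by
  have h4 : ∀ t, orderOf t = 4 → l t = l d.x := fun t ht => by
    obtain ⟨a, ha⟩ := isConj_iff.1 (d.conj4 t ht)
    rw [← ha, map_mul, map_mul, map_inv, mul_comm (l a), mul_inv_cancel_right]
  have hxy : orderOf (d.x * d.y) = 4 := by
    have h1 : d.x * d.y * (d.x * d.y) = d.u := by
      calc d.x * d.y * (d.x * d.y) = d.x * (d.y * d.x * d.y⁻¹) * (d.y * d.y) := by group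
        _ = d.u := by rw [d.y_conj, d.sq_eq d.y_four, mul_inv_cancel, one_mul]
    refine orderOf_eq_prime_pow (p := 2) (n := 1) ?_ ?_
    · rw [pow_one, pow_two, h1]; exact d.u_ne
    · rw [show 2 ^ (1 + 1) = 2 + 2 from rfl, pow_add, pow_two, h1, d.u_mul_u]
  have hx : l d.x = 1 := by
    have h := h4 _ hxy
    rw [map_mul, h4 _ d.y_four] at h
    exact mul_eq_left.1 h
  obtain ⟨t, k, rfl, -, hk, ht, -⟩ := d.decomp g
  rw [map_mul, hl k hk, mul_one]
  rcases ht with rfl | rfl | ht
  · exact map_one l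
  · rw [← d.x_sq, map_mul, hx, one_mul]
  · rw [h4 t ht, hx]

variable {M : Ideal AlgInt} [M.IsPrime] (hM : IsPModular 2 M)
include hM

theorem principal_const {ψ : IrrCharacter H} (hψ : ψ ∈ principalBlock M H) {g : H}
    (hg : 4 ∣ orderOf g) : (ψ : H → ℂ) g = (ψ : H → ℂ) d.x := by
  obtain ⟨K, hKodd, hK, -⟩ := d.centralizer_x
  obtain ⟨a, k, hk, rfl⟩ := d.exists_conj_x_mul hK hg
  rw [IsIrr.isClassFunction ψ.2]
  set C := Subgroup.centralizer ({d.x} : Set H)
  have hkC : k ∈ C := Subgroup.mem_centralizer_singleton_iff.2 ((hK k).1 hk).1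
  have hKC : K ≤ C := fun z hz => Subgroup.mem_centralizer_singleton_iff.2 ((hK z).1 hz).1
  have hn : (K.subgroupOf C).Normal := ⟨fun z hz c => by
    rw [Subgroup.mem_subgroupOf] at hz ⊢
    obtain ⟨h1, h2⟩ := (hK _).1 hz
    have hc : Commute (c : H) d.x := Subgroup.mem_centralizer_singleton_iff.1 c.2
    refine (hK _).2 ⟨(hc.mul_left h1).mul_left hc.inv_left, ?_⟩
    push_cast
    rwa [orderOf_conj']⟩
  refine apply_mul_eq_of_mem (p := 2) hM (x := d.x) ⟨2, by rw [d.x_four]; norm_num⟩ hn ?_ hψ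
    (w := ⟨k, hkC⟩) (Subgroup.mem_subgroupOf.2 hk)
  rw [Nat.card_congr (Subgroup.subgroupOfEquivOfLe hKC).toEquiv, ← even_iff_two_dvd]
  exact Nat.not_even_iff_odd.2 hKodd

/-- The constituents of `xi`. -/
theorem exists_constituents : ∃ (ψ : Fin 3 → IrrCharacter H) (ε : Fin 3 → ℤ),
    Function.Injective ψ ∧ (∀ k, ψ k ≠ trivChar H) ∧ (∀ k, ε k * ε k = 1) ∧
    (∀ h, d.xi h = 1 + ∑ k, (ε k : ℂ) * (ψ k : H → ℂ) h) ∧
    (∀ k h, (ψ k : H → ℂ) (d.u * h) = (ψ k : H → ℂ) h) ∧
    (∀ k, ψ k ∈ principalBlock M H) ∧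
    (∀ k g, 4 ∣ orderOf g → (ψ k : H → ℂ) g = ε k) := by
  have := Fintype.ofFinite (IrrCharacter H)
  obtain ⟨m, hm⟩ := IsGen.exists_sum d.xi_gen
  have hcoef : ∀ χ : IrrCharacter H, classInner d.xi (χ : H → ℂ) = (m χ : ℂ) := fun χ => by
    rw [hm, classInner_sum_irr]
  have h1 : m (trivChar H) = 1 := by
    have := (hcoef (trivChar H)).symm.trans (d.inner_xi _ (c := 1) fun g _ => rfl)
    rw [map_one] at this
    exact_mod_cast this
  have hsq : ∑ χ, m χ * m χ = 4 := by
    have h := d.xi_norm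
    rw [hm, IsGen.classInner_self] at h
    exact_mod_cast h
  have hxi1 : ((∑ χ, (m χ : ℂ) * (χ : H → ℂ) 1) = 0) := by
    have := congrFun hm 1
    rw [d.xi_odd (by simp)] at this
    simpa using this.symm
  set T := (Finset.univ.erase (trivChar H)).filter fun χ => m χ ≠ 0 with hT
  have hT3 : ∑ χ ∈ T, m χ * m χ = 3 := by
    rw [hT, Finset.sum_filter_of_ne (p := fun χ => m χ ≠ 0) (fun χ _ h hz => h (by rw [hz, mul_zero]))]
    rw [← Finset.add_sum_erase _ _ (Finset.mem_univ (trivChar H)), h1] at hsq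
    omega
  have hT1 : ∀ χ ∈ T, m χ * m χ = 1 := fun χ hχ => by
    have hne := (Finset.mem_filter.1 hχ).2
    have hle : m χ * m χ ≤ 3 := hT3 ▸ Finset.single_le_sum (fun c _ => mul_self_nonneg (m c)) hχ
    have h1 : -1 ≤ m χ ∧ m χ ≤ 1 := ⟨by nlinarith, by nlinarith⟩
    rcases (show m χ = -1 ∨ m χ = 1 by omega) with h | h <;> rw [h] <;> rfl
  have hcard : T.card = 3 := by
    rw [Finset.sum_congr rfl hT1, Finset.sum_const, nsmul_eq_mul, mul_one] at hT3
    exact_mod_cast hT3
  set e := (Finset.equivFinOfCardEq hcard).symm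
  let ψ : Fin 3 → IrrCharacter H := fun k => (e k : IrrCharacter H)
  let ε : Fin 3 → ℤ := fun k => m (ψ k)
  have hψT : ∀ k, ψ k ∈ T := fun k => (e k).2
  have hinj : Function.Injective ψ := Subtype.val_injective.comp e.injective
  have hne : ∀ k, ψ k ≠ trivChar H := fun k =>
    Finset.ne_of_mem_erase (Finset.mem_filter.1 (hψT k)).1
  have hε : ∀ k, ε k * ε k = 1 := fun k => hT1 _ (hψT k)
  have hexp : ∀ h, d.xi h = 1 + ∑ k, (ε k : ℂ) * (ψ k : H → ℂ) h := by
    intro h
    rw [hm]
    simp only [Finset.sum_apply, Pi.smul_apply, smul_eq_mul]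
    rw [← Finset.add_sum_erase _ _ (Finset.mem_univ (trivChar H)), h1, trivChar_apply]
    congr 1
    · simp
    rw [Fintype.sum_equiv e (fun k => (ε k : ℂ) * (ψ k : H → ℂ) h)
      (fun χ => (m χ.1 : ℂ) * (χ.1 : H → ℂ) h) (fun k => rfl),
      Finset.sum_coe_sort T (fun χ => (m χ : ℂ) * (χ : H → ℂ) h), hT,
      Finset.sum_filter_of_ne (p := fun χ => m χ ≠ 0) fun χ _ hh hz => hh (by rw [hz]; simp)]
  have hu : ∀ k h, (ψ k : H → ℂ) (d.u * h) = (ψ k : H → ℂ) h := by
    intro k
    obtain ⟨s, hs, hsψ⟩ := exists_sign (ψ k) d.u_central d.u_mul_u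
    rcases hs with rfl | rfl
    · intro h; rw [hsψ, one_mul]
    · exfalso
      have hc := hcoef (ψ k)
      have h2 : classInner d.xi (ψ k : H → ℂ) = -classInner d.xi (ψ k : H → ℂ) := by
        simp only [classInner, ← mul_neg, ← Finset.sum_neg_distrib]
        congr 1
        refine Fintype.sum_equiv (Equiv.mulLeft d.u) _ _ fun g => ?_
        simp [d.xi_u_mul, hsψ]
      rw [hc] at h2
      have : (m (ψ k) : ℤ) = -m (ψ k) := by exact_mod_cast h2
      have hz := (Finset.mem_filter.1 (hψT k)).2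
      omega
  have hmem : ∀ k, ψ k ∈ principalBlock M H := by
    have := fun k => IsIrr.exists_degree (ψ k).2
    choose n hn0 hn using this
    have hsum : (1 : ℤ) + ∑ k, ε k * n k = 0 := by
      have := hexp 1
      rw [d.xi_odd (by simp)] at this
      simp only [hn] at this
      exact_mod_cast this.symm
    have hpartg : ∀ g, Odd (orderOf g) →
        (1 : ℂ) + ∑ k, (if ψ k ∈ principalBlock M H then (ε k : ℂ) * (ψ k : H → ℂ) g else 0) = 0 := by
      intro g hg
      have hreg : ¬ 2 ∣ orderOf g := fun h => Nat.not_even_iff_odd.2 hg (even_iff_two_dvd.2 h)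
      have h0 := Blocks.blockPart_eq_zero_of_section (x := 1) (z := 1) (ϑ := d.xi) hM
        (isPBlock_principalBlock (G := H) (M := M)) (fun w z hw hc => d.xi_odd ?_)
        (Blocks.isPPart_one_of_isPRegular hreg) (IsConj.refl 1)
      · rw [Blocks.blockPart_eq, finsum_mem_eq_finite_toFinset_sum _ (Set.toFinite _),
          show (Set.toFinite (principalBlock M H)).toFinset =
            Finset.univ.filter (fun χ => χ ∈ principalBlock M H) by ext; simp,
          Finset.sum_filter, ← Finset.add_sum_erase _ _ (Finset.mem_univ (trivChar H))] at h0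
        rw [if_pos trivChar_mem_principalBlock, hcoef, h1, Int.cast_one, one_mul,
          trivChar_apply] at h0
        refine Eq.trans ?_ h0
        congr 1
        rw [← Finset.sum_filter_of_ne (p := fun χ => m χ ≠ 0)
            (s := Finset.univ.erase (trivChar H)) (fun χ _ hh hz => hh (by rw [hcoef, hz]; simp)),
          ← hT, ← Finset.sum_coe_sort T, ← Fintype.sum_equiv e
            (fun k => if ψ k ∈ principalBlock M H then
              classInner d.xi (ψ k : H → ℂ) * (ψ k : H → ℂ) g else 0) _ (fun k => rfl)]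
        simp [hcoef, ε]
      · rw [isConj_one_right.1 hc] at hw
        rw [← Nat.not_even_iff_odd, even_iff_two_dvd]
        intro h2
        obtain ⟨y, hy, -, -, hy2⟩ := hw
        rw [one_mul] at hy
        exact hy2 (hy ▸ h2)
    set S := Finset.univ.filter fun k => ψ k ∈ principalBlock M H with hS
    have hpart : (1 : ℤ) + ∑ k ∈ S, ε k * n k = 0 := by
      have := hpartg 1 (by simp)
      simp only [hn, ← Finset.sum_filter] at this
      exact_mod_cast this
    by_contra hnot
    push Not at hnot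
    obtain ⟨k₀, hk₀⟩ := hnot
    rw [← Finset.sum_add_sum_compl S, ← add_assoc, hpart, zero_add] at hsum
    have hk₀S : k₀ ∈ Sᶜ := by simp [hS, hk₀]
    have hεn : ∀ k, ε k * n k ≠ 0 := fun k => mul_ne_zero
      (fun h => by simpa [h] using hε k) (by exact_mod_cast (hn0 k).ne')
    by_cases hc1 : Sᶜ.card = 1
    · obtain ⟨j, hj⟩ := Finset.card_eq_one.1 hc1
      rw [hj, Finset.sum_singleton] at hsum
      exact hεn j hsum
    have hS3 : S.card + Sᶜ.card = 3 := by
      rw [Finset.card_add_card_compl, Fintype.card_fin]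
    have hSc : 0 < Sᶜ.card := Finset.card_pos.2 ⟨k₀, hk₀S⟩
    rcases Nat.eq_zero_or_pos S.card with h | h
    · rw [Finset.card_eq_zero.1 h] at hpart
      simp at hpart
    obtain ⟨k, hk⟩ := Finset.card_eq_one.1 (show S.card = 1 by omega)
    rw [hk, Finset.sum_singleton] at hpart
    have hε1 : n k = 1 ∧ ε k = -1 := by
      rcases mul_self_eq_one_iff.1 (hε k) with h | h <;> rw [h] at hpart
      · omega
      · exact ⟨by omega, h⟩
    obtain ⟨l, hl⟩ := exists_linear_of_degree_one (IsIrr.isCharacter (ψ k).2)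
      (by rw [hn, hε1.1, Nat.cast_one])
    refine hne k (irr_ext fun g => ?_)
    rw [hl, trivChar_apply]
    show (l g : ℂ) = 1
    rw [d.eq_one_of_regular l (fun g hg => Units.ext ?_) g, Units.val_one]
    have := hpartg g hg
    rw [← Finset.sum_filter, ← hS, hk, Finset.sum_singleton, hε1.2] at this
    simp only [hl] at this
    push_cast at this ⊢
    linear_combination -this
  refine ⟨ψ, ε, hinj, hne, hε, hexp, hu, hmem, fun k g hg => ?_⟩
  have hc := hcoef (ψ k)
  rw [d.inner_xi _ (c := (ψ k : H → ℂ) d.x) fun g hg => d.principal_const hM (hmem k) hg] at hc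
  rw [d.principal_const hM (hmem k) hg, ← Complex.conj_conj ((ψ k : H → ℂ) d.x), hc, map_intCast]

end Q8Data

end CfsgLib.ZStar
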