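import Cfsg.Agent.Lib.Char.Exceptional.Quaternion
import Cfsg.Agent.Lib.Char.Virtual
import Cfsg.Agent.Lib.Char.DegreeCenter
import Cfsg.Agent.Lib.OddLocal.FittingHall
import Mathlib.GroupTheory.SchurZassenhaus

/-!
# A group with a central involution and a quaternion Sylow 2-subgroup of order 8
-/

namespace CfsgLib.ZStar

open scoped Classical
open Subgroup

/-- The hypotheses on the centralizer of the involution. -/
structure Q8Data (H : Type*) [Group H] where
  u : H
  x : H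
  y : H
  S : Sylow 2 H
  u_two : orderOf u = 2
  u_central : ∀ h : H, Commute u h
  inv_eq : ∀ h : H, orderOf h = 2 → h = u
  x_four : orderOf x = 4
  y_four : orderOf y = 4
  x_mem : x ∈ (S : Subgroup H)
  y_mem : y ∈ (S : Subgroup H)
  y_conj : y * x * y⁻¹ = x⁻¹
  conj4 : ∀ h : H, orderOf h = 4 → IsConj x h
  card_S : Nat.card (S : Subgroup H) = 8

theorem orderOf_conj' {H : Type*} [Group H] (g a : H) : orderOf (g * a * g⁻¹) = orderOf a :=
  orderOf_injective (MulAut.conj g).toMonoidHom (MulAut.conj g).injective a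

namespace Q8Data

variable {H : Type*} [Group H] [Finite H] (d : Q8Data H)
include d

theorem u_mul_u : d.u * d.u = 1 := by rw [← pow_two, ← d.u_two, pow_orderOf_eq_one]

theorem u_ne : d.u ≠ 1 := fun h => by
  have := d.u_two
  rw [h, orderOf_one] at this
  norm_num at this

theorem sq_eq {h : H} (hh : orderOf h = 4) : h * h = d.u := by
  refine d.inv_eq _ ?_
  rw [← pow_two, orderOf_pow' _ two_ne_zero, hh]
  norm_num

theorem x_sq : d.x * d.x = d.u := d.sq_eq d.x_four

theorem x_inv : d.x⁻¹ = d.u * d.x := by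
  refine inv_eq_of_mul_eq_one_right ?_
  rw [← mul_assoc, ← (d.u_central d.x).eq, mul_assoc, d.x_sq, d.u_mul_u]

theorem two_dvd_card : 2 ∣ Nat.card H := d.u_two ▸ orderOf_dvd_natCard d.u

theorem card_le_eight {P : Subgroup H} (hP : IsPGroup 2 P) : Nat.card P ≤ 8 := by
  obtain ⟨Q, hQ⟩ := hP.exists_le_sylow
  obtain ⟨g, hg⟩ := MulAction.exists_smul_eq H Q d.S
  have h1 : Nat.card (Q : Subgroup H) = 8 := by
    rw [← d.card_S, Nat.card_congr (Q.equiv d.S).toEquiv]
  exact h1 ▸ Subgroup.card_le_of_le hQ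

theorem card_dvd_eight {P : Subgroup H} (hP : IsPGroup 2 P) : Nat.card P ∣ 8 := by
  obtain ⟨Q, hQ⟩ := hP.exists_le_sylow
  exact (Nat.card_congr (Q.equiv d.S).toEquiv).trans d.card_S ▸ Subgroup.card_dvd_of_le hQ

/-- The centre of the Sylow subgroup has no element of order four. -/
theorem not_central_four {z : H} (hz : z ∈ (d.S : Subgroup H))
    (hc : ∀ s ∈ (d.S : Subgroup H), Commute z s) : orderOf z ≠ 4 := by
  intro h4
  have hle : Subgroup.zpowers z ≤ (d.S : Subgroup H) := Subgroup.zpowers_le.2 hz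
  set Z := (Subgroup.zpowers z).subgroupOf (d.S : Subgroup H)
  have hidx : Z.index = 2 := by
    have h := Subgroup.index_mul_card Z
    rw [Nat.card_congr (Subgroup.subgroupOfEquivOfLe hle).toEquiv, Nat.card_zpowers, h4,
      d.card_S] at h
    omega
  have hcomm : ∀ a : (d.S : Subgroup H), a ∈ Z → ∀ b : (d.S : Subgroup H), a * b = b * a := by
    intro a ha b
    obtain ⟨i, hi⟩ := Subgroup.mem_subgroupOf.1 ha
    refine Subtype.ext ?_
    show (a : H) * b = b * a
    rw [← hi]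
    exact ((hc b b.2).zpow_left i).eq
  let x' : (d.S : Subgroup H) := ⟨d.x, d.x_mem⟩
  let y' : (d.S : Subgroup H) := ⟨d.y, d.y_mem⟩
  have hne : x' * y' ≠ y' * x' := fun e => by
    have e' : d.x * d.y = d.y * d.x := congrArg Subtype.val e
    have h := d.y_conj
    rw [← e', mul_inv_cancel_right, ← mul_eq_one_iff_eq_inv, d.x_sq] at h
    exact d.u_ne h
  have hx : x' ∉ Z := fun h => hne (hcomm _ h y')
  have hy : y' ∉ Z := fun h => hne (hcomm _ h x').symm
  have hxy : x' * y' ∈ Z := (Subgroup.mul_mem_iff_of_index_two hidx).2 (iff_of_false hx hy)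
  have := hcomm _ hxy x'
  rw [mul_assoc, mul_right_inj] at this
  exact hne this.symm

theorem two_part_dvd {g : H} {j : ℕ} (hg : orderOf g = 2 ^ j) : j ≤ 2 := by
  have hP : IsPGroup 2 (Subgroup.zpowers g) := IsPGroup.of_card (by rw [Nat.card_zpowers, hg])
  have h8 := d.card_le_eight hP
  rw [Nat.card_zpowers, hg] at h8
  have hj : j ≤ 3 := (Nat.pow_le_pow_iff_right (le_refl 2)).1 (h8.trans (by norm_num))
  by_contra hj2
  have hj3 : j = 3 := by omega
  subst hj3
  obtain ⟨Q, hQ⟩ := hP.exists_le_sylow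
  have hQc : Nat.card (Q : Subgroup H) = 8 := by
    rw [Nat.card_congr (Q.equiv d.S).toEquiv, d.card_S]
  have hQe : Subgroup.zpowers g = (Q : Subgroup H) :=
    Subgroup.eq_of_le_of_card_ge hQ (by rw [hQc, Nat.card_zpowers, hg]; norm_num)
  obtain ⟨a, ha⟩ := MulAction.exists_smul_eq H Q d.S
  have hS : ∀ s ∈ (d.S : Subgroup H), Commute (a * (g ^ 2) * a⁻¹) s := by
    intro s hs
    rw [← ha, Sylow.coe_subgroup_smul] at hs
    obtain ⟨q, hq, rfl⟩ := hs
    rw [SetLike.mem_coe, ← hQe] at hq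
    obtain ⟨i, rfl⟩ := hq
    exact (((Commute.refl g).pow_left 2).zpow_right i).map (MulAut.conj a).toMonoidHom
  refine d.not_central_four (z := a * g ^ 2 * a⁻¹) ?_ hS ?_
  · rw [← ha, Sylow.coe_subgroup_smul]
    exact ⟨g ^ 2, hQ (Subgroup.pow_mem _ (Subgroup.mem_zpowers g) 2), rfl⟩
  · rw [orderOf_conj', orderOf_pow' _ two_ne_zero, hg]
    norm_num

/-- The decomposition of an element into its 2-part and odd part. -/
theorem decomp (g : H) : ∃ t k : H, g = t * k ∧ Commute t k ∧ Odd (orderOf k) ∧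
    (t = 1 ∨ t = d.u ∨ orderOf t = 4) ∧ orderOf g = orderOf t * orderOf k := by
  obtain ⟨n, m, hm, hnm⟩ :=
    Nat.exists_eq_pow_mul_and_not_dvd (orderOf_pos g).ne' 2 (by norm_num)
  have hcop : Nat.Coprime (2 ^ n) m :=
    ((Nat.prime_two.coprime_iff_not_dvd).2 hm).pow_left n
  obtain ⟨r, hr1, hr2⟩ := Nat.chineseRemainder hcop 1 0
  have hg : ∀ i j : ℕ, i ≡ j [MOD 2 ^ n * m] → g ^ i = g ^ j := fun i j h => by
    rw [pow_eq_pow_iff_modEq, hnm]; exact h
  set t := g ^ r with ht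
  set k := t⁻¹ * g with hk
  have hc : Commute t k := by
    rw [hk, Commute, SemiconjBy]
    have : t * g = g * t := (Commute.pow_self g r).eq
    rw [mul_inv_cancel_left, mul_assoc, ← this, inv_mul_cancel_left]
  have ht2 : t ^ 2 ^ n = 1 := by
    rw [ht, ← pow_mul]
    refine orderOf_dvd_iff_pow_eq_one.1 ?_
    rw [hnm, mul_comm r]
    exact Nat.mul_dvd_mul_left _ (Nat.modEq_zero_iff_dvd.1 hr2)
  have hkm : k ^ m = 1 := by
    have hc' : Commute t⁻¹ g := (Commute.pow_self g r).inv_left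
    rw [hk, hc'.mul_pow, inv_pow, inv_mul_eq_one, ht, ← pow_mul]
    refine hg _ _ ?_
    have := hr1.mul_right' m
    rwa [one_mul] at this
  have hok : Odd (orderOf k) :=
    (Nat.not_even_iff_odd.1 fun h => hm (even_iff_two_dvd.1 h)).of_dvd_nat (orderOf_dvd_of_pow_eq_one hkm)
  obtain ⟨j, -, hj⟩ := (Nat.dvd_prime_pow Nat.prime_two).1 (orderOf_dvd_of_pow_eq_one ht2)
  refine ⟨t, k, by rw [hk, mul_inv_cancel_left], hc, hok, ?_, ?_⟩
  · have := d.two_part_dvd hj
    interval_cases j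
    · exact Or.inl (orderOf_eq_one_iff.1 (by simpa using hj))
    · exact Or.inr (Or.inl (d.inv_eq t (by simpa using hj)))
    · exact Or.inr (Or.inr (by simpa using hj))
  · conv_lhs => rw [show g = t * k from by rw [hk, mul_inv_cancel_left]]
    refine hc.orderOf_mul_eq_mul_orderOf_of_coprime ?_
    rw [hj]
    exact (Nat.coprime_two_left.2 hok).pow_left j

theorem cases3 (g : H) :
    (Odd (orderOf g) ∧ ¬ 4 ∣ orderOf g ∧ ¬ Odd (orderOf (d.u * g))) ∨
    (¬ Odd (orderOf g) ∧ ¬ 4 ∣ orderOf g ∧ Odd (orderOf (d.u * g))) ∨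
    (¬ Odd (orderOf g) ∧ 4 ∣ orderOf g ∧ 4 ∣ orderOf (d.u * g)) := by
  obtain ⟨t, k, rfl, hc, hk, ht, ho⟩ := d.decomp g
  rcases ht with rfl | rfl | h4
  · left
    rw [orderOf_one, one_mul] at ho
    refine ⟨by rwa [one_mul], fun h => ?_, fun h => ?_⟩
    · rw [one_mul] at h
      exact (Nat.not_even_iff_odd.2 hk) (even_iff_two_dvd.2 ((dvd_mul_left 2 2).trans h))
    · rw [one_mul, (d.u_central k).orderOf_mul_eq_mul_orderOf_of_coprime
        (by rw [d.u_two]; exact Nat.coprime_two_left.2 hk), d.u_two] at h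
      exact (Nat.not_even_iff_odd.2 h) (even_two_mul _)
  · right; left
    rw [d.u_two] at ho
    refine ⟨fun h => ?_, fun h => ?_, ?_⟩
    · rw [ho] at h
      exact (Nat.not_even_iff_odd.2 h) (even_two_mul _)
    · rw [ho] at h
      exact (Nat.not_even_iff_odd.2 hk) (even_iff_two_dvd.2
        (Nat.dvd_of_mul_dvd_mul_left two_pos (show 2 * 2 ∣ 2 * orderOf k from h)))
    · rwa [← mul_assoc, d.u_mul_u, one_mul]
  · right; right
    rw [h4] at ho
    refine ⟨fun h => ?_, ho ▸ dvd_mul_right _ _, ?_⟩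
    · rw [ho] at h
      exact (Nat.not_even_iff_odd.2 h) ((show Even 4 by decide).mul_right _)
    · have hut : d.u * t = t ^ 3 := by rw [← d.sq_eq h4, pow_succ, pow_two]
      rw [← mul_assoc, hut, (hc.pow_left 3).orderOf_mul_eq_mul_orderOf_of_coprime ?_]
      · exact Dvd.dvd.mul_right (by rw [orderOf_pow' _ (by norm_num), h4]; norm_num) _
      · rw [orderOf_pow' _ (by norm_num), h4]
        exact (Nat.coprime_two_left.2 hk).pow_left 2

theorem four_dvd_u_mul_iff (g : H) : 4 ∣ orderOf (d.u * g) ↔ 4 ∣ orderOf g := by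
  have h0 : ∀ n : ℕ, Odd n → ¬ 4 ∣ n := fun n hn h =>
    (Nat.not_even_iff_odd.2 hn) (even_iff_two_dvd.2 ((dvd_mul_left 2 2).trans h))
  rcases d.cases3 g with ⟨-, h2, h3⟩ | ⟨-, h2, h3⟩ | ⟨-, h2, h3⟩
  · refine iff_of_false ?_ h2
    rcases d.cases3 (d.u * g) with ⟨h, -, -⟩ | ⟨-, h, -⟩ | ⟨-, -, h⟩
    · exact h0 _ h
    · exact h
    · rw [← mul_assoc, d.u_mul_u, one_mul] at h
      exact absurd h h2
  · exact iff_of_false (h0 _ h3) h2
  · exact iff_of_true h3 h2

theorem centralizer_x : ∃ K : Subgroup H, Odd (Nat.card K) ∧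
    (∀ k, k ∈ K ↔ Commute k d.x ∧ Odd (orderOf k)) ∧
    Nat.card (Subgroup.centralizer ({d.x} : Set H)) = 4 * Nat.card K := by
  set C := Subgroup.centralizer ({d.x} : Set H) with hC
  have hxC : d.x ∈ C := Subgroup.mem_centralizer_singleton_iff.2 rfl
  obtain ⟨P⟩ : Nonempty (Sylow 2 C) := inferInstance
  have hzp : IsPGroup 2 (Subgroup.zpowers (⟨d.x, hxC⟩ : C)) :=
    IsPGroup.of_card (n := 2) (by rw [Nat.card_zpowers, ← Subgroup.orderOf_coe, d.x_four]; norm_num)
  have hnorm : (Subgroup.zpowers (⟨d.x, hxC⟩ : C)).Normal := ⟨fun a ha g => by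
    obtain ⟨i, rfl⟩ := ha
    have hg : Commute g (⟨d.x, hxC⟩ : C) :=
      Subtype.ext (Subgroup.mem_centralizer_singleton_iff.1 g.2)
    simp only
    rw [(hg.zpow_right i).eq, mul_inv_cancel_right]
    exact ⟨i, rfl⟩⟩
  have hle : Subgroup.zpowers (⟨d.x, hxC⟩ : C) ≤ (P : Subgroup C) := by
    obtain ⟨Q, hQ⟩ := hzp.exists_le_sylow
    obtain ⟨g, hg⟩ := MulAction.exists_smul_eq C Q P
    intro a ha
    rw [← hg, Sylow.coe_subgroup_smul]
    exact ⟨g⁻¹ * a * g, hQ (by simpa using hnorm.conj_mem a ha g⁻¹), by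
      simp [mul_assoc]⟩
  have hP4 : Nat.card (P : Subgroup C) = 4 := by
    have h4 : 4 ∣ Nat.card (P : Subgroup C) := by
      have := Subgroup.card_dvd_of_le hle
      rwa [Nat.card_zpowers, ← Subgroup.orderOf_coe, d.x_four] at this
    have hPmap : IsPGroup 2 ((P : Subgroup C).map C.subtype) := P.2.map _
    have hcm : Nat.card ((P : Subgroup C).map C.subtype) = Nat.card (P : Subgroup C) :=
      (Nat.card_congr (Subgroup.equivMapOfInjective _ _ C.subtype_injective).toEquiv).symm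
    have h8 := d.card_dvd_eight hPmap
    rw [hcm] at h8
    obtain ⟨c, hc⟩ := h4
    rw [hc, show (8 : ℕ) = 4 * 2 from rfl] at h8
    rcases (Nat.dvd_prime Nat.prime_two).1 (Nat.dvd_of_mul_dvd_mul_left (by norm_num) h8) with rfl | rfl
    · exact hc
    · exfalso
      obtain ⟨Q, hQ⟩ := hPmap.exists_le_sylow
      have hQe : (P : Subgroup C).map C.subtype = (Q : Subgroup H) :=
        Subgroup.eq_of_le_of_card_ge hQ (by
          rw [hcm, hc, Nat.card_congr (Q.equiv d.S).toEquiv, d.card_S])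
      obtain ⟨a, ha⟩ := MulAction.exists_smul_eq H Q d.S
      refine d.not_central_four (z := a * d.x * a⁻¹) ?_ ?_ (by rw [orderOf_conj', d.x_four])
      · rw [← ha, Sylow.coe_subgroup_smul]
        refine ⟨d.x, hQe ▸ ?_, rfl⟩
        exact ⟨⟨d.x, hxC⟩, hle (Subgroup.mem_zpowers _), rfl⟩
      · intro s hs
        rw [← ha, Sylow.coe_subgroup_smul] at hs
        obtain ⟨q, hq, rfl⟩ := hs
        rw [SetLike.mem_coe, ← hQe] at hq
        obtain ⟨q', -, rfl⟩ := hq
        exact (show Commute d.x (q' : H) from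
          (Subgroup.mem_centralizer_singleton_iff.1 q'.2).symm).map (MulAut.conj a).toMonoidHom
  have hcyc : IsCyclic (P : Subgroup C) := by
    have : Subgroup.zpowers (⟨d.x, hxC⟩ : C) = (P : Subgroup C) :=
      Subgroup.eq_of_le_of_card_ge hle (by
        rw [hP4, Nat.card_zpowers, ← Subgroup.orderOf_coe, d.x_four])
    rw [← this]
    infer_instance
  obtain ⟨K₀, hodd, hsup, hmem⟩ := Char.Exceptional.exists_odd_complement_of_cyclic P hcyc
  have hK0n : K₀.Normal := ⟨fun k hk g => by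
    rw [hmem] at hk ⊢
    rwa [orderOf_conj']⟩
  have hcop : Nat.Coprime (Nat.card K₀) (Nat.card (P : Subgroup C)) := by
    rw [hP4]
    exact (Nat.coprime_two_right.2 hodd).pow_right 2
  have hcard : Nat.card K₀ * Nat.card (P : Subgroup C) = Nat.card C :=
    (Subgroup.isComplement'_of_disjoint_and_mul_eq_univ
      (Subgroup.disjoint_of_coprime_natCard hcop)
      (by rw [← Subgroup.normal_mul, hsup, Subgroup.coe_top])).card_mul_card
  have hmap : Nat.card (K₀.map C.subtype) = Nat.card K₀ :=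
    (Nat.card_congr (Subgroup.equivMapOfInjective _ _ C.subtype_injective).toEquiv).symm
  refine ⟨K₀.map C.subtype, by rwa [hmap], fun k => ⟨?_, fun ⟨h1, h2⟩ => ?_⟩, ?_⟩
  · rintro ⟨z, hz, rfl⟩
    exact ⟨Subgroup.mem_centralizer_singleton_iff.1 z.2, by
      rw [C.subtype_apply, Subgroup.orderOf_coe]; exact (hmem z).1 hz⟩
  · exact ⟨⟨k, Subgroup.mem_centralizer_singleton_iff.2 h1⟩,
      (hmem _).2 (by rwa [← Subgroup.orderOf_coe]), rfl⟩
  · rw [← hcard, hP4, hmap, mul_comm]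

theorem exists_conj_x_mul {K : Subgroup H} (hK : ∀ k, k ∈ K ↔ Commute k d.x ∧ Odd (orderOf k))
    {g : H} (hg : 4 ∣ orderOf g) : ∃ a k : H, k ∈ K ∧ g = a * (d.x * k) * a⁻¹ := by
  obtain ⟨t, k, rfl, hc, hk, ht, ho⟩ := d.decomp g
  have hn : ∀ n : ℕ, Odd n → ¬ 4 ∣ 2 * n := fun n hn h =>
    (Nat.not_even_iff_odd.2 hn) (even_iff_two_dvd.2 (Nat.dvd_of_mul_dvd_mul_left two_pos h))
  rcases ht with rfl | rfl | h4
  · rw [one_mul] at hg
    exact absurd (Dvd.dvd.mul_left hg 2) (hn _ hk)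
  · rw [d.u_two] at ho
    exact absurd (ho ▸ hg) (hn _ hk)
  · obtain ⟨a, ha⟩ := isConj_iff.1 (d.conj4 t h4)
    refine ⟨a, a⁻¹ * k * a, (hK _).2 ⟨?_, ?_⟩, ?_⟩
    · have hx : d.x = a⁻¹ * t * a := by rw [← ha]; group
      rw [hx]
      have := hc.symm.map (MulAut.conj a⁻¹).toMonoidHom
      simpa using this
    · have := orderOf_conj' a⁻¹ k
      rw [inv_inv] at this
      rwa [this]
    · rw [← ha]; group

variable [Fintype H]

/-- The elements of order divisible by four form a quarter of the group. -/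
theorem card_section : 4 * (Finset.univ.filter fun g : H => 4 ∣ orderOf g).card = Nat.card H := by
  obtain ⟨K, hKodd, hK, hC⟩ := d.centralizer_x
  set C := Subgroup.centralizer ({d.x} : Set H)
  let Φ : H × K → H := fun p => p.1 * (d.x * p.2) * p.1⁻¹
  have h4 : ∀ k : K, 4 ∣ orderOf (d.x * k) := fun k => by
    obtain ⟨h1, h2⟩ := (hK k).1 k.2
    rw [h1.symm.orderOf_mul_eq_mul_orderOf_of_coprime
      (by rw [d.x_four]; exact (Nat.coprime_two_left.2 h2).pow_left 2), d.x_four]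
    exact dvd_mul_right _ _
  have hmaps : ∀ p ∈ (Finset.univ : Finset (H × K)),
      Φ p ∈ Finset.univ.filter fun g : H => 4 ∣ orderOf g := fun p _ =>
    Finset.mem_filter.2 ⟨Finset.mem_univ _, by simpa [Φ, orderOf_conj'] using h4 p.2⟩
  have hfib : ∀ g ∈ Finset.univ.filter (fun g : H => 4 ∣ orderOf g),
      (Finset.univ.filter fun p : H × K => Φ p = g).card = Nat.card C := by
    intro g hg
    obtain ⟨a, k₀, hk₀, hag⟩ := d.exists_conj_x_mul hK (Finset.mem_filter.1 hg).2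
    obtain ⟨n, hn⟩ : ∃ n, Nat.card K * Nat.card K = 4 * n + 1 := by
      obtain ⟨l, hl⟩ := hKodd
      exact ⟨l * l + l, by rw [hl]; ring⟩
    have hpow : ∀ k ∈ K, (d.x * k) ^ (Nat.card K * Nat.card K) = d.x := by
      intro k hk
      rw [((hK k).1 hk).1.symm.mul_pow,
        show k ^ (Nat.card K * Nat.card K) = 1 from by
          rw [pow_mul, orderOf_dvd_iff_pow_eq_one.1 (Subgroup.orderOf_dvd_natCard _ hk), one_pow],
        mul_one, hn, pow_succ, pow_mul, ← d.x_four, pow_orderOf_eq_one, one_pow, one_mul]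
    rw [← Fintype.card_subtype, ← Nat.card_eq_fintype_card]
    refine Nat.card_congr
      { toFun := fun p => ⟨a⁻¹ * p.1.1, ?_⟩
        invFun := fun c => ⟨(a * c, ⟨(c : H)⁻¹ * k₀ * c, ?_⟩), ?_⟩
        left_inv := ?_
        right_inv := fun c => Subtype.ext (by simp) }
    · have hp : p.1.1 * (d.x * p.1.2) * p.1.1⁻¹ = a * (d.x * k₀) * a⁻¹ := p.2.trans hag
      have hpw : (p.1.1 * (d.x * p.1.2) * p.1.1⁻¹) ^ (Nat.card K * Nat.card K) =
          (a * (d.x * k₀) * a⁻¹) ^ (Nat.card K * Nat.card K) := by rw [hp]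
      rw [conj_pow, conj_pow, hpow _ p.1.2.2, hpow _ hk₀] at hpw
      rw [Subgroup.mem_centralizer_singleton_iff]
      calc a⁻¹ * p.1.1 * d.x = a⁻¹ * (p.1.1 * d.x * p.1.1⁻¹) * p.1.1 := by group
        _ = a⁻¹ * (a * d.x * a⁻¹) * p.1.1 := by rw [hpw]
        _ = _ := by group
    · obtain ⟨h1, h2⟩ := (hK k₀).1 hk₀
      have hc := Subgroup.mem_centralizer_singleton_iff.1 c.2
      have hcc : Commute (c : H) d.x := hc
      refine (hK _).2 ⟨((hcc.inv_left).mul_left h1).mul_left hcc, ?_⟩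
      have := orderOf_conj' (c : H)⁻¹ k₀
      rw [inv_inv] at this
      rwa [this]
    · show a * c * (d.x * ((c : H)⁻¹ * k₀ * c)) * (a * c)⁻¹ = g
      have hcc : Commute (c : H) d.x := Subgroup.mem_centralizer_singleton_iff.1 c.2
      rw [hag, ← mul_assoc d.x, ← mul_assoc d.x, ← hcc.inv_left.eq]
      group
    · rintro ⟨⟨b, k⟩, hp⟩
      have hp' : b * (d.x * k) * b⁻¹ = a * (d.x * k₀) * a⁻¹ := hp.trans hag
      have hb : a * (a⁻¹ * b) = b := mul_inv_cancel_left a b
      refine Subtype.ext (Prod.ext hb (Subtype.ext ?_))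
      show (a⁻¹ * b)⁻¹ * k₀ * (a⁻¹ * b) = k
      have hpw : (b * (d.x * k) * b⁻¹) ^ (Nat.card K * Nat.card K) =
          (a * (d.x * k₀) * a⁻¹) ^ (Nat.card K * Nat.card K) := by rw [hp']
      rw [conj_pow, conj_pow, hpow _ k.2, hpow _ hk₀] at hpw
      have h1 : d.x * k₀ = a⁻¹ * b * (d.x * k) * (a⁻¹ * b)⁻¹ := by
        calc d.x * k₀ = a⁻¹ * (a * (d.x * k₀) * a⁻¹) * a := by group
          _ = _ := by rw [← hp']; group
      have h2 : d.x = a⁻¹ * b * d.x * (a⁻¹ * b)⁻¹ := by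
        calc d.x = a⁻¹ * (a * d.x * a⁻¹) * a := by group
          _ = _ := by rw [← hpw]; group
      have h3 : k₀ = a⁻¹ * b * k * (a⁻¹ * b)⁻¹ := by
        have : d.x * k₀ = d.x * (a⁻¹ * b * k * (a⁻¹ * b)⁻¹) := by
          conv_rhs => rw [h2]
          rw [h1]; group
        exact mul_left_cancel this
      rw [h3]; group
  have h := Finset.card_eq_sum_card_fiberwise hmaps
  rw [Finset.sum_congr rfl hfib, Finset.sum_const, smul_eq_mul, Finset.card_univ,
    Fintype.card_prod, hC, ← Nat.card_eq_fintype_card, ← Nat.card_eq_fintype_card] at h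
  refine Nat.eq_of_mul_eq_mul_right (Nat.card_pos (α := K)) ?_
  rw [h]; ring

theorem u_mem_of_even {E : Subgroup H} (h : 2 ∣ Nat.card E) : d.u ∈ E := by
  obtain ⟨e, he⟩ := exists_prime_orderOf_dvd_card' 2 h
  rw [← d.inv_eq e (by rw [Subgroup.orderOf_coe, he])]
  exact e.2

omit [Fintype H] in
/-- The structure of a nilpotent subgroup of even order. -/
theorem nilpotent_info {E : Subgroup H} (hE : Group.IsNilpotent E) :
    ∃ (K : Subgroup E) (q : ℕ), (∀ e : E, e ∈ K ↔ Odd (orderOf e)) ∧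
      Nat.card E = q * Nat.card K ∧ (q = 1 ∨ q = 2 ∨ q = 4 ∨ q = 8) ∧
      (4 ∣ q → ∃ t : E, orderOf t = 4 ∧ (∀ k ∈ K, Commute k t) ∧
        (q = 8 → ∃ s : E, s * t * s⁻¹ = t⁻¹ ∧ ∀ k ∈ K, Commute k s)) := by
  obtain ⟨P⟩ : Nonempty (Sylow 2 E) := inferInstance
  have hPn : (P : Subgroup E).Normal := by have := hE; infer_instance
  obtain ⟨K, hK⟩ := Subgroup.exists_right_complement'_of_coprime (N := (P : Subgroup E))
    P.card_coprime_index
  have hcK : Nat.card (P : Subgroup E) * Nat.card K = Nat.card E := hK.card_mul_card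
  obtain ⟨n, hn⟩ := P.2.exists_card_eq
  have hKodd : Odd (Nat.card K) := by
    rw [← Nat.not_even_iff_odd, even_iff_two_dvd]
    intro h2
    refine P.not_dvd_index ?_
    rwa [hK.symm.index_eq_card]
  have hKmem : ∀ e ∈ K, Odd (orderOf e) := fun e he =>
    hKodd.of_dvd_nat (Subgroup.orderOf_dvd_natCard _ he)
  have hPK : ∀ p ∈ (P : Subgroup E), ∀ k ∈ K, Commute p k := fun p hp k hk => by
    refine CfsgLib.OddLocal.commute_of_coprime_orderOf hE ?_
    have h2 : orderOf p ∣ 2 ^ n := hn ▸ Subgroup.orderOf_dvd_natCard _ hp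
    exact ((Nat.coprime_two_left.2 (hKmem k hk)).pow_left n).coprime_dvd_left h2
  have hmem : ∀ e : E, e ∈ K ↔ Odd (orderOf e) := by
    refine fun e => ⟨hKmem e, fun ho => ?_⟩
    obtain ⟨⟨⟨p, hp⟩, ⟨k, hk⟩⟩, rfl⟩ := hK.2 e
    have h2 : orderOf p ∣ 2 ^ n := hn ▸ Subgroup.orderOf_dvd_natCard _ hp
    have : orderOf p = 1 := by
      refine Nat.eq_one_of_dvd_coprimes ((Nat.coprime_two_left.2 ho).pow_left n) h2 ?_
      refine dvd_trans (dvd_mul_right _ (orderOf k)) ?_
      rw [← (hPK p hp k hk).orderOf_mul_eq_mul_orderOf_of_coprime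
        (((Nat.coprime_two_left.2 (hKmem k hk)).pow_left n).coprime_dvd_left h2)]
    show p * k ∈ K
    rw [orderOf_eq_one_iff.1 this, one_mul]
    exact hk
  have hPmap : IsPGroup 2 ((P : Subgroup E).map E.subtype) := P.2.map _
  have hcm : Nat.card ((P : Subgroup E).map E.subtype) = Nat.card (P : Subgroup E) :=
    (Nat.card_congr (Subgroup.equivMapOfInjective _ _ E.subtype_injective).toEquiv).symm
  have h8 := d.card_dvd_eight hPmap
  rw [hcm] at h8
  have hq : Nat.card (P : Subgroup E) = 1 ∨ Nat.card (P : Subgroup E) = 2 ∨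
      Nat.card (P : Subgroup E) = 4 ∨ Nat.card (P : Subgroup E) = 8 := by
    obtain ⟨i, hi, he⟩ := (Nat.dvd_prime_pow Nat.prime_two).1 (show _ ∣ 2 ^ 3 from h8)
    interval_cases i <;> simp [he]
  refine ⟨K, Nat.card (P : Subgroup E), hmem, hcK.symm, hq, fun h4 => ?_⟩
  obtain ⟨t, ht, htP, hs⟩ : ∃ t : E, orderOf t = 4 ∧ t ∈ (P : Subgroup E) ∧
      (Nat.card (P : Subgroup E) = 8 → ∃ s ∈ (P : Subgroup E), s * t * s⁻¹ = t⁻¹) := by
    by_cases h : Nat.card (P : Subgroup E) = 8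
    · obtain ⟨Q, hQ⟩ := hPmap.exists_le_sylow
      have hQe : (P : Subgroup E).map E.subtype = (Q : Subgroup H) :=
        Subgroup.eq_of_le_of_card_ge hQ (by
          rw [hcm, h, Nat.card_congr (Q.equiv d.S).toEquiv, d.card_S])
      obtain ⟨a, ha⟩ := MulAction.exists_smul_eq H Q d.S
      have hx := d.x_mem
      have hy := d.y_mem
      rw [← ha, Sylow.coe_subgroup_smul, ← hQe] at hx hy
      obtain ⟨x', hx', hax⟩ := hx
      obtain ⟨t, ht, rfl⟩ := hx'
      obtain ⟨y', hy', hay⟩ := hy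
      obtain ⟨s, hs, rfl⟩ := hy'
      have hax' : a * (t : H) * a⁻¹ = d.x := hax
      have hay' : a * (s : H) * a⁻¹ = d.y := hay
      refine ⟨t, ?_, ht, fun _ => ⟨s, hs, Subtype.ext ?_⟩⟩
      · rw [← Subgroup.orderOf_coe, ← orderOf_conj' a, hax', d.x_four]
      · have := d.y_conj
        rw [← hax', ← hay'] at this
        calc (s : H) * t * (s : H)⁻¹
            = a⁻¹ * (a * s * a⁻¹ * (a * t * a⁻¹) * (a * s * a⁻¹)⁻¹) * a := by group
          _ = _ := by rw [this, Subgroup.coe_inv]; group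
    · by_contra hno
      push Not at hno
      have hsub : ∀ p ∈ (P : Subgroup E), (p : H) = 1 ∨ (p : H) = d.u := fun p hp => by
        obtain ⟨i, -, hi⟩ := (Nat.dvd_prime_pow Nat.prime_two).1
          (hn ▸ Subgroup.orderOf_dvd_natCard _ hp : orderOf p ∣ 2 ^ n)
        rw [← Subgroup.orderOf_coe] at hi
        have := d.two_part_dvd hi
        interval_cases i
        · exact Or.inl (orderOf_eq_one_iff.1 (by simpa using hi))
        · exact Or.inr (d.inv_eq _ (by simpa using hi))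
        · exact absurd (hno p (by rw [← Subgroup.orderOf_coe]; simpa using hi) hp).1 h
      have : Nat.card (P : Subgroup E) ≤ 2 := by
        rw [← hcm]
        have hh : (((P : Subgroup E).map E.subtype : Subgroup H) : Set H) ⊆ {1, d.u} := by
          rintro _ ⟨p, hp, rfl⟩
          exact hsub p hp
        have := Set.ncard_le_ncard hh (Set.toFinite _)
        rw [← Nat.card_coe_set_eq] at this
        exact this.trans ((Set.ncard_insert_le _ _).trans (by simp))
      have := Nat.le_of_dvd Nat.card_pos h4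
      omega
  exact ⟨t, ht, fun k hk => (hPK t htP k hk).symm, fun h => by
    obtain ⟨s, hsP, hst⟩ := hs h
    exact ⟨s, hst, fun k hk => (hPK s hsP k hk).symm⟩⟩

end Q8Data

end CfsgLib.ZStar
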