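import Cfsg.Agent.Lib.ZStar.QuatSylow

/-!
# Sylow 2-subgroups with a generalised quaternion direct factor (Glauberman)
-/

namespace CfsgLib.ZStar

open Cfsg CfsgLib.Signalizer
open scoped IsMulCommutative

theorem not_simple_of_quaternion_factor {G : Type*} [Group G] [Finite G] (S : Sylow 2 G)
    (Q R : Subgroup G) (hQS : Q ≤ S) (hRS : R ≤ S) (hcomm : ∀ a ∈ Q, ∀ b ∈ R, a * b = b * a)
    (hinf : Q ⊓ R = ⊥) (hsup : Q ⊔ R = (S : Subgroup G)) {n : ℕ}
    (e : Q ≃* QuaternionGroup (2 ^ n)) (hn : 1 ≤ n)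
    (hR : ∀ r ∈ R, orderOf r = 2 → ∀ s ∈ R, r * s = s * r) : ¬ IsSimpleGroup G := by
  classical
  intro hG
  have : Fact (Nat.Prime 2) := ⟨Nat.prime_two⟩
  have hm0 : (2 ^ n) ≠ 0 := (Nat.two_pow_pos n).ne'
  have : NeZero (2 ^ n) := ⟨hm0⟩
  -- decomposition of elements of `S`
  have hnorm : Q ≤ Subgroup.normalizer (R : Set G) := fun a ha =>
    Subgroup.mem_normalizer_iff.2 fun b => by
      refine ⟨fun hb => by rw [hcomm a ha b hb, mul_inv_cancel_right]; exact hb, fun hb => ?_⟩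
      have h2 : b = a * b * a⁻¹ :=
        calc b = a⁻¹ * ((a * b * a⁻¹) * a) := by group
          _ = a⁻¹ * (a * (a * b * a⁻¹)) := by rw [hcomm a ha _ hb]
          _ = a * b * a⁻¹ := by rw [inv_mul_cancel_left]
      rw [h2]; exact hb
  have hdec : ∀ s ∈ (S : Subgroup G), ∃ a ∈ Q, ∃ b ∈ R, a * b = s := by
    intro s hs
    rw [← hsup, ← SetLike.mem_coe, Subgroup.coe_mul_of_left_le_normalizer_right Q R hnorm] at hs
    exact hs
  obtain ⟨p, q, hpQ, hqQ, hpq, huniq⟩ : ∃ p q : G, p ∈ Q ∧ q ∈ Q ∧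
      orderOf (p * q * p⁻¹ * q⁻¹) = 2 ∧ ∀ x ∈ Q, orderOf x = 2 → x = p * q * p⁻¹ * q⁻¹ := by
    set b : QuaternionGroup (2 ^ n) := .a 1 ^ 2 ^ (n - 1)
    have hb : b * .xa 0 * b⁻¹ * (QuaternionGroup.xa 0)⁻¹ = .a 1 ^ 2 ^ n := by
      rw [mul_inv_eq_iff_eq_mul, mul_inv_eq_iff_eq_mul]
      simp only [b, QuaternionGroup.a_one_pow, QuaternionGroup.a_mul_xa, QuaternionGroup.xa_mul_a]
      congr 1
      have h2 : ((2 * 2 ^ n : ℕ) : ZMod (2 * 2 ^ n)) = 0 := ZMod.natCast_self _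
      have h3 : (2 : ℕ) ^ n = 2 ^ (n - 1) + 2 ^ (n - 1) := by
        conv_lhs => rw [show n = n - 1 + 1 by omega, pow_succ, mul_two]
      have h4 : ((2 ^ n : ℕ) : ZMod (2 * 2 ^ n)) =
          ((2 ^ (n - 1) + 2 ^ (n - 1) : ℕ) : ZMod (2 * 2 ^ n)) := congrArg _ h3
      push_cast at h2 h4 ⊢
      linear_combination h4
    have ho : orderOf ((QuaternionGroup.a 1 : QuaternionGroup (2 ^ n)) ^ 2 ^ n) = 2 := by
      rw [orderOf_pow' _ hm0, QuaternionGroup.orderOf_a_one,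
        Nat.gcd_eq_right (Dvd.intro_left 2 rfl), Nat.mul_div_cancel _ (Nat.two_pow_pos n)]
    refine ⟨(e.symm b : Q), (e.symm (.xa 0) : Q), Subtype.coe_prop _, Subtype.coe_prop _, ?_,
      fun x hx hx2 => ?_⟩
    · rw [← Subgroup.coe_inv, ← Subgroup.coe_inv, ← Subgroup.coe_mul, ← Subgroup.coe_mul,
        ← Subgroup.coe_mul, Subgroup.orderOf_coe, ← map_inv, ← map_inv, ← map_mul, ← map_mul,
        ← map_mul, hb, MulEquiv.orderOf_eq, ho]
    · rw [← Subgroup.coe_inv, ← Subgroup.coe_inv, ← Subgroup.coe_mul, ← Subgroup.coe_mul,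
        ← Subgroup.coe_mul, ← map_inv, ← map_inv, ← map_mul, ← map_mul, ← map_mul, hb]
      have h1 : e ⟨x, hx⟩ = .a 1 ^ 2 ^ n := quaternion_unique_involution
        (by rw [MulEquiv.orderOf_eq, ← Subgroup.orderOf_coe]; exact hx2) ho
      rw [← h1, e.symm_apply_apply]
  set u := p * q * p⁻¹ * q⁻¹ with hudef
  have huQ : u ∈ Q := mul_mem (mul_mem (mul_mem hpQ hqQ) (inv_mem hpQ)) (inv_mem hqQ)
  have hu1 : u ≠ 1 := involution_ne_one hpq
  -- all involutions of `S` are central in `S`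
  set Z : Subgroup G := (S : Subgroup G) ⊓ Subgroup.centralizer ((S : Subgroup G) : Set G) with hZdef
  have : IsMulCommutative Z := ⟨⟨fun a b => Subtype.ext
    ((Subgroup.mem_centralizer_iff.1 b.2.2) a a.2.1)⟩⟩
  have huc : ∀ y ∈ Q, u * y = y * u := fun y hy => by
    have h1 : y * u * y⁻¹ = u :=
      huniq _ (mul_mem (mul_mem hy huQ) (inv_mem hy)) (by rw [Signalizer.orderOf_conj, hpq])
    exact (mul_inv_eq_iff_eq_mul.1 h1).symm
  have hcentral : ∀ x ∈ (S : Subgroup G), orderOf x = 2 → x ∈ Z := by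
    intro x hx hx2
    obtain ⟨a, ha, b, hb, rfl⟩ := hdec x hx
    have hab : Commute a b := hcomm a ha b hb
    have h2 : a ^ 2 * b ^ 2 = 1 := by rw [← hab.mul_pow, ← hx2, pow_orderOf_eq_one]
    have ha2 : a ^ 2 = 1 := by
      have : a ^ 2 ∈ Q ⊓ R := ⟨pow_mem ha 2, by
        rw [eq_inv_of_mul_eq_one_left h2]; exact R.inv_mem (R.pow_mem hb 2)⟩
      rwa [hinf, Subgroup.mem_bot] at this
    have hb2 : b ^ 2 = 1 := by rwa [ha2, one_mul] at h2
    refine ⟨hx, Subgroup.mem_centralizer_iff.2 fun s hs => ?_⟩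
    obtain ⟨c, hc, d, hd, rfl⟩ := hdec s hs
    have hcc : a * c = c * a := by
      rcases eq_or_ne a 1 with rfl | h
      · simp
      · rw [huniq a ha (orderOf_eq_two_of h (by rwa [← pow_two]))]
        exact huc c hc
    have hdd : b * d = d * b := by
      rcases eq_or_ne b 1 with rfl | h
      · simp
      · exact hR b hb (orderOf_eq_two_of h (by rwa [← pow_two])) d hd
    show c * d * (a * b) = a * b * (c * d)
    rw [(show Commute d a from (hcomm a ha d hd).symm).mul_mul_mul_comm,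
      (show Commute b c from (hcomm c hc b hb).symm).mul_mul_mul_comm, hcc, hdd]
  have huZ : u ∈ Z := hcentral u (hQS huQ) hpq
  set N := Subgroup.normalizer ((S : Subgroup G) : Set G) with hN
  have hNS : ∀ g ∈ N, ∀ x, x ∈ (S : Subgroup G) → g * x * g⁻¹ ∈ (S : Subgroup G) :=
    fun g hg x hx => (Subgroup.mem_normalizer_iff.1 hg x).1 hx
  have hQn : ∀ s ∈ (S : Subgroup G), ∀ y ∈ Q, s * y * s⁻¹ ∈ Q := by
    intro s hs y hy
    obtain ⟨c, hc, d, hd, rfl⟩ := hdec s hs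
    rw [mul_inv_rev, show c * d * y * (d⁻¹ * c⁻¹) = c * (d * y * d⁻¹) * c⁻¹ by group,
      ← hcomm y hy d hd, mul_inv_cancel_right]
    exact mul_mem (mul_mem hc hy) (inv_mem hc)
  -- the orbit of `u`
  have hV : ∀ g ∈ N, g * u * g⁻¹ ≠ u → g * u * g⁻¹ ∈ R := by
    intro g hg hne
    have hdisj : ∀ z ∈ Q, g⁻¹ * z * g ∈ Q → z = 1 := by
      intro z hz hz'
      by_contra hz1
      obtain ⟨k, hk⟩ := IsPGroup.iff_orderOf.1 S.2 ⟨z, hQS hz⟩
      rw [← Subgroup.orderOf_coe] at hk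
      simp only at hk
      rcases k with _ | k
      · rw [pow_zero, orderOf_eq_one_iff] at hk; exact hz1 hk
      · have ho : orderOf (z ^ 2 ^ k) = 2 := by
          rw [orderOf_pow_of_dvd (by positivity) (hk ▸ pow_dvd_pow 2 (by omega)), hk, pow_succ,
            Nat.mul_div_cancel_left _ (by positivity)]
        have h1 := huniq _ (pow_mem hz _) ho
        have h2 : (g⁻¹ * z * g) ^ 2 ^ k = u := by
          refine huniq _ (pow_mem hz' _) ?_
          have e1 : (g⁻¹ * z * g) ^ 2 ^ k = g⁻¹ * z ^ 2 ^ k * (g⁻¹)⁻¹ := by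
            rw [← conj_pow, inv_inv]
          rw [e1, Signalizer.orderOf_conj, ho]
        refine hne ?_
        conv_lhs => rw [← h2]
        conv_rhs => rw [← h1]
        rw [← conj_pow]
        group
    have hQc : ∀ y ∈ Q, ∀ z ∈ Q, g * y * g⁻¹ * z = z * (g * y * g⁻¹) := by
      intro y hy z hz
      have hgy : g * y * g⁻¹ ∈ (S : Subgroup G) := hNS g hg y (hQS hy)
      have h1 : g * y * g⁻¹ * z * (g * y * g⁻¹)⁻¹ * z⁻¹ ∈ Q :=
        mul_mem (hQn _ hgy z hz) (inv_mem hz)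
      have hz'' : g⁻¹ * z * g ∈ (S : Subgroup G) := by
        have := hNS g⁻¹ (inv_mem hg) z (hQS hz)
        rwa [inv_inv] at this
      have h2 : g⁻¹ * (g * y * g⁻¹ * z * (g * y * g⁻¹)⁻¹ * z⁻¹) * g ∈ Q := by
        have := mul_mem hy (hQn _ hz'' y⁻¹ (inv_mem hy))
        convert this using 1; group
      have h3 := hdisj _ h1 h2
      rw [mul_inv_eq_one, mul_inv_eq_iff_eq_mul] at h3
      exact h3
    have key : ∀ y ∈ Q, ∃ r ∈ R, ∃ c ∈ Z, g * y * g⁻¹ = c * r := by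
      intro y hy
      have hgyS : g * y * g⁻¹ ∈ (S : Subgroup G) := hNS g hg y (hQS hy)
      obtain ⟨c, hc, r, hr, hcr⟩ := hdec _ hgyS
      refine ⟨r, hr, c, ⟨hQS hc, Subgroup.mem_centralizer_iff.2 fun s hs => ?_⟩, hcr.symm⟩
      obtain ⟨a, ha, b, hb, rfl⟩ := hdec s hs
      have h1 : c * a = a * c := by
        have := hQc y hy a ha
        rw [← hcr, mul_assoc, ← hcomm a ha r hr, ← mul_assoc, ← mul_assoc] at this
        exact mul_right_cancel this
      rw [mul_assoc, ← hcomm c hc b hb, ← mul_assoc, ← h1, mul_assoc]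
    obtain ⟨r, hr, c, hc, hcr⟩ := key p hpQ
    obtain ⟨s, hs, d, hd, hds⟩ := key q hqQ
    have hcd : ∀ x ∈ Z, ∀ t ∈ (S : Subgroup G), Commute x t := fun x hx t ht =>
      (Subgroup.mem_centralizer_iff.1 hx.2 t ht).symm
    have : g * u * g⁻¹ = r * s * r⁻¹ * s⁻¹ := by
      calc g * u * g⁻¹ = (g * p * g⁻¹) * (g * q * g⁻¹) * (g * p * g⁻¹)⁻¹ * (g * q * g⁻¹)⁻¹ := by
            rw [hudef]; group
        _ = c * (r * (d * s) * r⁻¹) * c⁻¹ * (d * s)⁻¹ := by rw [hcr, hds]; group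
        _ = (r * (d * s) * r⁻¹) * (d * s)⁻¹ := by
            rw [(hcd c hc _ (mul_mem (mul_mem (hRS hr) (mul_mem hd.1 (hRS hs)))
              (inv_mem (hRS hr)))).eq, mul_inv_cancel_right]
        _ = (d * r) * s * r⁻¹ * s⁻¹ * d⁻¹ := by
            rw [(hcd d hd r (hRS hr)).eq]; group
        _ = d * (r * s * r⁻¹ * s⁻¹) * d⁻¹ := by group
        _ = r * s * r⁻¹ * s⁻¹ := by
            rw [(hcd d hd _ (mul_mem (mul_mem (mul_mem (hRS hr) (hRS hs)) (inv_mem (hRS hr)))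
              (inv_mem (hRS hs)))).eq, mul_inv_cancel_right]
    rw [this]
    exact mul_mem (mul_mem (mul_mem hr hs) (inv_mem hr)) (inv_mem hs)
  -- a fixed involution
  have hconjZ : ∀ g ∈ N, ∀ z ∈ Z, g * z * g⁻¹ ∈ Z := by
    intro g hg z hz
    refine ⟨hNS g hg z hz.1, Subgroup.mem_centralizer_iff.2 fun s hs => ?_⟩
    have hs' := hNS g⁻¹ (inv_mem hg) s hs
    rw [inv_inv] at hs'
    have h := Subgroup.mem_centralizer_iff.1 hz.2 _ hs'
    calc s * (g * z * g⁻¹) = g * ((g⁻¹ * s * g) * z) * g⁻¹ := by group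
      _ = g * (z * (g⁻¹ * s * g)) * g⁻¹ := by rw [h]
      _ = g * z * g⁻¹ * s := by group
  have := Fintype.ofFinite Z
  set T : Finset Z := Finset.univ.filter (fun z : Z => ∃ g ∈ N, g * u * g⁻¹ = z) with hT
  set w : Z := ∏ z ∈ T, z with hw
  have hwfix : ∀ g ∈ N, g * (w : G) * g⁻¹ = w := by
    intro g hg
    let f : Z →* Z := ((MulAut.conj g).toMonoidHom.comp Z.subtype).codRestrict Z
      fun z => hconjZ g hg z z.2
    have hf : Function.Injective f := fun a b h => Subtype.ext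
      ((MulAut.conj g).injective (congrArg Subtype.val h))
    have h1 : T.image f = T := by
      refine Finset.eq_of_subset_of_card_le (fun z hz => ?_) ?_
      · obtain ⟨x, hx, rfl⟩ := Finset.mem_image.1 hz
        obtain ⟨k, hk, hkx⟩ := (Finset.mem_filter.1 hx).2
        refine Finset.mem_filter.2 ⟨Finset.mem_univ _, g * k, mul_mem hg hk, ?_⟩
        show _ = g * (x : G) * g⁻¹
        rw [← hkx]; group
      · rw [Finset.card_image_of_injective _ hf]
    have h2 : f w = w := by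
      rw [hw, map_prod]
      conv_rhs => rw [← h1, Finset.prod_image fun a _ b _ h => hf h]
    exact congrArg Subtype.val h2
  have huT : (⟨u, huZ⟩ : Z) ∈ T :=
    Finset.mem_filter.2 ⟨Finset.mem_univ _, 1, one_mem _, by simp⟩
  have hrest : ∏ z ∈ T.erase ⟨u, huZ⟩, z ∈ R.subgroupOf Z := by
    refine Subgroup.prod_mem _ fun z hz => ?_
    obtain ⟨hne, hz⟩ := Finset.mem_erase.1 hz
    obtain ⟨g, hg, hgz⟩ := (Finset.mem_filter.1 hz).2
    show (z : G) ∈ R
    rw [← hgz]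
    exact hV g hg fun h => hne (Subtype.ext (hgz.symm.trans h))
  have hwne : w ≠ 1 := fun h => by
    rw [hw, ← Finset.mul_prod_erase _ _ huT] at h
    have h1 : (⟨u, huZ⟩ : Z) ∈ R.subgroupOf Z := by
      rw [eq_inv_of_mul_eq_one_left h]; exact inv_mem hrest
    have : u ∈ Q ⊓ R := ⟨huQ, h1⟩
    rw [hinf, Subgroup.mem_bot] at this
    exact hu1 this
  have hw2 : orderOf (w : G) = 2 := by
    rw [Subgroup.orderOf_coe]
    refine orderOf_eq_prime ?_ hwne
    rw [hw, ← Finset.prod_pow]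
    refine Finset.prod_eq_one fun z hz => Subtype.ext ?_
    obtain ⟨g, -, hgz⟩ := (Finset.mem_filter.1 hz).2
    rw [Subgroup.coe_pow, ← hgz, conj_pow, ← hpq, pow_orderOf_eq_one]
    simp
  have hiso : ∀ g : G, g * (w : G) * g⁻¹ ∈ S → g * (w : G) * g⁻¹ = w := by
    intro g hg
    have h1 := (hcentral _ hg (by rw [Signalizer.orderOf_conj, hw2])).2
    obtain ⟨m, hm, hmw⟩ := S.conj_eq_normalizer_conj_of_mem_centralizer (w : G) g⁻¹ w.2.2
      (by rwa [inv_inv])
    rw [inv_inv] at hmw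
    rw [hmw]
    have := hwfix m⁻¹ (inv_mem hm)
    rwa [inv_inv] at this
  have hz := mem_oddCore_of_sylow S hw2 w.2.1 hiso
  rcases hG.eq_bot_or_eq_top_of_normal (oddCore G) inferInstance with hO | hO
  · have hwc : (w : G) ∈ Subgroup.center G := Subgroup.mem_center_iff.2 fun g => by
      have h := hz g
      rw [hO, Subgroup.mem_bot, mul_inv_eq_one, mul_inv_eq_iff_eq_mul] at h
      exact h.symm
    rcases hG.eq_bot_or_eq_top_of_normal (Subgroup.center G) inferInstance with hc | hc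
    · rw [hc, Subgroup.mem_bot] at hwc
      exact involution_ne_one hw2 hwc
    · refine hu1 ?_
      have : p ∈ Subgroup.center G := by rw [hc]; exact Subgroup.mem_top p
      rw [hudef, ← Subgroup.mem_center_iff.1 this q, mul_inv_cancel_right, mul_inv_cancel]
  · have h := odd_card_oddCore G
    rw [hO, Subgroup.card_top] at h
    have h2 : orderOf u ∣ Nat.card G := orderOf_dvd_natCard u
    rw [hpq] at h2
    exact Nat.not_even_iff_odd.2 h (even_iff_two_dvd.2 h2)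

end CfsgLib.ZStar
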